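import Cfsg.Agent.KM.Si.Defs2
import Cfsg.Agent.TO.E6.Tool
import Cfsg.Agent.TO.X.Conn

/-!
# S4576, the strict inequality: `boxL_of : BoxG → BoxE → BoxL` (helper82)
-/

set_option autoImplicit false
set_option linter.unusedSectionVars false

namespace Cfsg.Agent.KM.Si

open Cfsg Cfsg.Agent.DL Cfsg.Agent.KM.Ht Cfsg.Agent.Nodes.Reps Cfsg.Agent.Nodes.BNOf Matrix

namespace Lb

variable {p : ℕ} [Fact p.Prime] {k : Type} [Field k] [CharP k p] {Y : Type} [Group Y] {N : Type} [Fintype N]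
  [DecidableEq N] {ρ : Y →* GL N k} {F : MulAut Y} {G : Subgroup Y} [IsAlgClosed k] (X : Datum p ρ F G)

/-- large primes: the automizers are bounded by the order of the Weyl group -/
theorem sw {r : ℕ} (hr : r.Prime) (hp : r ≠ p) (hW : Nat.card X.W < r) : Sw (Nat.card X.W) r ↥(GF F G) := by
  intro R hR
  have := Fact.mk hr
  refine ⟨(boxS X r hr hp hW R hR).1, ?_⟩
  obtain ⟨y, hy, -, -, h⟩ := TO.X11.toral (D := X) hp (Nat.not_dvd_of_pos_of_lt Nat.card_pos hW) hR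
    ((GF F G).subtype.comp R.subtype) fun u => (u : GF F G).2
  have h1 : ∀ u : GF F G, u ∈ R → y⁻¹ * (u : Y) * y ∈ X.T := fun u hu => h ⟨u, hu⟩
  have key : ∀ g : Subgroup.normalizer (R : Set (GF F G)), ∃ m ∈ X.NN, ∀ u : R,
      m * (y⁻¹ * ((u : GF F G) : Y) * y) = y⁻¹ * (((g : GF F G) * u * (g : GF F G)⁻¹ : GF F G) : Y) * y * m := fun g => by
    obtain ⟨-, -, m, hm, e, -⟩ := X.exists_conj_form (s := fun u : R => y⁻¹ * ((u : GF F G) : Y) * y)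
      (t := fun u : R => y⁻¹ * (((g : GF F G) * u * (g : GF F G)⁻¹ : GF F G) : Y) * y) (fun u => h1 _ u.2)
      (fun u => h1 _ ((Subgroup.mem_normalizer_iff.1 g.2 _).1 u.2))
      (mul_mem (mul_mem (inv_mem hy) (g : GF F G).2.1) hy) fun u => by
        simp only [Subgroup.coe_mul, Subgroup.coe_inv]
        group
    exact ⟨m, hm, e⟩
  choose m hm e using key
  refine Nat.card_le_card_of_injective (fun q => X.pr (m q.out)) fun q q' h2 => ?_
  rw [← q.out_eq, ← q'.out_eq, QuotientGroup.eq, Subgroup.mem_subgroupOf, Subgroup.mem_centralizer_iff]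
  intro u hu
  have h3 : X.pr (m q.out) = X.pr (m q'.out) := h2
  have h4 := X.T_comm ((X.rp_pr (hm q.out)).unique (h3 ▸ X.rp_pr (hm q'.out))) (h1 u hu)
  have h5 := e q.out ⟨u, hu⟩
  have h6 := e q'.out ⟨u, hu⟩
  simp only [Subgroup.coe_mul, Subgroup.coe_inv] at h5 h6
  refine Subtype.ext ?_
  simp only [Subgroup.coe_mul, Subgroup.coe_inv]
  set a : Y := q.out.1.1
  set b : Y := q'.out.1.1
  have h7 : y⁻¹ * (a * u * a⁻¹) * y = y⁻¹ * (b * u * b⁻¹) * y :=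
    calc y⁻¹ * (a * u * a⁻¹) * y = m q.out * (y⁻¹ * u * y) * (m q.out)⁻¹ := by rw [h5]; group
      _ = m q.out * (y⁻¹ * u * y * ((m q.out)⁻¹ * m q'.out)) * (m q'.out)⁻¹ := by group
      _ = m q'.out * (y⁻¹ * u * y) * (m q'.out)⁻¹ := by rw [← h4]; group
      _ = _ := by rw [h6]; group
  have h8 : a * u * a⁻¹ = b * u * b⁻¹ := mul_left_cancel (mul_right_cancel h7)
  calc (u : Y) * (a⁻¹ * b) = a⁻¹ * (a * u * a⁻¹) * b := by group
    _ = a⁻¹ * b * u := by rw [h8]; group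

/-- centralisers of sets of elements of order prime to the order of `W` are connected -/
theorem mem_cen {Z : Set Y} (hZ : Z ⊆ X.T) (h0 : TO.E6.Cop Z (Nat.card X.W)) {y : Y} (hy : y ∈ G)
    (hc : y ∈ Subgroup.centralizer Z) : y ∈ X.cen Z := by
  obtain ⟨w, m, -, -, h⟩ := TO.X.Cn.exists_rep_pow X hZ hy hc
  exact TO.E6.mem_cen_of_cop X hZ hy hc Nat.card_pos h0 ((h _).2 (by rw [pow_card_eq_one']; exact one_mem _))

theorem cen_of_all {Z : Set Y} (h : ∀ a, X.Rt a → a ∈ X.Sz Z) : G ≤ X.cen Z :=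
  X.G_eq.ge.trans (sup_le_sup_left (RGD.Sup_mono h) _)

theorem mon_sum {R ι : Type} [Fintype R] (s : Finset ι) (A : ι → Matrix R R ℤ) (c : R → kˣ) :
    mon (∑ i ∈ s, A i) c = ∏ i ∈ s, mon (A i) c := by
  classical
  induction s using Finset.induction_on with
  | empty =>
    funext i
    simp [mon_apply, chr_apply]
  | insert j s hj ih => rw [Finset.sum_insert hj, Finset.prod_insert hj, mon_add, ih]

/-- a power of a central element of `T` lies in the connected centre -/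
theorem pow_mem_Z0 {z : Y} (hz : z ∈ X.T) (h : ∀ a, X.Rt a → X.χ a z = 1) : z ^ Nat.card X.W ∈ Z0 X ∅ := by
  classical
  have := Fintype.ofFinite X.W
  obtain ⟨c, rfl⟩ := (X.mem_T z).1 hz
  have h1 : ∀ w, mon (X.Wm w) c = c := fun w => by
    obtain ⟨m, hm, -⟩ := X.exists_rp w
    have h2 := X.cen_le_centralizer (Set.singleton_subset_iff.2 hz)
      (cen_of_all X (Z := {X.τ c}) (fun a ha => ⟨ha, fun _ e => e ▸ h a ha⟩) (Datum.Rp.mem_G hm))
    refine X.τ_inj ?_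
    rw [← X.conj_τ hm, Subgroup.mem_centralizer_singleton_iff.1 h2, mul_inv_cancel_right]
  have h2 : c ^ Nat.card X.W = ∏ j, coch ((∑ w, X.Wm w) *ᵥ Pi.single j 1) (c j) := by
    simp only [← mon_coch]
    rw [← map_prod, prod_coch_single, mon_sum, Nat.card_eq_fintype_card]
    simp only [h1, Finset.prod_const, Finset.card_univ]
  rw [← map_pow, h2]
  refine Subgroup.prod_mem ((Z0 X ∅).comap X.τ) fun j _ => mem_Z0 (fun b hb => ?_) _
  have h3 : X.Wm (X.rf b) * ∑ w, X.Wm w = ∑ w, X.Wm w := by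
    rw [Finset.mul_sum]
    simp only [← X.Wm_mul]
    exact Equiv.sum_comp (Equiv.mulLeft (X.rf b)) X.Wm
  have h4 := X.wt_act (X.rf b) (-b)
  rw [show X.act (X.rf b) (-b) = b by
    rw [Datum.act, map_neg, ← Datum.act, X.act_rf_self hb.1, neg_neg], map_neg] at h4
  have h5 : X.wt b ᵥ* ∑ w, X.Wm w = -(X.wt b ᵥ* ∑ w, X.Wm w) := by
    conv_lhs => rw [← h3, ← vecMul_vecMul, h4, neg_vecMul]
  have h6 : X.wt b ᵥ* ∑ w, X.Wm w = 0 := funext fun i => by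
    have := congrFun h5 i
    rw [Pi.neg_apply] at this
    rw [Pi.zero_apply]
    omega
  rw [dotProduct_mulVec, h6, zero_dotProduct]

/-- the kernel of a root in `T ^ F` -/
def ker (a : X.I → ℤ) : Subgroup ↥(GF F G) where
  carrier := {s | (s : Y) ∈ X.T ∧ X.χ a s = 1}
  one_mem' := ⟨X.T.one_mem, X.χ_one a⟩
  mul_mem' := fun {s t} hs ht => ⟨X.T.mul_mem hs.1 ht.1, by
    rw [Subgroup.coe_mul, X.χ_mul a hs.1 ht.1, hs.2, ht.2, mul_one]⟩
  inv_mem' := fun {s} hs => ⟨X.T.inv_mem hs.1, by rw [Subgroup.coe_inv, X.χ_inv a hs.1, hs.2, inv_one]⟩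

theorem exists_U (S : Subgroup ↥(GF F G)) (hT : ∀ s ∈ S, (s : Y) ∈ X.T)
    (hc : ∀ s ∈ S, ∃ m : ℕ, m.Coprime (Nat.card X.W) ∧ s ^ m = 1) :
    ∃ n' ≤ Nat.card {a // X.Rt a}, ∃ U : Fin n' → Subgroup ↥(GF F G), (∀ i, ¬ S ≤ U i) ∧ ∀ s ∈ S, (∀ i, s ∉ U i) →
      Subgroup.centralizer ({s} : Set ↥(GF F G)) ≤ Subgroup.centralizer (S : Set ↥(GF F G)) := by
  have : Finite {a // X.Rt a} := X.finite_roots
  let B := {a : {a // X.Rt a} // ¬ S ≤ ker X a.1}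
  refine ⟨Nat.card B, Nat.card_le_card_of_injective Subtype.val Subtype.val_injective,
    fun i => ker X ((Finite.equivFin B).symm i).1.1, fun i => ((Finite.equivFin B).symm i).2, fun s hs hU x hx => ?_⟩
  have h1 : (x : Y) ∈ X.cen {(s : Y)} := by
    refine mem_cen X (Set.singleton_subset_iff.2 (hT s hs)) ?_ x.2.1
      (Subgroup.mem_centralizer_singleton_iff.2 (congrArg Subtype.val (Subgroup.mem_centralizer_singleton_iff.1 hx)))
    rintro _ rfl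
    obtain ⟨m, h1, h2⟩ := hc s hs
    exact ⟨m, h1, congrArg Subtype.val h2⟩
  have h2 : X.Sz {(s : Y)} ⊆ X.Sz (Subtype.val '' (S : Set ↥(GF F G))) := fun a ha => by
    refine ⟨ha.1, ?_⟩
    rintro _ ⟨u, hu, rfl⟩
    by_contra h3
    have h4 := hU (Finite.equivFin B ⟨⟨a, ha.1⟩, fun h => h3 (h hu).2⟩)
    simp only [Equiv.symm_apply_apply] at h4
    exact h4 ⟨hT s hs, ha.2 _ rfl⟩
  have h3 := X.cen_le_centralizer (Z := Subtype.val '' (S : Set ↥(GF F G))) (by rintro _ ⟨u, hu, rfl⟩; exact hT u hu)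
    ((sup_le_sup_left (RGD.Sup_mono h2) _ : X.cen _ ≤ X.cen _) h1)
  exact fun u hu => Subtype.ext (h3 u ⟨u, hu, rfl⟩)

include X in
theorem fact_le {G' H : Subgroup Y} (S : Subgroup ↥(GF F G')) (h : ∀ s ∈ S, (s : Y) ∈ H) (r : ℕ) :
    (Nat.card S).factorization r ≤ (Nat.card ↥(GF F H)).factorization r := by
  have := X.amb.finite_GF H
  have := X.amb.finite_GF G'
  have h1 : Nat.card S ∣ Nat.card ↥(GF F H) :=
    Subgroup.card_dvd_of_injective (((GF F G').subtype.comp S.subtype).codRestrict (GF F H) fun s => ⟨h _ s.2, s.1.2.2⟩)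
      fun a b e => Subtype.ext (Subtype.ext (congrArg (fun x : GF F H => (x : Y)) e))
  exact (Nat.factorization_le_iff_dvd Nat.card_pos.ne' Nat.card_pos.ne').2 h1 r

variable {Z : Set Y} (hZ : Z ⊆ X.T) (hF : ∀ a ∈ X.Sz Z, X.g a ∈ X.Sz Z)

theorem sub_Wm (v : (X.sub hZ hF rfl).W) : (X.sub hZ hF rfl).Wm v = X.Wm (X.subW Z v) := by
  obtain ⟨m, hm, -⟩ := (X.sub hZ hF rfl).exists_rp v
  exact mon_inj (k := k) fun c => X.τ_inj
    (((X.sub hZ hF rfl).conj_τ hm c).symm.trans (X.conj_τ (X.rp_of_sub hZ hF rfl hm) c))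

theorem Z0_sub_le {A : Set Y} (h : Z ⊆ Z0 X A) : Z0 (X.sub hZ hF rfl) ∅ ≤ Z0 X A := by
  refine (Subgroup.closure_le _).2 ?_
  rintro _ ⟨v, a, hv, rfl⟩
  refine mem_Z0 (X := X) (fun b hb => ?_) a
  have h1 : b ∈ X.Sz Z := ⟨hb.1, fun z hz => (Sz_le_Z0 X A hb).2 z (h hz)⟩
  rw [← X.io_roots] at h1
  obtain ⟨c, hc, rfl⟩ := h1
  exact hv c ⟨hc, fun _ hz => hz.elim⟩

theorem card_sub_le : Nat.card (X.sub hZ hF rfl).W ≤ Nat.card X.W :=
  Nat.card_le_card_of_injective _ (X.subW_injective Z)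

theorem mem_Z0_sub {z : Y} (hz : z ∈ Z) {r n : ℕ} (hr : r.Prime) (hW : Nat.card X.W < r) (h : z ^ r ^ n = 1) :
    z ∈ Z0 (X.sub hZ hF rfl) ∅ := by
  have h1 := pow_mem_Z0 (X.sub hZ hF rfl) (hZ hz) fun a ha => ((X.sub_rt hZ hF rfl).1 ha).2 z hz
  refine Subgroup.zpowers_le.2 h1 (mem_zpowers_pow_iff.2 ?_)
  have := (X.sub hZ hF rfl).fW
  have h2 : r.Coprime (Nat.card (X.sub hZ hF rfl).W) := hr.coprime_iff_not_dvd.2
    (Nat.not_dvd_of_pos_of_lt Nat.card_pos ((card_sub_le X hZ hF).trans_lt hW))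
  exact ((h2.pow_left n).coprime_dvd_left (orderOf_dvd_of_pow_eq_one h)).symm

end Lb

open Lb in
/-- **one level** -/
theorem boxL_of (hG : BoxG) (hE : BoxE) : BoxL := by
  intro p _ k _ _ Y _ N _ _ ρ F G _ X _ q d l t π M hM hlp ht hLq hAr hπ A T hT hST ψ hψ hx
  classical
  have hW : 0 < Nat.card X.W := Nat.card_pos
  have hb : ∀ r, π r → 2 ^ Nat.card {a // X.Rt a} * Nat.card X.W < r ∧ Nat.card {a // X.Rt a} < r ∧
      Nat.card X.W < r ∧ Nat.card X.W ^ 2 < r := fun r hr => by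
    have h1 : 2 ^ Nat.card {a // X.Rt a} * Nat.card X.W ^ 2 < r := (hπ r hr).2.2.2
    have h2 : Nat.card {a // X.Rt a} < 2 ^ Nat.card {a // X.Rt a} := Nat.lt_two_pow_self
    have h3 : Nat.card X.W ≤ Nat.card X.W ^ 2 := Nat.le_self_pow two_ne_zero _
    have h4 := Nat.mul_le_mul_left (2 ^ Nat.card {a // X.Rt a}) h3
    have h5 := Nat.le_mul_of_pos_right (2 ^ Nat.card {a // X.Rt a}) hW
    have h6 := Nat.le_mul_of_pos_left (Nat.card X.W ^ 2) (Nat.two_pow_pos (Nat.card {a // X.Rt a}))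
    omega
  let π₀ := (Nat.card ↥(GF F G)).primeFactors.filter π
  have hπ₀ : ∀ r ∈ π₀, π r := fun r hr => (Finset.mem_filter.1 hr).2
  let Z : Set Y := {y | ∃ r ∈ π₀, ∃ s ∈ rZ X A (GF F G) r, (s : Y) = y}
  have hZA : Z ⊆ Z0 X A := by
    rintro _ ⟨r, -, s, hs, rfl⟩
    exact hs.1
  have hZ : Z ⊆ X.T := hZA.trans (Z0_le_T X A)
  have hF : ∀ a ∈ X.Sz Z, X.g a ∈ X.Sz Z := fun _ => X.g_mem_Sz hZ fun z hz => by
    obtain ⟨r, hr, s, hs, rfl⟩ := hz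
    exact ⟨r, hr, s, hs, (mem_fix.1 s.2.2).symm⟩
  have hcop : ∀ r, π r → ∀ s ∈ rZ X A (GF F G) r, ∃ m : ℕ, m.Coprime (Nat.card X.W) ∧ s ^ m = 1 := by
    rintro r hr s ⟨-, n, hn⟩
    exact ⟨r ^ n, ((hπ r hr).1.coprime_iff_not_dvd.2 (Nat.not_dvd_of_pos_of_lt hW (hb r hr).2.2.1)).pow_left n, hn⟩
  have := X.amb.finite_GF (X.cen Z)
  have hle : GF F (X.cen Z) ≤ GF F G := fun z hz => ⟨X.cen_le_G Z hz.1, hz.2⟩
  refine hG _ _ (Subgroup.inclusion hle) (Subgroup.inclusion_injective hle) l (Nat.card X.W) (Nat.card {a // X.Rt a}) M hM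
    π₀ (rZ X A (GF F G)) T (fun h => (hπ l (hπ₀ l h)).2.2.1 rfl)
    (fun a ha b hb => Subtype.ext (X.T_comm (hT a ha) (hT b hb))) (fun x => ⟨?_, fun h => ?_⟩)
    (fun r hr => ⟨(hπ r (hπ₀ r hr)).1, (hb r (hπ₀ r hr)).1, (hb r (hπ₀ r hr)).2.1,
      sw X (hπ r (hπ₀ r hr)).1 (hπ r (hπ₀ r hr)).2.1 (hb r (hπ₀ r hr)).2.2.1, rZ_p X A _ r, hST r (hπ₀ r hr),
      exists_U X _ (fun s hs => Z0_le_T X A hs.1) (hcop r (hπ₀ r hr))⟩)
    (rZ (X.sub hZ hF rfl) ∅ (GF F (X.cen Z)) l) (rZ_p _ _ _ l) (fun z hz => ?_) (fun θ hθ => ?_) ψ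
    (fun r hr => (hψ r (hπ₀ r hr)).trans (Nat.add_le_add_left (rZ_card X A F (hπ r (hπ₀ r hr)).1) _))
    fun x h => (fact_le X (rZ (X.sub hZ hF rfl) ∅ (GF F (X.cen Z)) l) (fun s hs => Z0_sub_le X hZ hF hZA hs.1) l).trans_lt (hx x h)
  · rintro ⟨x, rfl⟩ r hr s hs
    exact Subtype.ext (X.cen_le_centralizer hZ x.2.1 s ⟨r, hr, s, hs, rfl⟩).symm
  · refine ⟨⟨x, mem_cen X hZ ?_ x.2.1 ?_, x.2.2⟩, rfl⟩
    · rintro _ ⟨r, hr, s, hs, rfl⟩
      obtain ⟨m, h1, h2⟩ := hcop r (hπ₀ r hr) s hs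
      exact ⟨m, h1, congrArg Subtype.val h2⟩
    · rintro _ ⟨r, hr, s, hs, rfl⟩
      exact congrArg Subtype.val (h r hr s hs).symm
  · exact Subgroup.mem_center_iff.2 fun g => Subtype.ext (cen_comm_Z0 (X.sub hZ hF rfl) ∅
      (cen_of_all (X.sub hZ hF rfl) (fun a ha => ⟨ha, fun _ h => h.elim⟩) g.2.1) hz.1)
  · refine (hE (X.sub hZ hF rfl) q d l t π hM.1 hlp ht (fun v => ?_) hAr (fun r hr => ⟨(hπ r hr).1, (hπ r hr).2.1,
      (Nat.pow_le_pow_left (card_sub_le X hZ hF) 2).trans_lt (hb r hr).2.2.2⟩) θ fun r hr => ?_).trans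
      (Nat.add_le_add_left (rZ_card (X.sub hZ hF rfl) ∅ F hM.1) _)
    · rw [sub_Wm]
      exact hLq _
    · by_cases h : r ∣ Nat.card ↥(GF F G)
      · have h1 : r ∈ π₀ := Finset.mem_filter.2 ⟨Nat.mem_primeFactors.2 ⟨(hπ r hr).1, h, Nat.card_pos.ne'⟩, hr⟩
        refine (hθ r h1).trans (Nat.add_le_add_left (fact_le X _ (fun s hs => ?_) r) _)
        obtain ⟨n, hn⟩ := hs.2
        exact mem_Z0_sub X hZ hF ⟨r, h1, s, hs, rfl⟩ (hπ r hr).1 (hb r hr).2.2.1 (congrArg Subtype.val hn)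
      · refine le_of_eq_of_le (Nat.factorization_eq_zero_of_not_dvd fun h1 => h (h1.trans ?_)) (Nat.zero_le _)
        exact Subgroup.card_dvd_of_le hle

end Cfsg.Agent.KM.Si
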