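import Cfsg.Agent.KM.Si.Defs
import Cfsg.Agent.KM.Ht.Lev
import Cfsg.Agent.S0969
import Cfsg.Agent.S3952
import Cfsg.Agent.H669.Basic
import Cfsg.Agent.Characters.Linear
import Cfsg.Agent.Blocks.ExistsModular

/-!
# S4576, the strict inequality: characters of central defect (helper57)
-/

set_option autoImplicit false
set_option linter.unusedSectionVars false

namespace Cfsg.Agent.KM.Si

open Cfsg Cfsg.Agent.DL Cfsg.Agent.KM.Ht Cfsg.Agent.Nodes.Reps Cfsg.Agent.Characters.Core Polynomial Matrix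

namespace Ee

/-! ### finite groups -/

/-- a linear character of a subgroup which meets the commutator subgroup trivially extends -/
theorem exists_ext {H : Type} [Group H] [Finite H] (A : Subgroup H) (h : A ⊓ commutator H = ⊥) (ω : A →* ℂˣ) :
    ∃ μ : H →* ℂˣ, ∀ a : A, μ a = ω a := by
  let i : A →* Abelianization H := Abelianization.of.comp A.subtype
  have hi : Function.Injective i := by
    rw [injective_iff_map_eq_one]
    intro a ha
    have h1 : (a : H) ∈ commutator H := by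
      rw [← Abelianization.ker_of]
      exact ha
    exact Subtype.ext (Subgroup.mem_bot.1 (h ▸ Subgroup.mem_inf.2 ⟨a.2, h1⟩))
  have : Finite (Abelianization H) := Finite.of_surjective _ (QuotientGroup.mk_surjective (s := commutator H))
  have : NeZero (Monoid.exponent (Abelianization H)) := ⟨Monoid.exponent_ne_zero_of_finite⟩
  obtain ⟨ν, hν⟩ := MonoidHom.domRestrict_surjective (M := ℂ) i.range
    (ω.comp (MonoidHom.ofInjective hi).symm.toMonoidHom)
  refine ⟨ν.comp Abelianization.of, fun a => ?_⟩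
  have h2 := DFunLike.congr_fun hν (MonoidHom.ofInjective hi a)
  simp only [MonoidHom.comp_apply, MulEquiv.coe_toMonoidHom, MulEquiv.symm_apply_apply] at h2
  exact h2

/-- an `l`-element lies in a subgroup of an abelian group with the full `l`-part -/
theorem mem_of_val {K : Type} [Group K] [Finite K] (B : Subgroup K) [B.Normal] {l : ℕ} (hl : l.Prime)
    (h : (Nat.card K).factorization l ≤ (Nat.card B).factorization l) {u : K} {n : ℕ} (hu : u ^ l ^ n = 1) : u ∈ B := by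
  have h1 := B.card_mul_index
  have h2 : ¬ l ∣ B.index := by
    intro hd
    have h3 := (hl.dvd_iff_one_le_factorization B.index_ne_zero_of_finite).1 hd
    rw [← h1, Nat.factorization_mul Nat.card_pos.ne' B.index_ne_zero_of_finite, Finsupp.add_apply] at h
    omega
  have h4 : (QuotientGroup.mk u : K ⧸ B) = 1 := by
    rw [← orderOf_eq_one_iff]
    refine Nat.eq_one_of_dvd_coprimes (((Nat.Prime.coprime_iff_not_dvd hl).2 h2).pow_left n) ?_ ?_
    · exact orderOf_dvd_of_pow_eq_one (by rw [← QuotientGroup.mk_pow, hu, QuotientGroup.mk_one])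
    · exact orderOf_dvd_natCard _
  exact (QuotientGroup.eq_one_iff u).1 h4

/-- if all `r`-elements lie in `B`, then `B` has the full `r`-part -/
theorem val_le {K L : Type} [Group K] [Group L] [Finite K] [Finite L] {r : ℕ} (hr : r.Prime) (j : L →* K)
    (hj : Function.Injective j) (h : ∀ u : K, (∃ n, u ^ r ^ n = 1) → u ∈ j.range) :
    (Nat.card K).factorization r ≤ (Nat.card L).factorization r := by
  have := Fact.mk hr
  obtain ⟨P⟩ := (inferInstance : Nonempty (Sylow r K))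
  have h1 : (P : Subgroup K) ≤ j.range := fun u hu => by
    obtain ⟨n, hn⟩ := P.isPGroup' ⟨u, hu⟩
    exact h u ⟨n, congrArg Subtype.val hn⟩
  have h2 := Subgroup.card_dvd_of_le h1
  rw [Sylow.card_eq_multiplicity, ← Nat.card_congr (MonoidHom.ofInjective hj).toEquiv] at h2
  exact (hr.pow_dvd_iff_le_factorization Nat.card_pos.ne').1 h2

/-- a character of central defect vanishes off the central sections -/
theorem van {H : Type} [Group H] [Finite H] {r a : ℕ} (hr : r.Prime) {S : Subgroup H} (hS : IsPGroup r S)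
    (hc : S ≤ Subgroup.center H) (ha : a ≤ (Nat.card S).factorization r) {θ : IrrCharacter H} (h : Tt r a θ) :
    ∀ g z, IsPPart r g z → z ∉ S → (θ : H → ℂ) g = 0 := by
  have := Fact.mk hr
  obtain ⟨M, hM⟩ := Blocks.ExistsModular.exists_isPModular hr
  refine (S0969.result r M hM S hS hc θ (le_antisymm ?_ ?_)).2
  · exact (Nat.factorization_le_iff_dvd (H669.Basic.charDegree_pos θ.2).ne' S.index_ne_zero_of_finite).2
      ((H669.Basic.charDegree_dvd_index_center θ.2).trans (Subgroup.index_dvd_of_le hc)) r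
  · have h1 := S.card_mul_index
    unfold Tt at h
    rw [← h1, Nat.factorization_mul Nat.card_pos.ne' S.index_ne_zero_of_finite, Finsupp.add_apply] at h
    omega

end Ee

open Ee in
/-- **a character which vanishes on the `l`-elements outside a central subgroup** -/
theorem boxE1 : BoxE1 := by
  intro H _ _ l A hl hA hc hd θ hθ
  classical
  have := Fact.mk hl
  obtain ⟨n, ω, hn, h1, h2, -⟩ := S3952.exists_central_char θ.2 A hc
  obtain ⟨μ, hμ⟩ := exists_ext A hd ω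
  obtain ⟨P, hP⟩ := hA.exists_le_sylow
  have := Fintype.ofFinite (P : Subgroup H)
  have := Fintype.ofFinite A
  obtain ⟨m, hm⟩ := classInner_isNat (isCharacter_comp (P : Subgroup H).subtype (isIrr_isCharacter θ.2))
    (isCharacter_comp (P : Subgroup H).subtype (Characters.Linear.isCharacter_hom μ))
  have h3 : ∑ g : (P : Subgroup H), (θ : H → ℂ) g * (starRingEnd ℂ) (μ g : ℂ) = ∑ _a : A, (n : ℂ) := by
    symm
    refine Finset.sum_of_injOn (Subgroup.inclusion hP) (Subgroup.inclusion_injective hP).injOn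
      (fun _ _ => Finset.mem_coe.2 (Finset.mem_univ _)) (fun g _ hg => ?_) (fun a _ => ?_)
    · obtain ⟨e, he⟩ := P.isPGroup' g
      rw [hθ g ⟨e, congrArg Subtype.val he⟩ fun hgA => hg ⟨⟨g, hgA⟩, Finset.mem_coe.2 (Finset.mem_univ _), rfl⟩, zero_mul]
    · rw [Subgroup.coe_inclusion, h2, hμ, mul_assoc, H669.Basic.norm_hom, mul_one]
  have h4 : (Nat.card (P : Subgroup H) : ℂ) * m = Nat.card A * n := by
    rw [← hm, classInner_def, ← mul_assoc, mul_inv_cancel₀ card_ne_zero_complex, one_mul]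
    refine h3.trans ?_
    rw [Finset.sum_const, Finset.card_univ, nsmul_eq_mul, Nat.card_eq_fintype_card]
  have h5 : Nat.card (P : Subgroup H) ∣ Nat.card A * n := ⟨m, by exact_mod_cast h4.symm⟩
  rw [Sylow.card_eq_multiplicity, hl.pow_dvd_iff_le_factorization (mul_ne_zero Nat.card_pos.ne' hn.ne'),
    Nat.factorization_mul Nat.card_pos.ne' hn.ne', Finsupp.add_apply] at h5
  unfold Tt
  rw [H669.Basic.charDegree_of_natCast h1]
  omega

namespace Ee

variable {p : ℕ} [Fact p.Prime] {k : Type} [Field k] [CharP k p] {Y : Type} [Group Y] {N : Type} [Fintype N]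
  [DecidableEq N] {ρ : Y →* GL N k} {F : MulAut Y} {G : Subgroup Y} [IsAlgClosed k] (X : Datum p ρ F G)

theorem ZL_le_T (Λ : Set (X.R → ℤ)) : ZL X Λ ≤ X.T :=
  (Subgroup.closure_le _).2 fun _ ⟨_, _, _, e⟩ => e ▸ X.τ_mem _

theorem ZL_mono {Λ Λ' : Set (X.R → ℤ)} (h : Λ ⊆ Λ') : ZL X Λ ≤ ZL X Λ' :=
  Subgroup.closure_mono fun _ ⟨v, hv, a, e⟩ => ⟨v, h hv, a, e⟩

theorem ZL_top : ZL X (⊤ : Submodule ℤ (X.R → ℤ)) = X.T := by
  refine le_antisymm (ZL_le_T X _) fun t ht => ?_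
  obtain ⟨c, rfl⟩ := (X.mem_T t).1 ht
  have h : c ∈ (ZL X (⊤ : Submodule ℤ (X.R → ℤ))).comap X.τ := by
    rw [← prod_coch_single c]
    exact Subgroup.prod_mem _ fun j _ => Subgroup.subset_closure ⟨_, trivial, _, rfl⟩
  exact h

theorem cen_empty : X.cen ∅ = G := by
  refine Eq.trans ?_ X.G_eq
  have h : X.Sz ∅ = {a | X.Rt a} := Set.ext fun a => ⟨fun h => h.1, fun h => ⟨h, fun _ hz => hz.elim⟩⟩
  unfold Datum.cen
  rw [h]
  rfl

theorem Z_comm {g z : Y} (hg : g ∈ G) (hz : z ∈ Z0 X ∅) : g * z = z * g :=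
  cen_comm_Z0 X ∅ ((cen_empty X).symm ▸ hg) hz

theorem Z_le_cj {y : Y} (hy : y ∈ G) : Z0 X ∅ ≤ cj y X.T := fun z hz => by
  rw [mem_cj, mul_assoc, ← Z_comm X hy hz, inv_mul_cancel_left]
  exact Z0_le_T X ∅ hz

theorem rZ_le (r : ℕ) : rZ X ∅ (GF F G) r ≤ Subgroup.center _ := fun _ hz =>
  Subgroup.mem_center_iff.2 fun g => Subtype.ext (Z_comm X g.2.1 hz.1)

/-- the cocharacters of the connected centre -/
def L0 : Submodule ℤ (X.R → ℤ) where
  carrier := {v | ∀ b, X.Rt b → X.wt b ⬝ᵥ v = 0}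
  zero_mem' _ _ := dotProduct_zero _
  add_mem' hu hv b hb := by rw [dotProduct_add, hu b hb, hv b hb, add_zero]
  smul_mem' n _ hv b hb := by rw [dotProduct_smul, hv b hb, smul_zero]

theorem ZL_L0 : ZL X (L0 X) = Z0 X ∅ := by
  unfold ZL Z0
  congr 1
  ext z
  exact ⟨fun ⟨v, hv, a, e⟩ => ⟨v, a, fun b hb => hv b hb.1, e⟩,
    fun ⟨v, a, hv, e⟩ => ⟨v, fun b hb => hv b ⟨hb, fun _ hz => hz.elim⟩, a, e⟩⟩

theorem L0_sat (n : ℤ) (hn : n ≠ 0) (v : X.R → ℤ) (h : n • v ∈ L0 X) : v ∈ L0 X := fun b hb => by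
  have h1 := h b hb
  rw [dotProduct_smul, smul_eq_mul] at h1
  exact (mul_eq_zero.1 h1).resolve_left hn

theorem L0_Mx (v : X.R → ℤ) (h : v ∈ L0 X) : X.Mx *ᵥ v ∈ L0 X := fun b hb => by
  obtain ⟨a, ha, rfl⟩ := X.g_surj hb
  rw [dotProduct_mulVec, X.wt_g ha, smul_dotProduct, h a ha, smul_zero]

/-- the coroot lattice -/
def Lc : Submodule ℤ (X.R → ℤ) := Submodule.span ℤ (Set.range X.cw)

theorem Wm_simple_mulVec (i : X.I) (v : X.R → ℤ) :
    X.Wm (X.cs.simple i) *ᵥ v = v - (X.wt (Tits.Roots.sr i) ⬝ᵥ v) • X.cw i := by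
  rw [X.Wm_simple, sub_mulVec, one_mulVec, vecMulVec_mulVec, op_smul_eq_smul]

theorem Lc_Wm (w : X.W) : ∀ v ∈ Lc X, X.Wm w *ᵥ v ∈ Lc X := by
  refine X.cs.simple_induction (p := fun w => ∀ v ∈ Lc X, X.Wm w *ᵥ v ∈ Lc X) w (fun i v hv => ?_) (fun v hv => ?_)
    fun a b ha hb v hv => ?_
  · rw [Wm_simple_mulVec]
    exact sub_mem hv (Submodule.smul_mem _ _ (Submodule.subset_span ⟨i, rfl⟩))
  · rwa [X.Wm_one, one_mulVec]
  · rw [X.Wm_mul, ← mulVec_mulVec]
    exact ha _ (hb v hv)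

theorem cor_mem {a : X.I → ℤ} (ha : X.Rt a) : X.cor a ∈ Lc X := by
  obtain ⟨w, i, rfl⟩ := ha
  have h := X.cor_act_sr w i
  exact h ▸ Lc_Wm X w _ (Submodule.subset_span ⟨i, rfl⟩)

theorem Lc_Mx : ∀ v ∈ Lc X, X.Mx *ᵥ v ∈ Lc X := fun v hv => by
  induction hv using Submodule.span_induction with
  | mem v hv =>
    obtain ⟨i, rfl⟩ := hv
    have hi : X.Rt (Tits.Roots.sr i) := ⟨1, i, by simp⟩
    rw [← X.cor_sr, X.Mx_cor hi]
    exact Submodule.smul_mem _ _ (cor_mem X (X.g_root _ hi))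
  | zero => rw [mulVec_zero]; exact zero_mem _
  | add u v _ _ hu hv => rw [mulVec_add]; exact add_mem hu hv
  | smul n v _ hv => rw [mulVec_smul]; exact Submodule.smul_mem _ _ hv

/-- the saturation of the coroot lattice -/
def L2 : Submodule ℤ (X.R → ℤ) where
  carrier := {v | ∃ n : ℤ, n ≠ 0 ∧ n • v ∈ Lc X}
  zero_mem' := ⟨1, one_ne_zero, by rw [smul_zero]; exact zero_mem _⟩
  add_mem' := by
    rintro u v ⟨m, hm, hu⟩ ⟨n, hn, hv⟩
    refine ⟨m * n, mul_ne_zero hm hn, ?_⟩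
    rw [smul_add, mul_smul m n v, mul_comm, mul_smul]
    exact add_mem (Submodule.smul_mem _ _ hu) (Submodule.smul_mem _ _ hv)
  smul_mem' m v := by
    rintro ⟨n, hn, hv⟩
    exact ⟨n, hn, by rw [smul_comm]; exact Submodule.smul_mem _ _ hv⟩

theorem L2_sat (n : ℤ) (hn : n ≠ 0) (v : X.R → ℤ) (h : n • v ∈ L2 X) : v ∈ L2 X := by
  obtain ⟨m, hm, h⟩ := h
  exact ⟨m * n, mul_ne_zero hm hn, by rwa [mul_smul]⟩

theorem L2_Mx (v : X.R → ℤ) (h : v ∈ L2 X) : X.Mx *ᵥ v ∈ L2 X := by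
  obtain ⟨m, hm, h⟩ := h
  exact ⟨m, hm, by rw [← mulVec_smul]; exact Lc_Mx X _ h⟩

theorem cw_sub : Set.range X.cw ⊆ L2 X := fun _ hv => ⟨1, one_ne_zero, by
  rw [one_smul]; exact Submodule.subset_span hv⟩

theorem sum_Lc [Fintype X.W] : ∀ v ∈ Lc X, (∑ w, X.Wm w) *ᵥ v = 0 := fun v hv => by
  induction hv using Submodule.span_induction with
  | mem v hv =>
    obtain ⟨i, rfl⟩ := hv
    have h1 : (∑ w, X.Wm w) * X.Wm (X.cs.simple i) = ∑ w, X.Wm w := by
      rw [Finset.sum_mul]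
      exact Fintype.sum_equiv (Equiv.mulRight (X.cs.simple i)) _ _ fun w => (X.Wm_mul _ _).symm
    have h2 : X.Wm (X.cs.simple i) *ᵥ X.cw i = -X.cw i := by
      have hi : X.Rt (Tits.Roots.sr i) := ⟨1, i, by simp⟩
      rw [← X.cor_act_sr, ← X.rf_sr, X.act_rf_self hi, X.cor_neg hi, X.cor_sr]
    have h3 : (∑ w, X.Wm w) *ᵥ X.cw i = -((∑ w, X.Wm w) *ᵥ X.cw i) := by
      rw [← mulVec_neg, ← h2, mulVec_mulVec, h1]
    funext j
    have h4 := congrFun h3 j
    rw [Pi.neg_apply] at h4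
    rw [Pi.zero_apply]
    omega
  | zero => rw [mulVec_zero]
  | add u v _ _ hu hv => rw [mulVec_add, hu, hv, add_zero]
  | smul n v _ hv => rw [mulVec_smul, hv, smul_zero]

theorem sum_L2 [Fintype X.W] (v : X.R → ℤ) (hv : v ∈ L2 X) : (∑ w, X.Wm w) *ᵥ v = 0 := by
  obtain ⟨n, hn, h⟩ := hv
  have h1 := sum_Lc X _ h
  rw [mulVec_smul] at h1
  exact (smul_eq_zero.1 h1).resolve_left hn

theorem mon_sum {R ι : Type} [Fintype R] (s : Finset ι) (A : ι → Matrix R R ℤ) (c : R → kˣ) :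
    mon (∑ i ∈ s, A i) c = ∏ i ∈ s, mon (A i) c := by
  classical
  induction s using Finset.induction_on with
  | empty =>
    funext j
    rw [Finset.sum_empty, Finset.prod_empty, mon_apply]
    exact chr_zero c
  | insert a s ha ih => rw [Finset.sum_insert ha, Finset.prod_insert ha, mon_add, ih]

/-- a central element of the torus of the derived group is killed by the order of `W` -/
theorem pow_card_W {z : Y} (hz : z ∈ ZL X (L2 X)) (hc : ∀ g ∈ G, g * z = z * g) : z ^ Nat.card X.W = 1 := by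
  have := Fintype.ofFinite X.W
  have h1 : ZL X (L2 X) ≤ (mon (k := k) (∑ w, X.Wm w)).ker.map X.τ := by
    refine (Subgroup.closure_le _).2 ?_
    rintro _ ⟨v, hv, a, rfl⟩
    refine ⟨_, ?_, rfl⟩
    show mon _ (coch v a) = 1
    rw [mon_coch, sum_L2 X v hv]
    funext j
    simp [coch_apply]
  obtain ⟨c, h2, rfl⟩ := h1 hz
  have h3 : ∀ w, mon (X.Wm w) c = c := fun w => by
    obtain ⟨m, hm, -⟩ := X.exists_rp w
    apply X.τ_inj
    rw [← X.conj_τ hm, hc m hm.mem_G, mul_inv_cancel_right]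
  have h4 : mon (∑ w, X.Wm w) c = 1 := h2
  rw [mon_sum, Finset.prod_congr rfl fun w _ => h3 w, Finset.prod_const, Finset.card_univ] at h4
  rw [← map_pow, Nat.card_eq_fintype_card, h4, map_one]

theorem GF_mono {A B : Subgroup Y} (h : A ≤ B) : GF F A ≤ GF F B := fun _ hz => ⟨h hz.1, hz.2⟩

end Ee

open Ee in
/-- **a character of central defect at the primes in `π` is of central defect at `l`** -/
theorem boxE_of (hQ : BoxQ) (hD : BoxDer) (hV : BoxV) : BoxE := by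
  intro p _ k _ _ Y _ N _ _ ρ F G _ X _ q d l t π hl hlp ht hL hA hπ θ hθ
  have hp : p.Prime := Fact.out
  have fin : ∀ {B : Subgroup Y}, B ≤ G → Finite ↥(GF F B) := fun h =>
    Finite.of_injective _ (Subgroup.inclusion_injective (GF_mono h))
  have hZG : Z0 X ∅ ≤ G := (Z0_le_T X ∅).trans X.T_le_G
  have fZ := fin hZG
  -- good tori
  have good : ∀ x : GF F G, (∃ n, x ^ l ^ n = 1) → (θ : GF F G → ℂ) x ≠ 0 → ∃ y ∈ G, y⁻¹ * F y ∈ X.NN ∧ (x : Y) ∈ cj y X.T ∧
      ∀ r, π r → ∀ u : Y, u ∈ GF F (cj y X.T) → (∃ n, u ^ r ^ n = 1) → u ∈ Z0 X ∅ := by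
    rintro x ⟨n, hn⟩ hx
    obtain ⟨y, hy, hN, h1, h2⟩ := hV X θ x (fun h => hlp ((Nat.prime_dvd_prime_iff_eq hp hl).1
      (hp.dvd_of_dvd_pow (h.trans (orderOf_dvd_of_pow_eq_one hn)))).symm) hx
    refine ⟨y, hy, hN, h1, fun r hr u hu ⟨m, hm⟩ => ?_⟩
    obtain ⟨r1, r2, r3⟩ := hπ r hr
    exact (h2 r r1 r2 r3 _ (rZ_le X r) (van r1 (rZ_p X ∅ _ r) (rZ_le X r) (rZ_card X ∅ F r1) (hθ r hr))
      ⟨u, (X.conj hy hN).T_le_G hu.1, hu.2⟩ hu.1 ⟨m, Subtype.ext hm⟩).1
  obtain ⟨P0, d0, e0⟩ : ∃ P : ℤ[X], Dv q d P ∧ (P.eval t).natAbs = Nat.card ↥(GF F (Z0 X ∅)) := by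
    obtain ⟨A, h1, h2⟩ := hL 1
    rw [X.Wm_one, Matrix.one_mul] at h1
    rw [← ZL_L0]
    exact hQ X q d t A ht h1 h2 (L0 X) (L0_sat X) (L0_Mx X)
  have h1 : ∀ x : GF F G, (∃ n, x ^ l ^ n = 1) → x ∉ rZ X ∅ (GF F G) l → (θ : GF F G → ℂ) x = 0 := by
    intro x hx hxA
    by_contra h0
    obtain ⟨y, hy, hN, h1, h2⟩ := good x hx h0
    obtain ⟨A, a1, a2⟩ := hL (X.pr (y⁻¹ * F y))
    obtain ⟨P, d1, e1⟩ := hQ (X.conj hy hN) q d t A ht a1 a2 ⊤ (fun _ _ _ _ => trivial) fun _ _ => trivial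
    rw [ZL_top] at e1
    have hle : GF F (Z0 X ∅) ≤ GF F (X.conj hy hN).T := GF_mono (Z_le_cj X hy)
    have fT := fin (X.conj hy hN).T_le_G
    have h3 := hA P P0 d1 d0 fun r hr => by
      rw [e0, e1]
      exact val_le (hπ r hr).1 _ (Subgroup.inclusion_injective hle) fun u ⟨n, hn⟩ =>
        ⟨⟨u, h2 r hr u u.2 ⟨n, congrArg Subtype.val hn⟩, u.2.2⟩, rfl⟩
    rw [e0, e1, ← Nat.card_congr (Subgroup.subgroupOfEquivOfLe hle).toEquiv] at h3
    have : ((GF F (Z0 X ∅)).subgroupOf (GF F (X.conj hy hN).T)).Normal := ⟨fun a ha g => by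
      have e : g * a = a * g := Subtype.ext ((X.conj hy hN).T_comm g.2.1 a.2.1)
      rwa [e, mul_inv_cancel_right]⟩
    obtain ⟨n, hn⟩ := hx
    have h4 := mem_of_val _ hl h3 (u := ⟨x, h1, x.2.2⟩) (n := n)
      (Subtype.ext (show (x : Y) ^ l ^ n = 1 from congrArg Subtype.val hn))
    exact hxA ⟨h4.1, n, hn⟩
  have h2 : rZ X ∅ (GF F G) l ⊓ commutator _ = ⊥ := by
    obtain ⟨y, hy, hN, -, h2⟩ := good 1 ⟨0, one_pow _⟩ (isIrr_apply_one_ne_zero θ.2)
    obtain ⟨A, a1, a2⟩ := hL (X.pr (y⁻¹ * F y))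
    obtain ⟨P, d1, e1⟩ := hQ (X.conj hy hN) q d t A ht a1 a2 (L2 _) (L2_sat _) (L2_Mx _)
    have fT := fin ((ZL_le_T (X.conj hy hN) (L2 (X.conj hy hN))).trans (X.conj hy hN).T_le_G)
    have h3 := hA P 1 d1 ⟨0, by rw [pow_zero]⟩ fun r hr => by
      obtain ⟨r1, -, r3⟩ := hπ r hr
      rw [e1, Nat.factorization_eq_zero_of_not_dvd]
      · exact Nat.zero_le _
      · intro hd
        have := Fact.mk r1
        obtain ⟨u, hu⟩ := exists_prime_orderOf_dvd_card' r hd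
        have u1 : (u : Y) ^ r = 1 := by rw [← hu, ← Subgroup.coe_pow, pow_orderOf_eq_one, Subgroup.coe_one]
        have u2 := pow_card_W (X.conj hy hN) u.2.1 fun g hg =>
          Z_comm X hg (h2 r hr u ⟨ZL_le_T (X.conj hy hN) _ u.2.1, u.2.2⟩ ⟨1, by rwa [pow_one]⟩)
        have u3 := orderOf_dvd_of_pow_eq_one u2
        rw [Subgroup.orderOf_coe, hu] at u3
        have u4 : r ≤ Nat.card X.W := Nat.le_of_dvd Nat.card_pos u3
        nlinarith
    rw [e1, eval_one, Int.natAbs_one, Nat.factorization_one, Finsupp.zero_apply] at h3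
    rw [eq_bot_iff]
    rintro z ⟨⟨z1, n, hn⟩, z2⟩
    have z3 : (z : Y) ∈ ⁅G, G⁆ := by
      have e : (commutator ↥(GF F G)).map (GF F G).subtype ≤ ⁅G, G⁆ := by
        rw [commutator_def, Subgroup.map_commutator]
        exact Subgroup.commutator_mono (by rintro _ ⟨g, -, rfl⟩; exact g.2.1) (by rintro _ ⟨g, -, rfl⟩; exact g.2.1)
      exact e ⟨z, z2, rfl⟩
    have z4 := ZL_mono _ (cw_sub _) (hD (X.conj hy hN) z (Z_le_cj X hy z1) z3)
    have z5 := mem_of_val (K := GF F (ZL (X.conj hy hN) (L2 (X.conj hy hN)))) ⊥ hl (h3.trans (Nat.zero_le _))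
      (u := ⟨z, z4, z.2.2⟩) (n := n) (Subtype.ext (show (z : Y) ^ l ^ n = 1 from congrArg Subtype.val hn))
    have z6 := congrArg Subtype.val (Subgroup.mem_bot.1 z5)
    exact Subtype.ext z6
  have h3 := boxE1 _ l _ hl (rZ_p X ∅ _ l) (rZ_le X l) h2 θ h1
  refine h3.trans (Nat.add_le_add_left ?_ _)
  refine (Nat.factorization_le_iff_dvd Nat.card_pos.ne' Nat.card_pos.ne').2 ?_ l
  rw [← Subgroup.card_map_of_injective (K := rZ X ∅ (GF F G) l) (GF F G).subtype_injective]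
  refine Subgroup.card_dvd_of_le ?_
  rintro _ ⟨z, hz, rfl⟩
  exact ⟨hz.1, z.2.2⟩

end Cfsg.Agent.KM.Si
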