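import Cfsg.Agent.KM.Si.Defs
import Cfsg.Agent.KM.Ht.P
import Cfsg.Agent.TO.G2D.Gen
import Cfsg.Agent.H925.NatTor

/-!
# S4576, the strict inequality: order polynomials of subtori, the torus of the derived subgroup (helper7)
-/

set_option autoImplicit false
set_option linter.unusedSectionVars false

namespace Cfsg.Agent.KM.Si

open Cfsg Cfsg.Agent.DL Cfsg.Agent.KM.Ht Cfsg.Agent.KM.Ht.OP Cfsg.Agent.Nodes.Reps Polynomial Matrix

namespace Qd

theorem dv_det {S : Type} [Fintype S] [DecidableEq S] {B : Matrix S S ℤ} {q d : ℕ}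
    (h : B ^ d = (q : ℤ) • (1 : Matrix S S ℤ)) : Dv q d (((X : ℤ[X]) • B.map C - 1).det) := by
  have h1 := congrArg Matrix.det (mul_geom_sum ((X : ℤ[X]) • B.map C) d)
  have h2 : (B.map (C : ℤ →+* ℤ[X])) ^ d = (C (q : ℤ) : ℤ[X]) • (1 : Matrix S S ℤ[X]) := by
    rw [← RingHom.mapMatrix_apply, ← map_pow, h]
    ext1 i j
    rw [RingHom.mapMatrix_apply, Matrix.map_apply, Matrix.smul_apply, Matrix.smul_apply, Matrix.one_apply, Matrix.one_apply]
    split_ifs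
    · rw [smul_eq_mul, smul_eq_mul, mul_one, mul_one]
    · rw [smul_zero, smul_zero, map_zero]
  have h3 : ((X : ℤ[X]) • B.map C) ^ d - 1 = (C (q : ℤ) * X ^ d - 1 : ℤ[X]) • (1 : Matrix S S ℤ[X]) := by
    rw [_root_.smul_pow, h2, smul_smul, sub_smul, one_smul, mul_comm]
  rw [Matrix.det_mul, h3, Matrix.det_smul, Matrix.det_one, mul_one] at h1
  exact ⟨_, _, h1.symm⟩

section Rgd

open CoxeterSystem Cfsg.Agent.ChevalleyStructure.CoxeterGeom Cfsg.Agent.Tits.Roots Cfsg.Agent.Nodes.BNOf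
  Cfsg.Agent.Nodes.RGDLib

variable {I W Y : Type*} [Fintype I] [DecidableEq I] [Group W] [Group Y] {M : CoxeterMatrix I}
  {cs : CoxeterSystem M W} {A : I → I → ℤ} {h : IsCartan M A} {p : ℕ} {T : Subgroup Y} {n : I → Y}
  {X : (I → ℤ) → Subgroup Y}

/-- other representatives of the simple reflections -/
theorem rgd_change (R : RGD cs h p T n X) {m : I → Y} (hm : ∀ i, Rp cs R.nsys (cs.simple i) (m i)) :
    RGD cs h p T m X where
  nsys := ⟨fun i => (hm i).mem_normalizer, fun i j => by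
    have h1 : ∀ e : ℕ, Rp cs R.nsys ((cs.simple i * cs.simple j) ^ e) ((m i * m j) ^ e) := fun e => by
      induction e with
      | zero => rw [pow_zero, pow_zero]; exact rp_one
      | succ e ih => rw [pow_succ, pow_succ]; exact ih.mul ((hm i).mul (hm j))
    have h2 := h1 (M i j)
    rw [cs.simple_mul_simple_pow] at h2
    exact h2.mem_of_one⟩
  conj i _ hx := R.conj_rp (hm i) hx
  tor := R.tor
  comm := R.comm
  rk1 i u hu h1 := by
    obtain ⟨a, ha, t, ht, b, hb, e⟩ := R.rk1 i u hu h1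
    have h2 := (rp_simple cs R.nsys i).mul (hm i).inv
    rw [mul_inv_cancel] at h2
    exact ⟨a, ha, t * (n i * (m i)⁻¹), mul_mem ht h2.mem_of_one, b, hb, by rw [e]; group⟩
  pgrp := R.pgrp
  notp := R.notp
  tcop := R.tcop

/-- the part of the torus generated by the root groups -/
theorem inf_G1_le (R : RGD cs h p T n X) [Finite W] [Finite ↥(G1 cs h X)] :
    T ⊓ G1 cs h X ≤ ⨆ i, (X (sr i) ⊔ X (-sr i)) ⊓ T := by
  have hex : ∀ i, ∃ m ∈ G1 cs h X, Rp cs R.nsys (cs.simple i) m := fun i => by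
    obtain ⟨u, hu, hu1⟩ := (X (-sr i)).bot_or_exists_ne_one.resolve_left
      (Cfsg.Agent.Nodes.Bruhat.X_ne_bot R (isRoot_sr cs h i).neg)
    obtain ⟨a, ha, t, ht, b, hb, e⟩ := R.rk1 i u hu hu1
    refine ⟨t * n i, ?_, ?_⟩
    · rw [show t * n i = a⁻¹ * u * b⁻¹ by rw [e]; group]
      exact mul_mem (mul_mem (X_le_G1 (isRoot_sr cs h i) (inv_mem ha)) (X_le_G1 (isRoot_sr cs h i).neg hu))
        (X_le_G1 (isRoot_sr cs h i) (inv_mem hb))
    · have h1 := (rp_of_mem (cs := cs) (hN := R.nsys) ht).mul (rp_simple cs R.nsys i)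
      rwa [one_mul] at h1
  choose m hmG hm using hex
  have hX : ∀ x, IsRoot cs h x → X x ≤ G1 cs h X := fun x hx => X_le_G1 hx
  have R' := rgd_restrict (rgd_change R hm) (G1 cs h X) hX hmG
  have h1 : G1 cs h (fun x => (X x).subgroupOf (G1 cs h X)) = ⊤ := by
    have h2 := iSup_subgroupOf (K := G1 cs h X) (fun z : {x | IsRoot cs h x} => X z.1) fun z => hX z.1 z.2
    exact h2.symm.trans (Subgroup.subgroupOf_self _)
  rintro z ⟨hz, hzG⟩
  have h3 := H925.Nat.T_le_iSup R' h1 (show (⟨z, hzG⟩ : G1 cs h X) ∈ T.subgroupOf _ from hz)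
  refine (iSup_le fun i => ?_ : _ ≤ (⨆ i, (X (sr i) ⊔ X (-sr i)) ⊓ T).comap (G1 cs h X).subtype) h3
  rintro y ⟨hy, hyT⟩
  refine le_iSup (fun i => (X (sr i) ⊔ X (-sr i)) ⊓ T) i ⟨?_, hyT⟩
  exact (sup_le (fun _ h => (le_sup_left : X (sr i) ≤ _) h) (fun _ h => (le_sup_right : X (-sr i) ≤ _) h) :
    _ ≤ (X (sr i) ⊔ X (-sr i)).comap (G1 cs h X).subtype) hy

end Rgd

section Lie

open scoped commutatorElement

variable {p : ℕ} [Fact p.Prime] {k : Type} [Field k] [CharP k p] {Y : Type} [Group Y] {N : Type} [Fintype N]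
  [DecidableEq N] {ρ : Y →* GL N k} {F : MulAut Y} {G : Subgroup Y} [IsAlgClosed k] (X : Datum p ρ F G)

theorem mem_ZL {Λ : Set (X.R → ℤ)} {v : X.R → ℤ} (hv : v ∈ Λ) (a : kˣ) : X.τ (coch v a) ∈ ZL X Λ :=
  Subgroup.subset_closure ⟨v, hv, a, rfl⟩

theorem ZL_le_T (Λ : Set (X.R → ℤ)) : ZL X Λ ≤ X.T :=
  (Subgroup.closure_le _).2 fun _ ⟨_, _, _, e⟩ => e ▸ X.τ_mem _

/-- the derived subgroup is contained in the subgroup generated by the root groups -/
theorem comm_le_S : ⁅G, G⁆ ≤ X.S {a | X.Rt a} := by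
  have hr : ∀ a ∈ {a | X.Rt a}, X.Rt a := fun _ h => h
  refine Subgroup.commutator_le.2 fun g hg g' hg' => ?_
  obtain ⟨s, hs, t, ht, rfl⟩ := (X.mem_TS hr).1 (X.G_eq.ge hg)
  obtain ⟨s', hs', t', ht', rfl⟩ := (X.mem_TS hr).1 (X.G_eq.ge hg')
  have h1 : ⁅s * t, s' * t'⁆ = s * (t * s' * t⁻¹) * (t' * s⁻¹ * t'⁻¹) * s'⁻¹ := by
    have h2 : t * t' * t⁻¹ = t' := by rw [X.T_comm ht ht', mul_inv_cancel_right]
    rw [commutatorElement_def]
    calc s * t * (s' * t') * (s * t)⁻¹ * (s' * t')⁻¹ = s * (t * s' * t⁻¹) * ((t * t' * t⁻¹) * s⁻¹ * t'⁻¹) * s'⁻¹ := by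
          group
      _ = _ := by rw [h2]
  rw [h1]
  exact mul_mem (mul_mem (mul_mem hs (X.conj_mem_S_of_T hr ht hs')) (X.conj_mem_S_of_T hr ht' (inv_mem hs))) (inv_mem hs')

/-- the torus of the subgroup generated by the root groups -/
theorem T_inf_S_le : X.T ⊓ X.S {a | X.Rt a} ≤ ZL X (Set.range X.cw) := by
  rintro z ⟨hz, hS⟩
  obtain ⟨e, he, hd, h⟩ := X.exists_lev_S (fun _ : Unit => {a | X.Rt a}) (fun _ => z) fun _ => hS
  have h1 := h e dvd_rfl ()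
  have h2 := X.Sup_Xe_le_lev e {a | X.Rt a}
  have := X.amb.finite_lev he
  have : Finite ↥(Nodes.RGDLib.G1 X.cs X.h (X.Xe e)) :=
    Finite.of_injective _ (Subgroup.inclusion_injective h2)
  refine (iSup_le fun i => ?_ : _ ≤ ZL X (Set.range X.cw)) (inf_G1_le (X.rgd_lev he hd) ⟨⟨hz, h2 h1⟩, h1⟩)
  rintro y ⟨hy, hyT⟩
  obtain ⟨a, rfl⟩ := TO.G2D.rank_T_sr (D := X) (i := i) hyT.1 ((sup_le (inf_le_left.trans (Nodes.BNOf.RGD.le_Sup (.inl rfl)))
    (inf_le_left.trans (Nodes.BNOf.RGD.le_Sup (.inr rfl))) : _ ≤ X.S {Tits.Roots.sr i, -Tits.Roots.sr i}) hy)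
  exact mem_ZL X (Set.mem_range_self i) a

end Lie

end Qd

open Qd

/-- **the order polynomial of a stable subtorus** -/
theorem boxQ : BoxQ := by
  intro p _ k _ _ Y _ N _ _ ρ F G _ X q d t A ht hA hAd Λ hΛ hM
  obtain ⟨s, J, K, hK, hJ⟩ := exists_JK Λ hΛ
  have hA' : ∀ v ∈ Λ, A *ᵥ v ∈ Λ := fun v hv => hΛ t ht _ (by rw [← smul_mulVec, ← hA]; exact hM v hv)
  obtain ⟨B, hB⟩ : ∃ B : Matrix (Fin s) (Fin s) ℤ, A * J = J * B := ⟨K * (A * J), by
    refine Matrix.toLin'.injective (LinearMap.ext fun u => ?_)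
    obtain ⟨u', hu⟩ := (hJ _).1 (hA' _ ((hJ _).2 ⟨u, rfl⟩))
    simp only [toLin'_apply, ← mulVec_mulVec]
    rw [← hu, mulVec_mulVec u' K J, hK, one_mulVec]⟩
  have hpow : ∀ (A : Matrix X.R X.R ℤ) (B : Matrix (Fin s) (Fin s) ℤ), A * J = J * B → ∀ (d : ℕ) (c : ℤ),
      A ^ d = c • (1 : Matrix X.R X.R ℤ) → B ^ d = c • 1 := fun A B hB d c h => by
    have hBm : ∀ m, A ^ m * J = J * B ^ m := fun m => by
      induction m with
      | zero => rw [pow_zero, pow_zero, Matrix.one_mul, Matrix.mul_one]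
      | succ m ih => rw [pow_succ, Matrix.mul_assoc, hB, ← Matrix.mul_assoc, ih, Matrix.mul_assoc, ← pow_succ]
    rw [← Matrix.one_mul (B ^ d), ← hK, Matrix.mul_assoc, ← hBm, h, Matrix.smul_mul, Matrix.one_mul, Matrix.mul_smul]
  have hB' : X.Mx * J = J * (t • B) := by rw [hA, Matrix.smul_mul, hB, Matrix.mul_smul]
  let ι : (Fin s → kˣ) →* Y := X.τ.comp (rm J)
  have hι : Function.Injective ι := fun c c' h => by
    have h1 := congrArg (rm K) (X.τ_inj h)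
    rwa [← rm_mul, ← rm_mul, hK, show rm 1 c = c from mon_one c, show rm 1 c' = c' from mon_one c'] at h1
  have hZ : ZL X Λ = ι.range := le_antisymm ((Subgroup.closure_le _).2 (by
    rintro _ ⟨v, hv, a, rfl⟩
    obtain ⟨u, rfl⟩ := (hJ v).1 hv
    exact ⟨coch u a, congrArg X.τ (rm_coch J u a)⟩)) (by
    rintro _ ⟨c, rfl⟩
    show c ∈ (ZL X Λ).comap ι
    rw [← prod_coch_single c]
    refine Subgroup.prod_mem _ fun j _ => ?_
    show X.τ (rm J (coch _ _)) ∈ ZL X Λ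
    rw [rm_coch]
    exact mem_ZL X ((hJ _).2 ⟨_, rfl⟩) (c j))
  have hFι : ∀ c, F (ι c) = ι (mon (t • B) c) := fun c =>
    (X.F_τ _).trans (congrArg X.τ ((rm_mul X.Mx J c).symm.trans (hB' ▸ rm_mul J (t • B) c)))
  obtain ⟨d', e, H⟩ := X.exists_split'
  have h1 : GF F (ZL X Λ) = (mon (t • B - 1) : (Fin s → kˣ) →* _).ker.map ι := by
    have h2 : ∀ c, F (ι c) = ι c ↔ mon (t • B - 1) c = 1 := fun c => by
      rw [hFι, hι.eq_iff, mon_sub, mon_one, mul_inv_eq_one]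
    rw [hZ]
    exact le_antisymm (by rintro _ ⟨⟨c, rfl⟩, h⟩; exact ⟨c, (h2 c).1 h, rfl⟩)
      (by rintro _ ⟨c, h, rfl⟩; exact ⟨⟨c, rfl⟩, (h2 c).2 h⟩)
  refine ⟨_, dv_det (hpow A B hB d q hAd), ?_⟩
  rw [ev_det, h1, Subgroup.card_map_of_injective hι,
    card_ker_mon (det_cast (d := d') H.e_pos (hpow _ _ hB' d' _ (X.Mx_pow H)))]

/-- **the torus of the derived subgroup** -/
theorem boxDer : BoxDer := by
  intro p _ k _ _ Y _ N _ _ ρ F G _ X z hz h
  exact T_inf_S_le X ⟨hz, comm_le_S X h⟩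

end Cfsg.Agent.KM.Si
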