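import Cfsg.Agent.KM.Si.Defs2
import Cfsg.Agent.Blocks.PPart
import Cfsg.Agent.Characters.Core

/-!
# S4576, the strict inequality: all auxiliary primes at once (helper39)
-/

set_option autoImplicit false

namespace Cfsg.Agent.KM.Si

open Cfsg Cfsg.Agent.Blocks.PPart Cfsg.Agent.Characters.Core

namespace Gb

/-- an `r`-group is not a union of fewer than `r` proper subgroups -/
theorem exists_out {K : Type} [Group K] [Finite K] {r n : ℕ} (hr : r.Prime) (hn : n < r) {S : Subgroup K}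
    (hS : IsPGroup r S) (U : Fin n → Subgroup K) (hU : ∀ i, ¬ S ≤ U i) : ∃ s ∈ S, ∀ i, s ∉ U i := by
  classical
  have := Fact.mk hr
  have := Fintype.ofFinite S
  by_contra h
  push Not at h
  have h1 : ∀ i, (Finset.univ.filter fun s : S => (s : K) ∈ U i).card * r ≤ Nat.card S := fun i => by
    obtain ⟨m, hm⟩ := hS.index ((U i).subgroupOf S)
    have h2 : m ≠ 0 := by
      rintro rfl
      exact hU i (Subgroup.subgroupOf_eq_top.1 (Subgroup.index_eq_one.1 hm))
    have h3 : (Finset.univ.filter fun s : S => (s : K) ∈ U i).card = Nat.card ((U i).subgroupOf S) := by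
      rw [Nat.card_eq_fintype_card, Fintype.card_subtype]
      rfl
    rw [h3, ← ((U i).subgroupOf S).card_mul_index, hm]
    exact Nat.mul_le_mul_left _ (Nat.le_self_pow h2 r)
  have h2 : Nat.card S ≤ ∑ i, (Finset.univ.filter fun s : S => (s : K) ∈ U i).card := by
    rw [Nat.card_eq_fintype_card, ← Finset.card_univ]
    refine le_trans (Finset.card_le_card fun s _ => ?_) Finset.card_biUnion_le
    obtain ⟨i, hi⟩ := h s s.2
    exact Finset.mem_biUnion.2 ⟨i, Finset.mem_univ _, Finset.mem_filter.2 ⟨Finset.mem_univ _, hi⟩⟩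
  have h3 : Nat.card S * r ≤ n * Nat.card S := by
    refine (Nat.mul_le_mul_right r h2).trans ?_
    rw [Finset.sum_mul]
    refine (Finset.sum_le_sum fun i _ => h1 i).trans ?_
    simp
  have h4 : 0 < Nat.card S := Nat.card_pos
  nlinarith

/-- `Sw` passes to subgroups -/
theorem sw_sub {K : Type} [Group K] [Finite K] {w r : ℕ} (h : Sw w r K) (H : Subgroup K) : Sw w r H := by
  intro R hR
  obtain ⟨h1, h2⟩ := h (R.map H.subtype) (hR.map _)
  refine ⟨⟨⟨fun a b => Subtype.ext (Subtype.ext ?_)⟩⟩, ?_⟩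
  · have := congrArg Subtype.val (h1.is_comm.comm (⟨a, a, a.2, rfl⟩ : R.map H.subtype) ⟨b, b, b.2, rfl⟩)
    exact this
  · have e : Subgroup.centralizer (R : Set H) = (Subgroup.centralizer (R.map H.subtype : Set K)).comap H.subtype := by
      ext x
      refine ⟨?_, fun hx y hy => Subtype.ext (hx y ⟨y, hy, rfl⟩)⟩
      rintro hx _ ⟨y, hy, rfl⟩
      exact congrArg Subtype.val (hx y hy)
    rw [e, Subgroup.relIndex_comap]
    refine (Subgroup.relIndex_le_of_le_right ?_ Subgroup.index_ne_zero_of_finite).trans h2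
    exact Subgroup.le_normalizer_map _

/-- the hypotheses on the primes -/
def Hy (w n : ℕ) {K : Type} [Group K] (π : Finset ℕ) (S : ℕ → Subgroup K) (T : Subgroup K) : Prop :=
  ∀ r ∈ π, r.Prime ∧ 2 ^ n * w < r ∧ n < r ∧ Sw w r K ∧ IsPGroup r (S r) ∧ S r ≤ T ∧
    ∃ n' ≤ n, ∃ U : Fin n' → Subgroup K, (∀ i, ¬ S r ≤ U i) ∧ ∀ s ∈ S r, (∀ i, s ∉ U i) →
      Subgroup.centralizer ({s} : Set K) ≤ Subgroup.centralizer (S r : Set K)

theorem Hy.sub {w n : ℕ} {K : Type} [Group K] [Finite K] {π : Finset ℕ} {S : ℕ → Subgroup K} {T : Subgroup K}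
    (h : Hy w n π S T) {H : Subgroup K} (hT : T ≤ H) : Hy w n π (fun r => (S r).subgroupOf H) (T.subgroupOf H) := by
  intro r hr
  obtain ⟨h1, h2, h3, h4, h5, h6, n', h7, U, h8, h9⟩ := h r hr
  refine ⟨h1, h2, h3, sw_sub h4 H, h5.comap_subtype, fun x hx => h6 hx, n', h7, fun i => (U i).subgroupOf H,
    fun i hi => h8 i fun x hx => hi (show (⟨x, hT (h6 hx)⟩ : H) ∈ (S r).subgroupOf H from hx), fun s hs hs' x hx y hy => ?_⟩
  refine Subtype.ext (h9 s hs hs' (x := x) ?_ y hy)
  rintro _ rfl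
  exact congrArg Subtype.val (hx s rfl)

theorem reg_mul {K : Type} [Group K] {r : ℕ} (hr : r.Prime) {a b : K} (h : a * b = b * a) (ha : ¬ r ∣ orderOf a)
    (hb : ¬ r ∣ orderOf b) : ¬ r ∣ orderOf (a * b) := fun k =>
  (hr.dvd_mul.1 (k.trans (Commute.orderOf_mul_dvd_mul_orderOf h))).elim ha hb

/-- the induction on the primes -/
theorem pi (hS : BoxStep) (L : Type) [Group L] [Finite L] (w n : ℕ) (π : Finset ℕ) :
    ∀ (K : Type) [Group K] [Finite K] (j : L →* K), Function.Injective j → ∀ (S : ℕ → Subgroup K) (T : Subgroup K),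
    (∀ a ∈ T, ∀ b ∈ T, a * b = b * a) → (∀ x, x ∈ j.range ↔ ∀ r ∈ π, ∀ s ∈ S r, x * s = s * x) → Hy w n π S T →
    ∃ s ∈ T, (∀ g, s * j g = j g * s) ∧ (∀ q, q.Prime → q ∣ orderOf s → q ∈ π) ∧
      (∀ g, Rg π g → ∀ x, x * (s * j g) = s * j g * x → x ∈ j.range) ∧
      ∀ ψ : IrrCharacter K, (∀ r ∈ π, Tt r ((Nat.card (S r)).factorization r) ψ) → ∃ c : IrrCharacter L → ℂ,
        (∀ θ, c θ ≠ 0 → (∀ r ∈ π, Tt r ((Nat.card (S r)).factorization r) θ) ∧
          ∀ q a : ℕ, q.Prime → q ∉ π → 2 ^ n * w < q → Tt q a ψ → Tt q a θ) ∧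
        ∀ g, Rg π g → (ψ : K → ℂ) (s * j g) = ∑ᶠ θ, c θ * (θ : L → ℂ) g := by
  classical
  induction π using Finset.induction_on with
  | empty =>
    intro K _ _ j hj S T _ hr _
    have hs : Function.Surjective j := fun x => (hr x).2 (by simp)
    refine ⟨1, T.one_mem, by simp, fun q hq h => absurd (by simpa using h) hq.ne_one, fun g _ x _ => hs x, fun ψ _ => ?_⟩
    let θ₀ : IrrCharacter L := ⟨(ψ : K → ℂ) ∘ j, isIrr_comp j hs ψ.2⟩
    refine ⟨fun θ => if θ = θ₀ then 1 else 0, fun θ hθ => ⟨by simp, fun q a _ _ _ h => ?_⟩, fun g _ => ?_⟩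
    · obtain rfl : θ = θ₀ := by
        by_contra k
        exact hθ (if_neg k)
      have e : charDegree (θ₀ : L → ℂ) = charDegree (ψ : K → ℂ) := by simp [θ₀, charDegree]
      unfold Tt
      rw [e, Nat.card_congr (Equiv.ofBijective j ⟨hj, hs⟩)]
      exact h
    · rw [finsum_eq_single _ θ₀ fun θ hθ => by simp [hθ]]
      simp [θ₀]
  | insert r π hrπ ih =>
    intro K _ _ j hj S T hT hr hy
    obtain ⟨h1, h2, h3, h4, h5, h6, n', h7, U, h8, h9⟩ := hy r (Finset.mem_insert_self r π)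
    have := Fact.mk h1
    let H := Subgroup.centralizer (S r : Set K)
    have hTH : T ≤ H := fun x hx s hs => hT s (h6 hs) x hx
    have hjH : ∀ g, j g ∈ H := fun g s hs => ((hr _).1 ⟨g, rfl⟩ r (Finset.mem_insert_self r π) s hs).symm
    have hy' : Hy w n π S T := fun q hq => hy q (Finset.mem_insert_of_mem hq)
    have hc : ∀ q ∈ π, Nat.card ((S q).subgroupOf H) = Nat.card (S q) := fun q hq =>
      Nat.card_congr (Subgroup.subgroupOfEquivOfLe ((hy' q hq).2.2.2.2.2.1.trans hTH)).toEquiv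
    obtain ⟨s₁, k1, k2, k3, k4, k5⟩ := ih H (j.codRestrict H hjH) (fun a b e => hj (congrArg Subtype.val e))
      (fun q => (S q).subgroupOf H) (T.subgroupOf H) (fun a ha b hb => Subtype.ext (hT a ha b hb))
      (fun x => ⟨by
        rintro ⟨g, rfl⟩ q hq s hs
        exact Subtype.ext ((hr _).1 ⟨g, rfl⟩ q (Finset.mem_insert_of_mem hq) s hs), fun hx => by
        obtain ⟨g, hg⟩ := (hr x).2 fun q hq s hs => by
          rcases Finset.mem_insert.1 hq with rfl | hq
          · exact (x.2 s hs).symm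
          · exact congrArg Subtype.val (hx q hq ⟨s, hTH ((hy' q hq).2.2.2.2.2.1 hs)⟩ hs)
        exact ⟨g, Subtype.ext hg⟩⟩) (hy'.sub hTH)
    obtain ⟨s, hs, hs'⟩ := exists_out h1 (h7.trans_lt h3) h5 U h8
    obtain ⟨a, ha⟩ : ∃ a, orderOf s = r ^ a := by
      obtain ⟨a, ha⟩ := IsPGroup.iff_orderOf.1 h5 ⟨s, hs⟩
      exact ⟨a, by rw [← ha]; exact (Subgroup.orderOf_mk s hs).symm⟩
    have hreg : ∀ g, Rg (insert r π) g → ¬ r ∣ orderOf (s₁ * j.codRestrict H hjH g) := fun g hg =>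
      reg_mul h1 (k2 g) (fun k => hrπ (k3 r h1 k)) fun k =>
        hg r (Finset.mem_insert_self r π) (k.trans (orderOf_map_dvd _ g))
    have hrg : ∀ g : L, Rg (insert r π) g → Rg π g := fun g hg q hq => hg q (Finset.mem_insert_of_mem hq)
    refine ⟨s * s₁, T.mul_mem (h6 hs) k1, fun g => ?_, fun q hq h => ?_, fun g hg x hx => ?_, fun ψ hψ => ?_⟩
    · have e : (s₁ : K) * j g = j g * s₁ := congrArg Subtype.val (k2 g)
      rw [mul_assoc, e, ← mul_assoc, hjH g s hs, mul_assoc]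
    · rcases hq.dvd_mul.1 (h.trans (Commute.orderOf_mul_dvd_mul_orderOf (s₁.2 s hs))) with k | k
      · rw [ha] at k
        exact (Nat.prime_dvd_prime_iff_eq hq h1).1 (hq.dvd_of_dvd_pow k) ▸ Finset.mem_insert_self r π
      · rw [Subgroup.orderOf_coe] at k
        exact Finset.mem_insert_of_mem (k3 q hq k)
    · let u : H := s₁ * j.codRestrict H hjH g
      have e : s * s₁ * j g = s * u := mul_assoc _ _ _
      rw [e] at hx
      obtain ⟨m, hm⟩ := exists_pow_eq (G := K) r
      have e1 : (s * u) ^ m = s := hm _ _ (isPPart_mul (u.2 s hs) ⟨a, ha⟩ (by rw [Subgroup.orderOf_coe]; exact hreg g hg))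
      have e2 : x * s = s * x := by
        have := Commute.pow_right (show Commute x (s * u) from hx) m
        rwa [e1] at this
      have hxH : x ∈ H := h9 s hs hs' (by
        rintro _ rfl
        exact e2.symm)
      obtain ⟨g', hg'⟩ := k4 g (hrg g hg) ⟨x, hxH⟩ (Subtype.ext (by
        change x * u = u * x
        rw [← mul_assoc, e2, mul_assoc, mul_assoc] at hx
        exact mul_left_cancel hx))
      exact ⟨g', congrArg Subtype.val hg'⟩
    · have hn : 2 ^ n' * w ≤ 2 ^ n * w := Nat.mul_le_mul_right w (Nat.pow_le_pow_right two_pos h7)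
      obtain ⟨c, c1, c2⟩ := hS K r w n' (S r) h1 (lt_of_le_of_lt (Nat.le_mul_of_pos_left w (by positivity)) h2)
        (h7.trans_lt h3) h4 h5 U h8 h9 ψ (hψ r (Finset.mem_insert_self r π)) s hs (h9 s hs hs')
      have hd : ∀ ξ : IrrCharacter H, ∃ d : IrrCharacter L → ℂ, c ξ ≠ 0 →
          (∀ θ, d θ ≠ 0 → (∀ q ∈ π, Tt q ((Nat.card ((S q).subgroupOf H)).factorization q) θ) ∧
            ∀ q a : ℕ, q.Prime → q ∉ π → 2 ^ n * w < q → Tt q a ξ → Tt q a θ) ∧
          ∀ g, Rg π g → (ξ : H → ℂ) (s₁ * j.codRestrict H hjH g) = ∑ᶠ θ, d θ * (θ : L → ℂ) g := fun ξ => by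
        by_cases hξ : c ξ = 0
        · exact ⟨0, fun k => absurd hξ k⟩
        obtain ⟨d, hd⟩ := k5 ξ fun q hq => by
          rw [hc q hq]
          exact (c1 ξ hξ).2 q _ (hy' q hq).1 (fun e => hrπ (e ▸ hq)) (hn.trans_lt (hy' q hq).2.1)
            (hψ q (Finset.mem_insert_of_mem hq))
        exact ⟨d, fun _ => hd⟩
      choose d hd using hd
      have := @Fintype.ofFinite (IrrCharacter H) finite_irr
      have := @Fintype.ofFinite (IrrCharacter L) finite_irr
      refine ⟨fun θ => ∑ ξ, c ξ * d ξ θ, fun θ hθ => ?_, fun g hg => ?_⟩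
      · obtain ⟨ξ, -, hξ⟩ := Finset.exists_ne_zero_of_sum_ne_zero hθ
        obtain ⟨m1, m2⟩ := (hd ξ (left_ne_zero_of_mul hξ)).1 θ (right_ne_zero_of_mul hξ)
        obtain ⟨m3, m4⟩ := c1 ξ (left_ne_zero_of_mul hξ)
        refine ⟨fun q hq => ?_, fun q b hq hq' hw h => ?_⟩
        · rcases Finset.mem_insert.1 hq with rfl | hq
          · exact m2 q _ h1 hrπ h2 m3
          · rw [← hc q hq]
            exact m1 q hq
        · exact m2 q b hq (fun k => hq' (Finset.mem_insert_of_mem k)) hw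
            (m4 q b hq (fun e => hq' (e ▸ Finset.mem_insert_self r π)) (hn.trans_lt hw) h)
      · have e : s * s₁ * j g = s * (s₁ * j.codRestrict H hjH g : H) := mul_assoc _ _ _
        rw [e, c2 _ (hreg g hg), finsum_eq_sum_of_fintype, finsum_eq_sum_of_fintype]
        simp only [Finset.sum_mul]
        rw [Finset.sum_comm]
        refine Finset.sum_congr rfl fun ξ _ => ?_
        by_cases hξ : c ξ = 0
        · simp [hξ]
        rw [(hd ξ hξ).2 g (hrg g hg), finsum_eq_sum_of_fintype, Finset.mul_sum]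
        simp only [mul_assoc]

/-- all `π`-parts lie in `T` -/
theorem reg (hR : BoxReg) {K : Type} [Group K] [Finite K] {w n : ℕ} {S : ℕ → Subgroup K} {T : Subgroup K}
    (hT : ∀ a ∈ T, ∀ b ∈ T, a * b = b * a) (ψ : IrrCharacter K) {y : K} (h1 : ∀ s ∈ T, y * s = s * y)
    (h2 : ∀ s ∈ T, (ψ : K → ℂ) (y * s) ≠ 0) (π : Finset ℕ) (hy : Hy w n π S T)
    (hψ : ∀ r ∈ π, Tt r ((Nat.card (S r)).factorization r) ψ) :
    ∃ t ∈ T, orderOf (y * t) ∣ orderOf y ∧ Rg π (y * t) := by
  classical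
  induction π using Finset.induction_on with
  | empty => exact ⟨1, T.one_mem, by simp, by simp [Rg]⟩
  | insert r π _ ih =>
    obtain ⟨t, k1, k2, k3⟩ := ih (fun q hq => hy q (Finset.mem_insert_of_mem hq))
      fun q hq => hψ q (Finset.mem_insert_of_mem hq)
    obtain ⟨m1, m2, -, m4, m5, m6, -⟩ := hy r (Finset.mem_insert_self r π)
    have := Fact.mk m1
    obtain ⟨x, hx⟩ := exists_isPPart r (y * t)
    have hxS := hR K r w (S r) m1 (lt_of_le_of_lt (Nat.le_mul_of_pos_left w (by positivity)) m2) m4 m5 ψ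
      (hψ r (Finset.mem_insert_self r π)) (y * t)
      (fun s hs => by rw [mul_assoc, hT t k1 s (m6 hs), ← mul_assoc, h1 s (m6 hs), mul_assoc])
      (fun s hs => by rw [mul_assoc]; exact h2 _ (T.mul_mem k1 (m6 hs))) x hx
    obtain ⟨m, hm⟩ := exists_pow_eq (G := K) r
    have e1 := hm _ _ hx
    obtain ⟨z, e2, e3, -, e4⟩ := hx
    have e : y * (t * x⁻¹) = z := by rw [← mul_assoc, ← e2, e3.eq, mul_inv_cancel_right]
    have e5 : orderOf z ∣ orderOf (y * t) := orderOf_dvd_of_mem_zpowers (by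
      rw [← e, ← mul_assoc, ← e1]
      exact mul_mem (Subgroup.mem_zpowers _) (inv_mem (pow_mem (Subgroup.mem_zpowers _) m)))
    refine ⟨t * x⁻¹, T.mul_mem k1 (T.inv_mem (m6 hxS)), e ▸ e5.trans k2, fun q hq => ?_⟩
    rw [e]
    rcases Finset.mem_insert.1 hq with rfl | hq
    · exact e4
    · exact fun k => k3 q hq (k.trans e5)

end Gb

/-- **all auxiliary primes at once** -/
theorem boxG_of (hS : BoxStep) (hR : BoxReg) (hF : BoxF) : BoxG := by
  classical
  intro K L _ _ _ _ j hj l w n M hM π S T hl hT hr hy A hA hAZ hE ψ hψ hU y hyl hyT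
  by_contra hcon
  push Not at hcon
  obtain ⟨t, k1, k2, k3⟩ := Gb.reg hR hT ψ hyT (fun s hs e => hcon s hs (by
    rw [centralChar, e, mul_zero, zero_div]
    exact ⟨0, 1, M.zero_mem, fun h => hM.2.1.ne_top (M.eq_top_of_isUnit_mem h isUnit_one), by simp⟩)) π hy hψ
  have hST : ∀ r ∈ π, S r ≤ T := fun r h => (hy r h).2.2.2.2.2.1
  obtain ⟨z, hz⟩ := (hr (y * t)).2 fun r h s hs => by
    rw [mul_assoc, hT t k1 s (hST r h hs), ← mul_assoc, hyT s (hST r h hs), mul_assoc]
  obtain ⟨s, m1, m2, -, m4, m5⟩ := Gb.pi hS L w n π K j hj S T hT hr hy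
  obtain ⟨c, c1, c2⟩ := m5 ψ hψ
  have hrg : ∀ g : L, Rg (insert l π) g → Rg π g := fun g hg q hq => hg q (Finset.mem_insert_of_mem hq)
  have hne : ∀ r ∈ π, r ≠ l := fun r h e => hl (e ▸ h)
  have hc : ∀ r ∈ π, Nat.card ((S r).comap j) = Nat.card (S r) := fun r h => by
    rw [← Subgroup.card_map_of_injective hj, Subgroup.map_comap_eq_self fun x hx =>
      (hr x).2 fun q hq u hu => hT x (hST r h hx) u (hST q hq hu)]
  have key := hF K L j hj l M hM (insert l π) (fun r => if r = l then A else (S r).comap j)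
    (Finset.mem_insert_self l π) (fun r h => by
      rcases Finset.mem_insert.1 h with rfl | h
      · rw [if_pos rfl]
        exact ⟨hM.1, hA, hAZ⟩
      · rw [if_neg (hne r h)]
        exact ⟨(hy r h).1, (hy r h).2.2.2.2.1.comap_of_injective j hj, fun x hx => Subgroup.mem_center_iff.2 fun g =>
          hj (by rw [map_mul, map_mul]; exact (hr _).1 ⟨g, rfl⟩ r h _ hx)⟩) ψ s m2 (fun g hg => m4 g (hrg g hg))
    (by simpa only [if_true] using hU) c (fun θ hθ r h => by
      rcases Finset.mem_insert.1 h with rfl | h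
      · simp only [if_true]
        exact hE θ (c1 θ hθ).1
      · simp only [if_neg (hne r h)]
        rw [hc r h]
        exact (c1 θ hθ).1 r h) (fun g hg => c2 g (hrg g hg)) z (fun r h => by
      rw [← orderOf_injective j hj, hz]
      rcases Finset.mem_insert.1 h with rfl | h
      · exact fun k => hyl (k.trans k2)
      · exact k3 r h)
  rw [hz, ← mul_assoc, ← hyT s m1, mul_assoc] at key
  exact hcon _ (T.mul_mem m1 k1) key

end Cfsg.Agent.KM.Si
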