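import Cfsg.Agent.KM.Si.Defs
import Cfsg.Agent.KM.Ht.Ext
import Cfsg.Agent.KM.Mu.B

/-!
# S4576, the strict inequality: the core of the height inequality with units (helper98)
-/

set_option autoImplicit false
set_option linter.unusedSectionVars false

namespace Cfsg.Agent.KM.Si

open Cfsg Cfsg.Agent.Blocks Cfsg.Agent.Blocks.Local Cfsg.Agent.Blocks.Basic Cfsg.Agent.Blocks.ConvCentral
  Cfsg.Agent.Characters Cfsg.Agent.KM.Ht

variable {l : ℕ} {M : Ideal AlgInt} {K : Type*} [Group K] [Fintype K]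

open scoped Classical in
/-- `Ht.lemZ` with units -/
theorem lemZ' (hM : IsPModular l M) {m : ℕ} (hm : m.Prime) (hlm : ¬ l ∣ m) (φ : K →* ℂˣ) (hφ : ∀ x, φ x ^ m = 1)
    {B : Set (IrrCharacter K)} (hB : IsPBlock M B) {χ : IrrCharacter K} (hχ : χ ∈ B) {D : Subgroup K}
    (hD : IsDefectGroup l M B D) {x₀ : K} (h1 : φ x₀ ≠ 1) (h2 : ¬ MemLocalIdeal M (centralChar (χ : K → ℂ) x₀))
    (S : Subgroup K) (hS0 : ∀ x, IsConj x₀ x → ∀ s ∈ S, x * s = s * x → s = 1)
    (hSN : ∀ g ∈ Subgroup.normalizer (D : Set K), ∀ s ∈ S, g * s * g⁻¹ ∈ S)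
    (hSD : S ≤ Subgroup.centralizer (D : Set K))
    (hSy : ∀ y, φ y = 1 → y ∈ Subgroup.centralizer (D : Set K) → ¬ l ∣ orderOf y → ∀ s ∈ S, y * s = s * y) :
    ∃ y, φ y = 1 ∧ ¬ l ∣ orderOf y ∧ (∀ s ∈ S, y * s = s * y) ∧
      ∀ s ∈ S, ¬ MemLocalIdeal M (centralChar (χ : K → ℂ) (y * s)) := by
  have := isPrime_of_isPModular hM
  have := Fact.mk hM.1
  have hDp := isPGroup_of_isDefectGroup hD
  let N := Subgroup.normalizer (D : Set K)
  obtain ⟨β, hβ, hβD, hind⟩ : ∃ β : Set (IrrCharacter N), IsPBlock M β ∧ IsDefectGroup l M β (D.subgroupOf N) ∧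
      IsInducedBlock M N β B := ((S0920.result l M hM D hDp).2 B hB hD).exists
  have := Fintype.ofFinite N
  obtain ⟨ξ, hξ⟩ := isPBlock_nonempty hβ
  have hSle : S ≤ N := hSD.trans (Subgroup.centralizer_le_normalizer _)
  obtain ⟨x₁, hx₁, hω₁⟩ := exists_isConj_of_inducedCentralChar N ξ.2 (g := x₀)
    (fun h => h2 ((memLocalIdeal_iff_of_sub (hind.2.2 ξ hξ χ hχ x₀)).1 h))
  have hφ1 : φ x₁ ≠ 1 := by
    obtain ⟨c, hc⟩ := isConj_iff.1 hx₁
    rw [← hc, map_mul, map_mul, map_inv, mul_inv_cancel_comm]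
    exact h1
  have hnS : (S.subgroupOf N).Normal := ⟨fun s hs g => hSN g g.2 s hs⟩
  have hker : ∀ ψ ∈ β, ∀ (g s : N), (s : K) ∈ S → (ψ : N → ℂ) (g * s) = (ψ : N → ℂ) g := by
    intro ψ hψ g s hs
    refine ker_of_fpf ψ.2 (S.subgroupOf N) (x := x₁) (fun t ht e => ?_) (fun h0 => ?_) g hs
    · exact Subtype.ext (hS0 x₁ hx₁ t ht (congrArg Subtype.val e))
    · apply hω₁
      rw [centralChar_memLocalIdeal_iff hβ hξ hψ, centralChar_def, h0, mul_zero, zero_div]
      exact memLocalIdeal_zero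
  have hcoef : ∀ g s : N, (s : K) ∈ S → blockCoeff β (g * s) = blockCoeff β g := by
    intro g s hs
    rw [Basic.blockCoeff_def, Basic.blockCoeff_def]
    congr 1
    exact finsum_mem_congr rfl fun ψ hψ => by rw [hker ψ hψ g s hs]
  have hT := coset_idem hM hm hlm (φ.comp N.subtype) (fun x => hφ x) hβ hξ (x₁ := x₁) hφ1 hω₁ (one_pow m)
  obtain ⟨y, hy1, hy2⟩ := exists_unit_term hM ξ.2
    (f := fun x : N => if (φ.comp N.subtype) x = 1 then blockCoeff β x else 0)
    (fun a b => by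
      show (if _ then _ else _) = (if _ then _ else _)
      rw [map_mul, map_mul, map_inv, mul_inv_cancel_comm, MinMax.isClassFunction_blockCoeff β a b])
    (fun x => by
      show MemLocalRing M (if _ then _ else _)
      split_ifs
      · exact Osima.memLocalRing_blockCoeff hM hβ x
      · exact memLocalRing_zero)
    (by rw [hT]; exact unit_inv_nat hM hlm)
  have hφy : φ y = 1 := by
    by_contra h
    apply hy1
    show MemLocalIdeal M (if _ then _ else _)
    rw [if_neg (by exact h)]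
    exact memLocalIdeal_zero
  have hay : ¬ MemLocalIdeal M (blockCoeff β y) := by
    intro h
    apply hy1
    show MemLocalIdeal M (if _ then _ else _)
    rw [if_pos (by exact hφy)]
    exact h
  have hnD : (D.subgroupOf N).Normal := Subgroup.normal_subgroupOf_of_le_normalizer le_rfl
  have hyC : (y : K) ∈ Subgroup.centralizer (D : Set K) := by
    by_contra h
    refine hy2 (BrauerMap.memLocalIdeal_centralChar_of_notMem hM ξ.2 (D.subgroupOf N) hDp.comap_subtype y
      fun h' => h fun d hd => ?_)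
    exact congrArg Subtype.val (h' ⟨d, Subgroup.le_normalizer hd⟩ hd)
  have hyr : ¬ l ∣ orderOf (y : K) := by
    intro h
    apply hay
    rw [H855.EB.blockCoeff_eq_zero hM hβ (g := y) (fun h' => h' (by rwa [Subgroup.orderOf_coe] at h))]
    exact memLocalIdeal_zero
  have hsyl : ∀ s : N, (s : K) ∈ S → IsSylowCentralizer l (y * s) (D.subgroupOf N) := by
    intro s hs
    refine syl_of_coeff hM hβ hβD (by rwa [hcoef y s hs]) fun d hd => ?_
    rw [Subgroup.mem_centralizer_singleton_iff]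
    apply Subtype.ext
    show (d : K) * (y * s) = y * s * d
    rw [← mul_assoc, hyC d hd, mul_assoc, hSD hs d hd, mul_assoc]
  refine ⟨y, hφy, hyr, hSy y hφy hyC hyr, fun s hs h0 => ?_⟩
  let s' : N := ⟨s, hSle hs⟩
  have e1 := fact_index_of_syl (hsyl s' hs)
  have e2 := fact_index_of_syl (hsyl 1 S.one_mem)
  rw [mul_one] at e2
  have hu := unit_div hM (a := (Subgroup.centralizer ({y * s'} : Set N)).index)
    (b := (Subgroup.centralizer ({y} : Set N)).index) Subgroup.index_ne_zero_of_finite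
    Subgroup.index_ne_zero_of_finite (by omega)
  have hω : ¬ MemLocalIdeal M (centralChar (ξ : N → ℂ) (y * s')) := by
    have e3 : centralChar (ξ : N → ℂ) (y * s') = (((Subgroup.centralizer ({y * s'} : Set N)).index : ℂ) /
        ((Subgroup.centralizer ({y} : Set N)).index : ℂ)) * centralChar (ξ : N → ℂ) y := by
      have : ((Subgroup.centralizer ({y} : Set N)).index : ℂ) ≠ 0 :=
        Nat.cast_ne_zero.2 Subgroup.index_ne_zero_of_finite
      rw [centralChar_def, centralChar_def, hker ξ hξ y s' hs]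
      field_simp
    rw [e3]
    exact unit_mul hu.1 (Osima.memLocalRing_centralChar hM ξ.2 y) hu.2 hy2
  have hsy := syl_of_normalizer hDp (hsyl s' hs)
  have e4 := brauer_eq hsy ξ.2
  have e5 := BrauerMap.inducedCentralChar_sub_brauerCentralChar hM hDp Subgroup.le_normalizer le_rfl ξ.2
    ((y * s' : N) : K)
  have e6 := hind.2.2 ξ hξ χ hχ ((y * s' : N) : K)
  rw [e4] at e5
  apply hω
  rw [← memLocalIdeal_iff_of_sub e5, memLocalIdeal_iff_of_sub e6]
  exact h0

variable {Γ H : Type*} [Group Γ] [Fintype Γ] [Group H] [Fintype H] {m : ℕ} {φ : Γ →* ℂˣ} {σ : Γ} {ι : H →* Γ}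

open scoped Classical in
/-- `Ht.Gl.core` with units -/
theorem gl_core (h : Gl m φ σ ι) (hM : IsPModular l M) (hlm : ¬ l ∣ m) (χh : IrrCharacter Γ) (χ : IrrCharacter H) {ε : ℂ}
    (hε : ε = 1 ∨ ε = -1) (hv : ∀ c, (χh : Γ → ℂ) (ι c * σ) = ε * (χ : H → ℂ) c)
    (hν : (Nat.card φ.ker).factorization l + (charDegree (χ : H → ℂ)).factorization l =
      (Nat.card H).factorization l + (charDegree (χh : Γ → ℂ)).factorization l)
    {B : Set (IrrCharacter H)} (hB : IsPBlock M B) (hχ : χ ∈ B) {D : Subgroup H} (hD : IsDefectGroup l M B D)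
    (S : Subgroup Γ) (hSK : S ≤ φ.ker) (hSc : (Nat.card S).Coprime (Nat.card H))
    (hSN : ∀ g ∈ Subgroup.normalizer (D.map ι : Set Γ), ∀ s ∈ S, g * s * g⁻¹ ∈ S)
    (hSD : S ≤ Subgroup.centralizer (D.map ι : Set Γ))
    (hSy : ∀ y, φ y = 1 → y ∈ Subgroup.centralizer (D.map ι : Set Γ) → ¬ l ∣ orderOf y → ∀ s ∈ S, y * s = s * y) :
    IsDefectGroup l M (blockOf M (χh : Γ → ℂ)) (D.map ι) ∧ ∃ y, φ y = 1 ∧ ¬ l ∣ orderOf y ∧ (∀ s ∈ S, y * s = s * y) ∧
      ∀ s ∈ S, ¬ MemLocalIdeal M (centralChar (χh : Γ → ℂ) (y * s)) := by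
  have := isPrime_of_isPModular hM
  have := Fact.mk hM.1
  obtain ⟨y₀, hy₀, hsyl⟩ := isDefectGroup_iff.1 hD
  have hχ1 := Basic.irr_one_ne_zero χ.2
  have hχh1 := Basic.irr_one_ne_zero χh.2
  have hK : (Nat.card φ.ker : ℂ) ≠ 0 := Nat.cast_ne_zero.2 Nat.card_pos.ne'
  have hH : (Nat.card H : ℂ) ≠ 0 := Nat.cast_ne_zero.2 Nat.card_pos.ne'
  have hεR : MemLocalRing M ε := by
    rcases hε with rfl | rfl
    · exact memLocalRing_one
    · exact memLocalRing_neg memLocalRing_one
  have hεu : ¬ MemLocalIdeal M ε := by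
    rcases hε with rfl | rfl
    · exact not_memLocalIdeal_one
    · rw [memLocalIdeal_neg_iff]; exact not_memLocalIdeal_one
  have hκ : MemLocalRing M ((Nat.card φ.ker * (χ : H → ℂ) 1) / (Nat.card H * (χh : Γ → ℂ) 1)) ∧
      ¬ MemLocalIdeal M ((Nat.card φ.ker * (χ : H → ℂ) 1) / (Nat.card H * (χh : Γ → ℂ) 1)) := by
    rw [irr_one_eq_charDegree χ.2, irr_one_eq_charDegree χh.2, ← Nat.cast_mul, ← Nat.cast_mul]
    have e1 := (charDegree_pos χ.2).ne'
    have e2 := (charDegree_pos χh.2).ne'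
    refine unit_div hM (mul_ne_zero Nat.card_pos.ne' e1) (mul_ne_zero Nat.card_pos.ne' e2) ?_
    rw [Nat.factorization_mul Nat.card_pos.ne' e1, Nat.factorization_mul Nat.card_pos.ne' e2]
    exact hν
  have hεκ := unit_mul hεR hκ.1 hεu hκ.2
  have hω₀ : ¬ MemLocalIdeal M (centralChar (χh : Γ → ℂ) (ι y₀ * σ)) := by
    rw [h.central_eq χh.2 χ.2 hv]
    exact unit_mul (memLocalRing_mul hεR hκ.1) (Osima.memLocalRing_centralChar hM χ.2 y₀) hεκ (hy₀.2.2 χ hχ)
  have hφ₀ : φ (ι y₀ * σ) ≠ 1 := by rw [map_mul, h.phi_iota, one_mul]; exact h.ne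
  let B' := blockOf M (χh : Γ → ℂ)
  have hB' : IsPBlock M B' := isPBlock_blockOf χh
  have hχ' : χh ∈ B' := mem_blockOf_self χh
  -- the coefficients on the coset
  let f : H → ℂ := fun c => blockCoeff B' (ι c * σ)
  have hf : IsClassFunction H f := fun a b =>
    (blockCoeff_isConj B' (h.isConj_iff'.2 (isConj_iff.2 ⟨b, rfl⟩))).symm
  have hfR : ∀ c, MemLocalRing M (f c) := fun c => Osima.memLocalRing_blockCoeff hM hB' _
  have hT := coset_idem hM h.prime hlm φ h.pow hB' hχ' hφ₀ hω₀ (h.pow σ)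
  have hS := h.sum_coset (fun x => blockCoeff B' x * ((χh : Γ → ℂ) x / (χh : Γ → ℂ) 1)) fun a b => by
    show blockCoeff _ _ * ((χh : Γ → ℂ) _ / _) = blockCoeff _ _ * ((χh : Γ → ℂ) _ / _)
    rw [Basic.irr_conj χh.2, MinMax.isClassFunction_blockCoeff B' a b]
  simp only [ite_mul, zero_mul] at hT
  rw [hT] at hS
  have hω : ¬ MemLocalIdeal M (∑ c : H, f c * ((χ : H → ℂ) c / (χ : H → ℂ) 1)) := by
    intro e
    apply unit_inv_nat hM hlm
    have e1 : (m : ℂ)⁻¹ = ε * ((Nat.card φ.ker * (χ : H → ℂ) 1) / (Nat.card H * (χh : Γ → ℂ) 1)) *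
        ∑ c : H, f c * ((χ : H → ℂ) c / (χ : H → ℂ) 1) := by
      rw [hS, Finset.mul_sum, Finset.mul_sum]
      refine Finset.sum_congr rfl fun c _ => ?_
      rw [hv]
      simp only [f]
      field_simp
    rw [e1]
    exact memLocalIdeal_mul_left (memLocalRing_mul hεR hκ.1) e
  obtain ⟨c, hc, hfc⟩ := MinMax.exists_centralizer_of_blockCoeff hM hf hfR
    (fun g => Osima.memLocalRing_blockCoeff hM hB g) (fun ψ hψ e => by
      apply hω
      have e1 := ClassSum.memLocalIdeal_of_sameBlock (irr_isClassFunction χ.2) (irr_isClassFunction ψ.2)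
        (isPBlock_sameBlock hB hχ hψ) hf hfR
      rw [memLocalIdeal_iff_of_sub e1]
      rw [MinMax.omega_def, lin_def, Finset.sum_div] at e
      simpa only [mul_div_assoc] using e)
    (isPGroup_of_isSylowCentralizer hsyl) (le_centralizer_of_isSylowCentralizer hsyl) hy₀.2.1
  have hD' : IsDefectGroup l M B' (D.map ι) := by
    refine defect_of hM hB' hχ' (h.syl hM.1 hlm hsyl) hω₀ ?_ hfc
    rintro _ ⟨d, hd, rfl⟩
    rw [Subgroup.mem_centralizer_singleton_iff, ← mul_assoc, ← map_mul, hc d hd, map_mul, mul_assoc, h.comm, mul_assoc]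
  refine ⟨hD', lemZ' hM h.prime hlm φ h.pow hB' hχ' hD' hφ₀ hω₀ S (fun x hx s hs e => ?_) hSN hSD hSy⟩
  obtain ⟨g, rfl⟩ := isConj_iff.1 hx
  obtain ⟨a, ha, -⟩ := h.cent_le (c := y₀) (x := g⁻¹ * s * g)
    (by rw [map_mul, map_mul, map_inv, show φ s = 1 from hSK hs, mul_one, inv_mul_cancel])
    (by
      calc g⁻¹ * s * g * (ι y₀ * σ) = g⁻¹ * (s * (g * (ι y₀ * σ) * g⁻¹)) * g := by group
        _ = _ := by rw [← e]; group)
  have h1 : orderOf s ∣ Nat.card H := by
    have : s = g * ι a * g⁻¹ := by rw [ha]; group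
    rw [this, ← MulAut.conj_apply, MulEquiv.orderOf_eq, orderOf_injective ι h.inj]
    exact orderOf_dvd_natCard a
  rw [← orderOf_eq_one_iff]
  exact Nat.eq_one_of_dvd_coprimes hSc (Subgroup.orderOf_dvd_natCard S hs) h1

theorem fac_cent (_hl : l.Prime) {i : K →* Γ} (hi : Function.Injective i) [i.range.Normal] (h : ¬ l ∣ i.range.index)
    (x : K) : (Nat.card (Subgroup.centralizer ({i x} : Set Γ))).factorization l =
      (Nat.card (Subgroup.centralizer ({x} : Set K))).factorization l := by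
  have h1 : Subgroup.centralizer ({i x} : Set Γ) ⊓ i.range = (Subgroup.centralizer ({x} : Set K)).map i := by
    ext g
    constructor
    · rintro ⟨h1, a, rfl⟩
      exact ⟨a, Subgroup.mem_centralizer_singleton_iff.2 (hi (by
        rw [map_mul, map_mul]; exact Subgroup.mem_centralizer_singleton_iff.1 h1)), rfl⟩
    · rintro ⟨a, ha, rfl⟩
      exact ⟨Subgroup.mem_centralizer_singleton_iff.2 (by
        rw [← map_mul, ← map_mul, Subgroup.mem_centralizer_singleton_iff.1 ha]), a, rfl⟩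
  have h2 := Mu.card_inf_mul (Subgroup.centralizer ({i x} : Set Γ)) i.range
  have h3 : ¬ l ∣ i.range.relIndex (Subgroup.centralizer ({i x} : Set Γ)) :=
    fun e => h (e.trans (Subgroup.relIndex_dvd_index_of_normal _ _))
  have h4 : i.range.relIndex (Subgroup.centralizer ({i x} : Set Γ)) ≠ 0 := fun e => h3 (e ▸ dvd_zero l)
  rw [← h2, h1, Subgroup.card_map_of_injective hi, Nat.factorization_mul Nat.card_pos.ne' h4,
    Finsupp.add_apply, Nat.factorization_eq_zero_of_not_dvd h3, add_zero]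

theorem unit_iff (hM : IsPModular l M) {i : K →* Γ} (hi : Function.Injective i) [i.range.Normal]
    (h : ¬ l ∣ i.range.index) {χ : Γ → ℂ} (_hχ : IsIrrCharacter Γ χ) {ψ : K → ℂ} (e : ∀ x, χ (i x) = ψ x) (x : K) :
    MemLocalIdeal M (centralChar χ (i x)) ↔ MemLocalIdeal M (centralChar ψ x) := by
  have := isPrime_of_isPModular hM
  have h1 := fac_cent hM.1 hi h x
  have h2 := congrArg (fun n : ℕ => n.factorization l) (Subgroup.centralizer ({i x} : Set Γ)).card_mul_index
  have h3 := congrArg (fun n : ℕ => n.factorization l) (Subgroup.centralizer ({x} : Set K)).card_mul_index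
  have h4 := congrArg (fun n : ℕ => n.factorization l) i.range.card_mul_index
  simp only [Nat.factorization_mul Nat.card_pos.ne' Subgroup.index_ne_zero_of_finite, Finsupp.add_apply] at h2 h3 h4
  rw [Nat.factorization_eq_zero_of_not_dvd h, ← Nat.card_congr (MonoidHom.ofInjective hi).toEquiv] at h4
  have h5 : ((Subgroup.centralizer ({x} : Set K)).index : ℂ) ≠ 0 := Nat.cast_ne_zero.2 Subgroup.index_ne_zero_of_finite
  have h6 : ((Subgroup.centralizer ({i x} : Set Γ)).index : ℂ) ≠ 0 := Nat.cast_ne_zero.2 Subgroup.index_ne_zero_of_finite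
  have e1 : χ 1 = ψ 1 := by rw [← map_one i, e]
  constructor
  · intro h7
    have h8 := memLocalIdeal_mul_left (unit_div hM (a := (Subgroup.centralizer ({x} : Set K)).index)
      (b := (Subgroup.centralizer ({i x} : Set Γ)).index) Subgroup.index_ne_zero_of_finite
      Subgroup.index_ne_zero_of_finite (by omega)).1 h7
    convert h8 using 1
    rw [centralChar_def, centralChar_def, e, e1]
    field_simp
  · intro h7
    have h8 := memLocalIdeal_mul_left (unit_div hM (a := (Subgroup.centralizer ({i x} : Set Γ)).index)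
      (b := (Subgroup.centralizer ({x} : Set K)).index) Subgroup.index_ne_zero_of_finite
      Subgroup.index_ne_zero_of_finite (by omega)).1 h7
    convert h8 using 1
    rw [centralChar_def, centralChar_def, e, e1]
    field_simp

/-- **The core with units.** -/
theorem boxCore : BoxCore := by
  intro H K _ _ _ _ l m M hM hm hlm α hα j hj hr hmH χ' hinv χ n hn hmul hν B hB hχ D hD S hSc hSα hSN hSD hSy
  classical
  have := Fact.mk hm
  have : NeZero m := ⟨hm.ne_zero⟩
  obtain ⟨ζ, hζ⟩ := IsCyclic.exists_generator (α := rootsOfUnity m ℂ)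
  have hoζ : orderOf ζ = m := by rw [orderOf_eq_card_of_forall_mem_zpowers hζ, Complex.card_rootsOfUnity]
  let ψ : rootsOfUnity m ℂ →* MulAut K :=
    monoidHomOfForallMemZpowers hζ (g' := α) (by rw [hoζ]; exact orderOf_dvd_of_pow_eq_one hα)
  have hψ : ψ ζ = α := monoidHomOfForallMemZpowers_apply_gen _ _
  let Γ := K ⋊[ψ] rootsOfUnity m ℂ
  have : Finite Γ := Finite.of_equiv _ SemidirectProduct.equivProd.symm
  have := Fintype.ofFinite Γ
  let φ : Γ →* ℂˣ := (rootsOfUnity m ℂ).subtype.comp SemidirectProduct.rightHom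
  let i : K →* Γ := SemidirectProduct.inl
  let σ : Γ := SemidirectProduct.inr ζ
  have hi : Function.Injective i := SemidirectProduct.inl_injective
  have hker : ∀ x, φ x = 1 ↔ x ∈ i.range := fun x => by
    rw [SemidirectProduct.range_inl_eq_ker_rightHom, MonoidHom.mem_ker]
    exact ⟨fun e => Subtype.ext e, fun e => congrArg Subtype.val e⟩
  have hφi : ∀ x, φ (i x) = 1 := fun x => (hker _).2 ⟨x, rfl⟩
  have hσ : ∀ x, σ * i x * σ⁻¹ = i (α x) := fun x => by
    rw [← hψ]
    exact ((SemidirectProduct.inl_aut ζ x).trans (by rw [map_inv])).symm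
  let e : K ≃* φ.ker := MulEquiv.ofBijective (i.codRestrict φ.ker hφi)
    ⟨fun a b e => hi (congrArg Subtype.val e), fun x => by
      obtain ⟨a, ha⟩ := (hker x).1 x.2
      exact ⟨a, Subtype.ext ha⟩⟩
  have he : ∀ x, ((e x : φ.ker) : Γ) = i x := fun x => rfl
  have hcK : Nat.card φ.ker = Nat.card K := (Nat.card_congr e.toEquiv).symm
  have hKH : Nat.card K ≡ Nat.card H [MOD m] := by
    have h1 : IsPGroup m (rootsOfUnity m ℂ) := IsPGroup.of_card (n := 1) (by rw [Complex.card_rootsOfUnity, pow_one])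
    let _ : MulAction (rootsOfUnity m ℂ) K := MulAction.compHom K ψ
    have h2 := h1.card_modEq_card_fixedPoints K
    have h3 : MulAction.fixedPoints (rootsOfUnity m ℂ) K = j.range := by
      ext x
      rw [SetLike.mem_coe, hr]
      refine ⟨fun h => hψ ▸ h ζ, fun h g => ?_⟩
      have h4 : Subgroup.zpowers ζ ≤ MulAction.stabilizer (rootsOfUnity m ℂ) x :=
        Subgroup.zpowers_le.2 (show ψ ζ x = x by rw [hψ, h])
      exact h4 (hζ g)
    rw [h3] at h2
    exact h2.trans (by rw [Nat.card_congr (MonoidHom.ofInjective hj).toEquiv]; rfl)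
  have h : Gl m φ σ (i.comp j) :=
    { prime := hm
      pow := fun x => (SemidirectProduct.rightHom x).2
      ne := fun e => hm.one_lt.ne' (by rw [← hoζ, orderOf_eq_one_iff]; exact Subtype.ext e)
      ord := by rw [← map_pow, orderOf_dvd_iff_pow_eq_one.1 (dvd_of_eq hoζ), map_one]
      cop := by
        rw [hcK]
        exact ((Nat.Prime.coprime_iff_not_dvd hm).2 fun e => hmH ((hKH.dvd_iff dvd_rfl).1 e)).symm
      inj := hi.comp hj
      rng := fun x => by
        constructor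
        · rintro ⟨c, rfl⟩
          refine ⟨hφi _, ?_⟩
          have h1 := hσ (j c)
          rw [(hr _).1 ⟨c, rfl⟩, mul_inv_eq_iff_eq_mul] at h1
          exact h1.symm
        · rintro ⟨h1, h2⟩
          obtain ⟨a, rfl⟩ := (hker x).1 h1
          obtain ⟨c, rfl⟩ := (hr a).2 (hi (by rw [← hσ, ← h2, mul_inv_cancel_right]))
          exact ⟨c, rfl⟩ }
  let χ₀ : IrrCharacter φ.ker := ⟨(χ' : K → ℂ) ∘ e.symm.toMonoidHom, Core.isIrr_comp _ e.symm.surjective χ'.2⟩
  have hχ₀ : ∀ x, (χ₀ : φ.ker → ℂ) (e x) = (χ' : K → ℂ) x := fun x => by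
    show (χ' : K → ℂ) (e.symm (e x)) = _
    rw [e.symm_apply_apply]
  obtain ⟨χh, ε, hε, h1, h2⟩ := h.exists_ext χ₀ (fun g g' e' => by
    obtain ⟨a, rfl⟩ := e.surjective g
    rw [he, hσ] at e'
    rw [show g' = e (α a) from Subtype.ext e', hχ₀, hχ₀, hinv]) χ hn (by
      rw [← hmul]
      congr 1
      funext c
      exact hχ₀ (j c))
  have h3 : ∀ x, (χh : Γ → ℂ) (i x) = (χ' : K → ℂ) x := fun x => by rw [← he, h1, hχ₀]
  have hmap : D.map (i.comp j) = (D.map j).map i := (Subgroup.map_map _ _ _).symm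
  have hσS : ∀ (n : ℕ), ∀ s ∈ S.map i, σ ^ n * s * (σ ^ n)⁻¹ ∈ S.map i := by
    intro n
    induction n with
    | zero => intro s hs; simpa using hs
    | succ n ih =>
      rintro _ ⟨s, hs, rfl⟩
      have := ih _ ⟨α s, hSα s hs, rfl⟩
      rw [← hσ] at this
      rw [pow_succ]
      convert this using 1
      group
  have hσD : σ ∈ Subgroup.normalizer (D.map (i.comp j) : Set Γ) := by
    refine Subgroup.centralizer_le_normalizer _ ?_
    rintro _ ⟨d, -, rfl⟩
    exact h.comm d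
  obtain ⟨hD', y, hy1, hy0, hy2, hy3⟩ := gl_core h hM hlm χh χ hε h2 (by
      rw [hcK, hν, charDegree_def (χh : Γ → ℂ), ← map_one i, h3, ← charDegree_def]) hB hχ hD (S.map i)
    (by rintro _ ⟨s, -, rfl⟩; exact hφi s) (by rw [Subgroup.card_map_of_injective hi]; exact hSc)
    (fun g hg s hs => by
      obtain ⟨k, hk, n, rfl⟩ := h.dec g
      obtain ⟨a, rfl⟩ := (hker k).1 hk
      have h4 : i a ∈ Subgroup.normalizer (D.map (i.comp j) : Set Γ) := by
        have := Subgroup.mul_mem _ hg (Subgroup.inv_mem _ (Subgroup.pow_mem _ hσD n))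
        rwa [mul_inv_cancel_right] at this
      have h5 : a ∈ Subgroup.normalizer (D.map j : Set K) := by
        refine Subgroup.mem_normalizer_fintype fun d hd => ?_
        have h6 := (Subgroup.mem_normalizer_iff.1 h4 (i d)).1 (hmap ▸ ⟨d, hd, rfl⟩)
        rw [hmap, ← map_inv, ← map_mul, ← map_mul] at h6
        obtain ⟨d', hd', e'⟩ := h6
        exact hi e' ▸ hd'
      obtain ⟨t, ht, e'⟩ := hσS n s hs
      refine ⟨a * t * a⁻¹, hSN a h5 t ht, ?_⟩
      rw [map_mul, map_mul, map_inv, e']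
      group)
    (by
      rintro _ ⟨s, hs, rfl⟩ _ ⟨d, hd, rfl⟩
      show i (j d) * i s = i s * i (j d)
      rw [← map_mul, ← map_mul, hSD hs (j d) ⟨d, hd, rfl⟩])
    (fun y hy hc ho => by
      obtain ⟨a, rfl⟩ := (hker y).1 hy
      rintro _ ⟨s, hs, rfl⟩
      rw [← map_mul, ← map_mul, hSy a ?_ (by rwa [orderOf_injective i hi] at ho) s hs]
      rintro _ ⟨d, hd, rfl⟩
      exact hi (by rw [map_mul, map_mul]; exact hc _ ⟨d, hd, rfl⟩))
  obtain ⟨a, rfl⟩ := (hker y).1 hy1
  have hrg : i.range = φ.ker := Subgroup.ext fun x => (hker x).symm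
  have hidx : ¬ l ∣ i.range.index := by
    have h4 := i.range.card_mul_index
    rw [hrg, hcK, SemidirectProduct.card, Complex.card_rootsOfUnity] at h4
    rw [hrg, Nat.eq_of_mul_eq_mul_left Nat.card_pos h4]
    exact hlm
  have hnm : i.range.Normal := hrg ▸ inferInstance
  have := Fact.mk hM.1
  have := isPrime_of_isPModular hM
  refine ⟨fun x hx => ?_, a, by rwa [orderOf_injective i hi] at hy0,
    fun s hs => hi (by rw [map_mul, map_mul]; exact hy2 _ ⟨s, hs, rfl⟩), fun s hs => ?_⟩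
  · have h4 := Mu.fac_le_cent hM (isPBlock_blockOf χh) hD' (mem_blockOf_self χh)
      (mt (unit_iff hM hi hidx χh.2 h3 x).1 hx)
    rwa [Subgroup.card_map_of_injective h.inj, fac_cent hM.1 hi hidx] at h4
  · rw [← unit_iff hM hi hidx χh.2 h3, map_mul]
    exact hy3 _ ⟨s, hs, rfl⟩

end Cfsg.Agent.KM.Si
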