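import Cfsg.Agent.KM.Si.Defs2
import Cfsg.Agent.KM.Si.Core
import Cfsg.Agent.KM.Core

/-!
# S4576, the strict inequality: the arithmetic glue (helper29)

`si_of : BoxA → BoxL → SI`.
-/

set_option autoImplicit false
set_option linter.unusedSectionVars false

namespace Cfsg.Agent.KM.Si

open Cfsg Cfsg.Agent.DL Cfsg.Agent.DL.PP Cfsg.Agent.DL.Uni Cfsg.Agent.KZ.Lie Cfsg.Agent.LV.One Cfsg.Agent.Blocks
  Cfsg.Agent.Blocks.Basic Cfsg.Agent.Characters.Core Cfsg.Agent.KM.Ht Polynomial Matrix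

variable {p : ℕ} [Fact p.Prime] {k : Type} [Field k] [CharP k p] {Y : Type} [Group Y] {N : Type} [Fintype N]
  [DecidableEq N] {ρ : Y →* GL N k} {F : MulAut Y} {G : Subgroup Y} [IsAlgClosed k]

namespace Mg

/-- the elements of `Z0` of order prime to `h` -/
def cZ (X : Datum p ρ F G) (A : Set Y) (K : Subgroup Y) (h : ℕ) : Subgroup K where
  carrier := {z | (z : Y) ∈ Z0 X A ∧ (orderOf z).Coprime h}
  one_mem' := ⟨(Z0 X A).one_mem, by rw [orderOf_one]; exact Nat.coprime_one_left h⟩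
  mul_mem' := fun {a b} ha hb => ⟨(Z0 X A).mul_mem ha.1 hb.1, (Nat.Coprime.mul_left ha.2 hb.2).coprime_dvd_left
    (Commute.orderOf_mul_dvd_mul_orderOf (Subtype.ext (X.T_comm (Z0_le_T X A ha.1) (Z0_le_T X A hb.1))))⟩
  inv_mem' := fun {a} ha => ⟨(Z0 X A).inv_mem ha.1, by rw [orderOf_inv]; exact ha.2⟩

theorem lvl_conj {X : Datum p ρ F G} {d e : ℕ} (L : Lvl X d e) {y : Y} (hy : y ∈ G) (hN : y⁻¹ * F y ∈ X.NN) :
    Lvl (X.conj hy hN) d e :=
  ⟨L.d_pos, L.e_pos, fun w => by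
    have h := L.pow (w * X.pr (y⁻¹ * F y))
    rw [X.Wm_mul, mul_assoc] at h
    rw [KZ.Lie.conj_Wm hy hN, X.conj_Mx]
    exact h⟩

theorem lq {X : Datum p ρ F G} {d e m j : ℕ} (L : Lvl X d e) (hm : 0 < m) (hj : m = 1 + d * j) :
    Lq (X.pow hm) (p ^ e) d ((p : ℤ) ^ (e * j)) := fun w =>
  ⟨X.Wm w * X.Mx, by
    subst hj
    exact (congrArg (X.Wm w * ·) (pow_Mx L j)).trans (mul_smul_comm _ _ _), by rw [Nat.cast_pow]; exact L.pow w⟩

/-- one level -/
theorem lev (hL : BoxL) (X : Datum p ρ F G) [Fintype ↥(GF F G)] {l : ℕ} {M : Ideal AlgInt} (hM : IsPModular l M)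
    (hlp : l ≠ p) {B : Set (IrrCharacter ↥(GF F G))} {D : Subgroup ↥(GF F G)} (hB : IsPBlock M B)
    (hD : IsDefectGroup l M B D) {A : Subgroup Y} (hA : Ctl X (D.map (GF F G).subtype) A) {χ : IrrCharacter ↥(GF F G)}
    (hχ : χ ∈ B) {m : ℕ} (hm : m.Prime) (hlm : ¬ l ∣ m) (hmH : ¬ m ∣ Nat.card ↥(GF F G)) [Fintype ↥(GF (F ^ m) G)]
    {χ' : GF (F ^ m) G → ℂ} (h1 : IsIrrCharacter _ χ') (h2 : ∀ g g' : GF (F ^ m) G, (g' : Y) = F g → χ' g' = χ' g)
    {n : ℕ} (hn : ¬ m ∣ n)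
    (h3 : classInner (fun g : GF F G => χ' (Subgroup.inclusion (GF_le_pow m) g)) (χ : GF F G → ℂ) = n)
    (hν : (Nat.card ↥(GF (F ^ m) G)).factorization l + (charDegree (χ : GF F G → ℂ)).factorization l =
      (Nat.card ↥(GF F G)).factorization l + (charDegree χ').factorization l)
    {q d : ℕ} {t : ℤ} {π : ℕ → Prop} (ht : t ≠ 0) (hq : Lq (X.pow hm.pos) q d t) (ha : Ar q d l t π)
    (hπ : ∀ r, π r → r.Prime ∧ r ≠ p ∧ r ≠ l ∧ bd X < r) (hπ' : ∀ r, π r → ¬ r ∣ Nat.card ↥(GF F G))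
    (h4 : ∀ r, π r → Tt r ((Nat.card ↥(GF (F ^ m) (Z0 X A))).factorization r) ⟨χ', h1⟩)
    (h5 : (Nat.card ↥(GF (F ^ m) (Z0 X A))).factorization l < (Nat.card D).factorization l) : False := by
  obtain ⟨z1, z2, z3⟩ := boxZ X A hA.tor
  have hAF : ∀ a ∈ A, F a = a := fun a ha => by
    obtain ⟨d, -, rfl⟩ := hA.le ha
    exact d.2.2
  have := Fact.mk hM.1
  have hDp := isPGroup_of_isDefectGroup hD
  have hfin : Finite ↥(D.map (GF F G).subtype) := Finite.of_surjective _ (D.equivMapOfInjective _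
    (GF F G).subtype_injective).surjective
  have hAfin : Finite A := Finite.of_injective _ (Subgroup.inclusion_injective hA.le)
  have hAp : IsPGroup l A := (hDp.map _).to_le hA.le
  let j := Subgroup.inclusion (GF_le_pow (F := F) (G := G) m)
  let S := cZ X A (GF (F ^ m) G) (Nat.card ↥(GF F G))
  obtain ⟨hU, y, hy0, hy1, hy2⟩ := boxCore _ _ l m M hM hm hlm (resF X m) (MulEquiv.ext fun g => Subtype.ext (by
      rw [resF_pow]; exact g.2.2)) j (Subgroup.inclusion_injective _)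
    (fun x => ⟨by rintro ⟨c, rfl⟩; exact Subtype.ext c.2.2,
      fun e => ⟨⟨x, x.2.1, congrArg Subtype.val e⟩, rfl⟩⟩) hmH ⟨χ', h1⟩ (fun g => h2 g _ rfl) χ n hn h3 hν B hB hχ D hD S
    (Nat.coprime_of_dvd fun r hr e e' => by
      have := Fact.mk hr
      obtain ⟨s, hs⟩ := exists_prime_orderOf_dvd_card' r e
      have h6 := s.2.2
      rw [Subgroup.orderOf_coe, hs] at h6
      exact (hr.coprime_iff_not_dvd.1 h6) e')
    (fun s hs => ⟨(boxP X A hA.tor hAF).1 _ hs.1, by rw [MulEquiv.orderOf_eq]; exact hs.2⟩)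
    (fun g hg s hs => by
      refine ⟨z1 g g.2.1 (hA.nrm g g.2.1 (Subgroup.mem_normalizer_fintype ?_)) s hs.1, by
        rw [← MulAut.conj_apply, MulEquiv.orderOf_eq]; exact hs.2⟩
      rintro _ ⟨d, hd, rfl⟩
      obtain ⟨d', hd', e⟩ := (Subgroup.mem_normalizer_iff.1 hg (j d)).1 ⟨d, hd, rfl⟩
      exact ⟨d', hd', congrArg Subtype.val e⟩)
    (by
      rintro s hs _ ⟨d, hd, rfl⟩
      exact Subtype.ext (z2 d (hA.cen ⟨d, hd, rfl⟩) s hs.1))
    (fun y hy ho s hs => Subtype.ext (z2 y (z3 l hM.1 hlp hAfin hAp y y.2.1 (fun a ha => by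
      obtain ⟨d, hd, rfl⟩ := hA.le ha
      exact congrArg Subtype.val (hy (j d) ⟨d, hd, rfl⟩)) (by rwa [Subgroup.orderOf_coe])) s hs.1))
  obtain ⟨s, hs, h6⟩ := hL (X.pow hm.pos) q d l t π M hM hlp ht hq ha hπ A S (fun z hz => Z0_le_T X A hz.1)
    (fun r hr z ⟨hz, a, e⟩ => ⟨hz, (((hπ r hr).1.coprime_iff_not_dvd.2 (hπ' r hr)).pow_left a).coprime_dvd_left
      (orderOf_dvd_of_pow_eq_one e)⟩) ⟨χ', h1⟩ h4 (fun x hx => h5.trans_le (hU x hx)) y hy0 hy1
  exact hy2 s hs h6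

end Mg

/-- **The strict inequality from the boxes.** -/
theorem si_of (hA' : BoxA) (hL' : BoxL) : SI := by
  intro p _ k _ _ Y _ N _ _ ρ F G _ X _ hq l M hM hlp B D hB hD y hy hN A hA hlt χ hχ
  by_contra hge
  have hp : p.Prime := Fact.out
  have hl := hM.1
  have := Fintype.ofFinite ↥(GF F G)
  have := Fintype.ofFinite X.W
  obtain ⟨f⟩ := nonempty_fr X
  have hL := boxLf f hq _ χ.2
  have hn := Deg.deg_of_dwR hq f Deg.boxCnt D3.boxExp D3.boxPow Deg.boxBij (dwR X) χ.2 hl hlp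
  obtain ⟨g, hg, g2⟩ := exists_poly f hq hL.lfE (gen_of_irr χ.2)
  obtain ⟨Q, hQ1, hQ⟩ := exists_ord hq f
  obtain ⟨c, n, u, hc0, hu, hu0, rfl⟩ := exists_form (g := g) fun e =>
    irr_one_ne_zero χ.2 (by rw [← g2, e, eval_zero, Rat.cast_zero])
  have h1 : c * (u.eval 1 : ℤ) = charDegree (χ : GF F G → ℂ) := by
    rw [irr_one_eq_charDegree χ.2, eval_mul, eval_C, ← Int.cast_one, eval_map_cast, eval_mul, eval_pow, eval_X, one_pow,
      one_mul] at g2
    exact_mod_cast g2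
  obtain ⟨-, P, hP0, hP1, hP⟩ := boxP (X.conj hy hN) A hA.tor fun a ha => by
    obtain ⟨d, -, rfl⟩ := hA.le ha
    exact d.2.2
  have hfin : ∀ (F' : MulAut Y) [Finite ↥(GF F' G)], Nat.card ↥(GF F' (Z0 (X.conj hy hN) A)) ≠ 0 := fun F' _ => by
    have : Finite ↥(GF F' (Z0 (X.conj hy hN) A)) := Finite.of_injective _ (Subgroup.inclusion_injective
      (show GF F' (Z0 (X.conj hy hN) A) ≤ GF F' G from fun z hz => ⟨(X.conj hy hN).T_le_G (Z0_le_T _ _ hz.1), hz.2⟩))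
    exact Nat.card_pos.ne'
  have hP2 : (P.eval 1).natAbs ≠ 0 := by rw [hP1]; exact hfin F
  obtain ⟨H, hH⟩ := ht_dvd f hq hM hlp hB hD hy hN hA hχ hL hu hu0 hg h1 hQ1 hQ hP0 (Int.natAbs_ne_zero.1 hP2)
    fun j => hP f.d f.e j (f.L.pow _)
  have hsp : ∀ t : ℤ, (Q.eval t).natAbs = (u.eval t).natAbs * (P.eval t).natAbs * (H.eval t).natAbs := fun t => by
    rw [hH, eval_mul, eval_mul, Int.natAbs_mul, Int.natAbs_mul]
  have hfa : ∀ t : ℤ, (Q.eval t).natAbs ≠ 0 → ∀ r, (Q.eval t).natAbs.factorization r = (u.eval t).natAbs.factorization r +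
      (P.eval t).natAbs.factorization r + (H.eval t).natAbs.factorization r := fun t e r => by
    rw [hsp] at e ⊢
    rw [Nat.factorization_mul (left_ne_zero_of_mul e) (right_ne_zero_of_mul e), Nat.factorization_mul
      (left_ne_zero_of_mul (left_ne_zero_of_mul e)) (right_ne_zero_of_mul (left_ne_zero_of_mul e))]
    rfl
  have hd0 := (charDegree_pos χ.2).ne'
  have hQ0 : (Q.eval 1).natAbs ≠ 0 := by
    rw [hQ1, Int.natAbs_natCast]
    exact fun e => not_dvd_pc' (p := p) (GF F G) (e ▸ dvd_zero p)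
  have hQ0' := hQ0
  rw [hsp] at hQ0'
  have hu1 := left_ne_zero_of_mul (left_ne_zero_of_mul hQ0')
  have hnum : c.num.natAbs ≠ 0 := Int.natAbs_ne_zero.2 (Rat.num_ne_zero.2 hc0)
  have e1 : c.den * charDegree (χ : GF F G → ℂ) = c.num.natAbs * (u.eval 1).natAbs := by
    have : (c.den : ℤ) * charDegree (χ : GF F G → ℂ) = c.num * u.eval 1 := Int.cast_injective (α := ℚ) (by
      rw [Int.cast_mul, Int.cast_mul, Int.cast_natCast, Int.cast_natCast, ← h1, ← mul_assoc, Rat.den_mul_eq_num])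
    simpa [Int.natAbs_mul] using congrArg Int.natAbs this
  have v2 := congrArg (fun x : ℕ => x.factorization l) e1
  simp only [Nat.factorization_mul c.den_ne_zero hd0, Nat.factorization_mul hnum hu1, Finsupp.add_apply] at v2
  have v0 : c.num.natAbs.factorization l = 0 := Nat.factorization_eq_zero_of_not_dvd fun e' => by
    by_cases e : (l : ℤ) ∣ c.den
    · exact hl.not_dvd_one (by
        rw [← c.reduced]
        exact Nat.dvd_gcd e' (Int.natCast_dvd_natCast.1 e))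
    · exact hn _ hg c.num c.den (Polynomial.X ^ n * u)
        (by rw [← mul_assoc, ← C_mul, Int.cast_natCast, Rat.den_mul_eq_num]) e (Int.natCast_dvd.2 e')
  set h := Nat.card ↥(GF F G) with hh
  have hh0 : h ≠ 0 := Nat.card_pos.ne'
  have v6 : h.factorization l = (Q.eval 1).natAbs.factorization l := by rw [hh, fact_card hl hlp, hQ1, Int.natAbs_natCast]
  have hH1 : ¬ (l : ℤ) ∣ H.eval 1 := fun e => by
    have w1 := hfa 1 hQ0 l
    have w2 := hl.factorization_pos_of_dvd (right_ne_zero_of_mul hQ0') (Int.natCast_dvd.1 e)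
    rw [hP1] at w1
    omega
  obtain ⟨N₂, j₀, hN2, hN2', hAr⟩ := hA' p l f.d f.e (bd (X.conj hy hN) + l + h + c.den) H hp hl hlp f.L.d_pos f.L.e_pos hH1
  set N₀ := N₂ * ((Q.eval 1).natAbs * l) with hN₀
  have hN0 : N₀ ≠ 0 := mul_ne_zero hN2 (mul_ne_zero hQ0 hl.ne_zero)
  set N₁ := N₀ / p ^ N₀.factorization p with hN₁
  have hN1 : N₁.Coprime p := (Nat.coprime_ordCompl hp hN0).symm
  have hN1' : 0 < N₁ := Nat.ordCompl_pos p hN0
  obtain ⟨m, hm, i, f', χ', ε, h2, h3, h4, h5, h6, h7, h8, n', h9, h10⟩ := hL (1 + f.d * j₀ + h + l)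
    (f.d * N₁.totient) (mul_ne_zero f.L.d_pos.ne' (Nat.totient_pos.2 hN1').ne')
  obtain ⟨j', hj'⟩ := (Nat.modEq_iff_dvd' hm).1 h3.symm
  set j := N₁.totient * j' with hj
  have h11 : m = 1 + f.d * j := by rw [hj, ← mul_assoc]; omega
  have h12 : j₀ < j := lt_of_mul_lt_mul_left (a := f.d) (by omega) (Nat.zero_le _)
  have h13 : (N₁ : ℤ) ∣ (p : ℤ) ^ (f.e * j) - 1 := by
    have := (Nat.ModEq.pow_totient hN1.symm).pow (j' * f.e)
    rw [one_pow, ← pow_mul, ← mul_assoc, ← hj, mul_comm j] at this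
    have := Nat.ModEq.dvd this.symm
    simpa using this
  have h15 := hAr j h12.le ((Int.natCast_dvd_natCast.2 ((hN2'.pow_right (N₀.factorization p)).dvd_of_dvd_mul_left (by
    rw [hN₁, Nat.ordProj_mul_ordCompl_eq_self]; exact Dvd.intro _ rfl))).trans h13)
  have h16 := Mg.lq (Mg.lvl_conj f.L hy hN) hm h11
  have ht0 : (p : ℤ) ^ (f.e * j) ≠ 0 := pow_ne_zero _ (Nat.cast_ne_zero.2 hp.ne_zero)
  set t : ℤ := (p : ℤ) ^ (f.e * j) with ht
  have h14 := deg_of_lift f hq (gen_of_irr χ.2) hg hm h11 f' h5 h6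
  obtain ⟨η, rfl, hη⟩ : ∃ η : ℤ, ε = η ∧ η.natAbs = 1 := by
    rcases h5 with rfl | rfl
    exacts [⟨1, by simp, rfl⟩, ⟨-1, by simp, rfl⟩]
  have e2 : c.den * charDegree χ' = c.num.natAbs * (p ^ (f.e * j * n) * (u.eval t).natAbs) := by
    rw [eval_mul, eval_C, eval_map_cast, irr_one_eq_charDegree h4] at h14
    have h17 : ((η * charDegree χ' : ℤ) : ℚ) = c * ((Polynomial.X ^ n * u).eval t : ℤ) := by exact_mod_cast h14
    have h16 : (c.den : ℤ) * (η * charDegree χ') = c.num * (Polynomial.X ^ n * u).eval t := by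
      refine Int.cast_injective (α := ℚ) ?_
      rw [Int.cast_mul, h17, Int.cast_mul, ← mul_assoc, Int.cast_natCast, Rat.den_mul_eq_num]
    have h18 := congrArg Int.natAbs h16
    rw [eval_mul, eval_pow, eval_X, ht, ← pow_mul] at h18
    simpa [Int.natAbs_mul, hη, Int.natAbs_pow] using h18
  have hd1 := (charDegree_pos h4).ne'
  have hut : (u.eval t).natAbs ≠ 0 := fun e => mul_ne_zero c.den_ne_zero hd1 (by rw [e2, e, mul_zero, mul_zero])
  have v1 : ∀ r, r ≠ p → c.den.factorization r + (charDegree χ').factorization r =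
      c.num.natAbs.factorization r + (u.eval t).natAbs.factorization r := fun r hrp => by
    have := congrArg (fun x : ℕ => x.factorization r) e2
    simp only [Nat.factorization_mul c.den_ne_zero hd1, Nat.factorization_mul hnum
      (mul_ne_zero (pow_ne_zero _ hp.ne_zero) hut), Nat.factorization_mul (pow_ne_zero _ hp.ne_zero) hut,
      Finsupp.add_apply, Nat.factorization_pow, Finsupp.smul_apply, hp.factorization, Finsupp.single_apply,
      if_neg hrp.symm, smul_zero, zero_add] at this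
    exact this
  have v3 : ∀ r, r.Prime → r ≠ p → (Nat.card ↥(GF (F ^ m) G)).factorization r = (Q.eval t).natAbs.factorization r :=
    fun r hr hrp => by rw [fact_card hr hrp, hQ m j hm h11, Int.natAbs_natCast]
  have v4 := (fact_eval hl hp hlp Q (Int.natAbs_ne_zero.1 hQ0) (N₀ := N₀) (Dvd.intro_left _ rfl) h13).2
  have v5 := (fact_eval hl hp hlp u (Int.natAbs_ne_zero.1 hu1) (N₀ := N₀) (dvd_mul_of_dvd_right (mul_dvd_mul_right (by
    rw [hsp, mul_assoc]; exact dvd_mul_right _ _) _) _) h13).2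
  have v7 := (fact_eval hl hp hlp P (Int.natAbs_ne_zero.1 hP2) (N₀ := N₀) (dvd_mul_of_dvd_right (mul_dvd_mul_right (by
    rw [hsp]; exact dvd_mul_of_dvd_left (dvd_mul_left _ _) _) _) _) h13).2
  have hPt : (P.eval t).natAbs = Nat.card ↥(GF (F ^ m) (Z0 (X.conj hy hN) A)) := by rw [hP f.d f.e j (f.L.pow _), ← h11]
  have hQt : (Q.eval t).natAbs ≠ 0 := by
    rw [hQ m j hm h11, Int.natAbs_natCast]
    exact fun e => not_dvd_pc' (p := p) (GF (F ^ m) G) (e ▸ dvd_zero p)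
  refine Mg.lev hL' (X.conj hy hN) hM hlp hB hD hA hχ h7 (fun e => ?_) (fun e => ?_) h4 h8 h9 h10 ?_ ht0 h16 h15
    (fun r hr => ⟨hr.1, hr.2.2.1, by have := hr.2.1; omega, by have := hr.2.1; omega⟩)
    (fun r hr e => ?_) (fun r hr => ?_) (by rw [← hPt, v7, hP1]; exact hlt)
  · have := (Nat.prime_dvd_prime_iff_eq hl h7).1 e
    omega
  · have := Nat.le_of_dvd (Nat.pos_of_ne_zero hh0) e
    omega
  · have := v1 l hlp
    have := v3 l hl hlp
    rw [← hh]
    omega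
  · have := Nat.le_of_dvd (Nat.pos_of_ne_zero hh0) e
    have := hr.2.1
    omega
  · have w1 := v1 r hr.2.2.1
    have w2 := v3 r hr.1 hr.2.2.1
    have w3 := hfa t hQt r
    have w4 : (H.eval t).natAbs.factorization r = 0 :=
      Nat.factorization_eq_zero_of_not_dvd fun e => hr.2.2.2 (Int.natCast_dvd.2 e)
    have w5 : c.den.factorization r = 0 := Nat.factorization_eq_zero_of_lt (by have := hr.2.1; omega)
    show _ ≤ (charDegree χ').factorization r + _
    rw [← hPt]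
    omega

end Cfsg.Agent.KM.Si
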