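import Cfsg.Agent.KM.Si.StepB

/-!
# S4576, the strict inequality: `boxStep` (helper98)
-/

set_option autoImplicit false
set_option linter.unusedSectionVars false

namespace Cfsg.Agent.KM.Si

open Cfsg Cfsg.Agent.Blocks Cfsg.Agent.Blocks.Local Cfsg.Agent.Blocks.Basic Cfsg.Agent.Characters Cfsg.Agent.KM.Ht
open scoped ComplexConjugate

namespace St

theorem cauchy {ι : Type} (s : Finset ι) (a b : ι → ℂ) : Complex.normSq (∑ i ∈ s, a i * conj (b i)) ≤
    (∑ i ∈ s, Complex.normSq (a i)) * ∑ i ∈ s, Complex.normSq (b i) := by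
  simp only [Complex.normSq_eq_norm_sq]
  refine le_trans ?_ (Finset.sum_mul_sq_le_sq_mul_sq s (fun i => ‖a i‖) fun i => ‖b i‖)
  refine pow_le_pow_left₀ (norm_nonneg _) ((norm_sum_le _ _).trans (le_of_eq ?_)) 2
  exact Finset.sum_congr rfl fun i _ => by rw [norm_mul, Complex.norm_conj]

theorem div_mem {q : ℕ} {M : Ideal AlgInt} (hM : IsPModular q M) {a b : ℕ} (ha : a ≠ 0) (hb : b ≠ 0)
    (h : b.factorization q < a.factorization q) : MemLocalIdeal M ((a : ℂ) / b) := by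
  have := isPrime_of_isPModular hM
  have h0 : q ^ (a.factorization q - b.factorization q) ≠ 0 := pow_ne_zero _ hM.1.ne_zero
  have h1 := (unit_div hM ha (mul_ne_zero h0 hb) (by
    rw [Nat.factorization_mul h0 hb, Finsupp.add_apply, Nat.factorization_pow_self hM.1]; omega)).1
  have h2 := memLocalIdeal_mul_left h1 ((memLocalIdeal_natCast_iff hM _).2
    (dvd_pow_self q (n := a.factorization q - b.factorization q) (by omega)))
  convert h2 using 1
  have h3 : ((q ^ (a.factorization q - b.factorization q) : ℕ) : ℂ) ≠ 0 := Nat.cast_ne_zero.2 h0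
  have h4 : (b : ℂ) ≠ 0 := Nat.cast_ne_zero.2 hb
  rw [Nat.cast_mul]
  field_simp

variable {K : Type} [Group K] [Fintype K] {r w : ℕ} [hr : Fact r.Prime] {M : Ideal AlgInt} {S L : Subgroup K}
  {ψ : IrrCharacter K}

open scoped Classical in
theorem Hy.orth (h : Hy r w M S L ψ) {a b : IrrCharacter L} (ha : a ∈ Th0 M S L ψ) (hb : b ∈ Th0 M S L ψ) :
    (Nat.card S : ℂ) * ∑ g ∈ Finset.univ.filter fun g : L => ¬ r ∣ orderOf g, (b : L → ℂ) g * conj ((a : L → ℂ) g) =
      if b = a then (Nat.card L : ℂ) else 0 := by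
  have hL : (Nat.card L : ℂ) ≠ 0 := Nat.cast_ne_zero.2 Nat.card_pos.ne'
  rw [Finset.sum_filter, ← Mu.card_sub h.le, ← Mu.sum_reg h.pg' h.central (fun g => (b : L → ℂ) g * conj ((a : L → ℂ) g))
    (fun q hq x => by rw [H686.CharKit.apply_mul_of_eq (irr_isCharacter a.2) (ha.2 q hq),
      H686.CharKit.apply_mul_of_eq (irr_isCharacter b.2) (hb.2 q hq)])
    (fun x y h1 h2 => by rw [F83.van hr.out h.pg' h.central (h.tt' hb.1) x y h1 h2, zero_mul]),
    ← mul_inv_cancel_left₀ hL (∑ _, _), ← classInner_def]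
  split_ifs with e
  · rw [e, Core.classInner_irr_self a.2, mul_one]
  · rw [Core.classInner_irr_ne b.2 a.2 fun e' => e (Subtype.ext e'), mul_zero]

open scoped Classical in
/-- the norm of the sum of the coefficients -/
theorem Hy.norm (h : Hy r w M S L ψ) [Fintype (IrrCharacter L)] {ξ₀ : IrrCharacter L} (h0 : ξ₀ ∈ Th M L ψ)
    (c : S → IrrCharacter L → ℂ) (hc : ∀ s : S, Reg S s → ∀ g : L, ¬ r ∣ orderOf g →
      (ψ : K → ℂ) (s * g) = ∑ ξ with ξ ∈ Th M L ψ, c s ξ * (ξ : L → ℂ) g) :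
    ∑ s ∈ Finset.univ.filter fun s : S => Reg S s, Complex.normSq (∑ ξ with ξ ∈ Th M L ψ, c s ξ) ≤
      (w : ℝ) ^ 2 * Nat.card S := by
  let T : Finset (IrrCharacter L) := Finset.univ.filter (· ∈ Th0 M S L ψ)
  let R : Finset L := Finset.univ.filter fun g : L => ¬ r ∣ orderOf g
  let Φ : L → ℂ := fun g => ∑ a ∈ T, (a : L → ℂ) g
  have hT : ∀ {a}, a ∈ T ↔ a ∈ Th0 M S L ψ := fun {a} => Finset.mem_filter_univ a
  have h1 : ∀ b ∈ Th0 M S L ψ, (Nat.card S : ℂ) * ∑ g ∈ R, (b : L → ℂ) g * conj (Φ g) = Nat.card L := fun b hb => by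
    simp only [Φ, map_sum, Finset.mul_sum]
    rw [Finset.sum_comm, Finset.sum_congr rfl fun a ha => by rw [← Finset.mul_sum, h.orth (hT.1 ha) hb],
      Finset.sum_ite_eq, if_pos (hT.2 hb)]
  have h2 : (Nat.card S : ℝ) * ∑ g ∈ R, Complex.normSq (Φ g) = T.card * Nat.card L := by
    apply Complex.ofReal_injective
    push_cast
    rw [Finset.sum_congr rfl fun g _ => show ((Complex.normSq (Φ g) : ℝ) : ℂ) = ∑ a ∈ T, (a : L → ℂ) g * conj (Φ g) by
      rw [← Complex.mul_conj, Finset.sum_mul], Finset.sum_comm, Finset.mul_sum,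
      Finset.sum_congr rfl fun a ha => h1 a (hT.1 ha), Finset.sum_const, nsmul_eq_mul]
  have h3 : ∀ s : S, Reg S s → (Nat.card S : ℂ) * ∑ g ∈ R, (ψ : K → ℂ) (s * g) * conj (Φ g) =
      Nat.card L * ∑ ξ with ξ ∈ Th M L ψ, c s ξ := fun s hs => by
    rw [Finset.sum_congr rfl fun g hg => by rw [hc s hs g (Finset.mem_filter.1 hg).2, Finset.sum_mul], Finset.sum_comm,
      Finset.mul_sum, Finset.mul_sum]
    refine Finset.sum_congr rfl fun ξ hξ => ?_
    obtain ⟨θ, hθ, e⟩ := h.can (Finset.mem_filter.1 hξ).2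
    rw [Finset.sum_congr rfl fun g hg => by rw [e g (Finset.mem_filter.1 hg).2, mul_assoc], ← Finset.mul_sum,
      mul_left_comm, h1 θ hθ, mul_comm]
  have hL : (0 : ℝ) < Nat.card L := Nat.cast_pos.2 Nat.card_pos
  have hS : (0 : ℝ) < Nat.card S := Nat.cast_pos.2 Nat.card_pos
  have h4 : (T.card : ℝ) ≤ w := by
    rw [Nat.cast_le, ← Set.ncard_coe_finset, show (T : Set (IrrCharacter L)) = Th0 M S L ψ from Set.ext fun _ => hT]
    exact h.card_Th0
  have h5 : ∀ s : S, Reg S s → Nat.card L * Complex.normSq (∑ ξ with ξ ∈ Th M L ψ, c s ξ) ≤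
      Nat.card S * w * ∑ g ∈ R, Complex.normSq ((ψ : K → ℂ) (s * g)) := fun s hs => by
    have e1 := congrArg Complex.normSq (h3 s hs)
    rw [map_mul, map_mul, Complex.normSq_natCast, Complex.normSq_natCast] at e1
    have e2 := cauchy R (fun g => (ψ : K → ℂ) (s * g)) Φ
    have e3 : 0 ≤ ∑ g ∈ R, Complex.normSq ((ψ : K → ℂ) (s * g)) := Finset.sum_nonneg fun _ _ => Complex.normSq_nonneg _
    refine le_of_mul_le_mul_left ?_ hL
    calc _ = _ := by rw [← mul_assoc, ← e1]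
      _ ≤ Nat.card S * Nat.card S * ((∑ g ∈ R, Complex.normSq ((ψ : K → ℂ) (s * g))) * ∑ g ∈ R, Complex.normSq (Φ g)) :=
          mul_le_mul_of_nonneg_left e2 (by positivity)
      _ = Nat.card L * (Nat.card S * T.card * ∑ g ∈ R, Complex.normSq ((ψ : K → ℂ) (s * g))) := by
          linear_combination (Nat.card S * ∑ g ∈ R, Complex.normSq ((ψ : K → ℂ) (s * g))) * h2
      _ ≤ _ := by gcongr
  have h6 := norm_le h.pg (h.mx h0) h.cen ψ.2
  have h7 : (Nat.card (Subgroup.normalizer (S : Set K)) : ℝ) ≤ Nat.card L * w := by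
    rw [← (L.subgroupOf (Subgroup.normalizer (S : Set K))).card_mul_index,
      Mu.card_sub (h.cen ▸ Subgroup.centralizer_le_normalizer _), Nat.cast_mul]
    exact mul_le_mul_of_nonneg_left (Nat.cast_le.2 (h.cen ▸ (h.sw S h.pg).2)) hL.le
  refine le_of_mul_le_mul_left ?_ hL
  rw [Finset.mul_sum]
  refine (Finset.sum_le_sum fun s hs => h5 s (Finset.mem_filter.1 hs).2).trans ?_
  rw [← Finset.mul_sum]
  calc _ ≤ (Nat.card S : ℝ) * w * (Nat.card L * w) := mul_le_mul_of_nonneg_left (h6.trans h7) (by positivity)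
    _ = _ := by ring

end St

open St in
/-- **One prime.** -/
theorem boxStep : BoxStep := by
  intro K _ _ r w n S hr hwr hn hw hS U hU hR ψ hψ s₀ hs₀ hR₀
  classical
  have := Fact.mk hr
  have := Fintype.ofFinite K
  obtain ⟨M, hM⟩ := ExistsModular.exists_isPModular hr
  set L := Subgroup.centralizer (S : Set K) with hL
  have h : Hy r w M S L ψ := ⟨hM, hwr, hw, hS, rfl, hψ⟩
  have := Core.finite_irr (G := L)
  have := Fintype.ofFinite (IrrCharacter L)
  obtain ⟨m, hm⟩ := Core.exists_nat_comb (Core.isCharacter_comp L.subtype (irr_isCharacter ψ.2))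
  have h1 : ∀ ξ : IrrCharacter L, ∃ ω : S →* ℂˣ, ∀ (s : S) (g : L),
      (ξ : L → ℂ) (Subgroup.inclusion h.le s * g) = ω s * (ξ : L → ℂ) g := fun ξ => by
    obtain ⟨c, hc⟩ := H622.Over.exists_hom h.central ξ.2
    refine ⟨c.comp (Subgroup.subgroupOfEquivOfLe h.le).symm.toMonoidHom, fun s g => ?_⟩
    rw [irr_mul_comm ξ.2, mul_comm]
    exact hc g ((Subgroup.subgroupOfEquivOfLe h.le).symm s)
  choose ω hω using h1
  have h2 : ∀ s : S, Reg S s → ∀ g : L, ¬ r ∣ orderOf g →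
      (ψ : K → ℂ) (s * g) = ∑ ξ with ξ ∈ Th M L ψ, ((m ξ : ℂ) * (ω ξ s : ℂ)) * (ξ : L → ℂ) g := fun s hs =>
    expand hM (by rw [Subgroup.orderOf_coe]; exact IsPGroup.iff_orderOf.1 hS s) (h.cen_eq s.2 hs) _ fun g => by
      have e := congrFun hm (Subgroup.inclusion h.le s * g)
      rw [Finset.sum_apply] at e
      refine e.trans (Finset.sum_congr rfl fun ξ _ => ?_)
      rw [Pi.smul_apply, hω, nsmul_eq_mul, mul_assoc]
  refine ⟨fun ξ => if ξ ∈ Th M L ψ then (m ξ : ℂ) * (ω ξ ⟨s₀, hs₀⟩ : ℂ) else 0, fun ξ₀ h0 => ?_, fun g hg => ?_⟩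
  swap
  · rw [finsum_eq_sum_of_fintype, h2 ⟨s₀, hs₀⟩ hR₀ g hg, Finset.sum_filter]
    exact Finset.sum_congr rfl fun ξ _ => by rw [ite_mul, zero_mul]
  have h3 : ξ₀ ∈ Th M L ψ := by_contra fun e => h0 (if_neg e)
  refine ⟨Mu.card_sub h.le ▸ h.tt' h3, fun q a hq hqr hqw hqa => by_contra fun hne => ?_⟩
  obtain ⟨M', hM'⟩ := ExistsModular.exists_isPModular hq
  have := isPrime_of_isPModular hM'
  let X : S → ℂ := fun s => ∑ ξ with ξ ∈ Th M L ψ, (m ξ : ℂ) * (ω ξ s : ℂ)
  have h4 : ∀ s : S, Reg S s → (ψ : K → ℂ) s = X s * (ξ₀ : L → ℂ) 1 := fun s hs => by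
    have e := h2 s hs 1 (by rw [orderOf_one]; exact hr.not_dvd_one)
    rw [Subgroup.coe_one, mul_one] at e
    rw [e, Finset.sum_mul]
    exact Finset.sum_congr rfl fun ξ hξ => by rw [h.deg h3 (Finset.mem_filter.1 hξ).2]
  have hX : IsCharacter S X := by
    have e := Core.isCharacter_sum (Finset.univ.filter (· ∈ Th M L ψ)) fun ξ _ =>
      Core.isCharacter_nsmul (m ξ) (Linear.isCharacter_hom (ω ξ))
    convert e using 1
    funext s
    simp [X]
  let _ : CommGroup S := { (inferInstance : Group S) with mul_comm := (hw S hS).1.is_comm.comm }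
  obtain ⟨s, hs, h5⟩ := exists_zero (A := S) hr hS hn (fun i => (U i).subgroupOf S)
    (fun i e => hU i (Subgroup.subgroupOf_eq_top.1 e)) hM' hqr hqw (fun s => Reg S s) (fun s hs => hR s s.2 hs) (X := X)
    hX
    (fun s hs => by
      have e1 := (charDegree_pos ψ.2).ne'
      have e2 := (charDegree_pos ξ₀.2).ne'
      have e3 : L.index ≠ 0 := Subgroup.index_ne_zero_of_finite
      have e4 := memLocalIdeal_mul_left (Osima.memLocalRing_centralChar hM' ψ.2 s) (div_mem hM' e1 (mul_ne_zero e3 e2) (by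
        have e5 := congrArg (fun n : ℕ => n.factorization q) L.card_mul_index
        simp only [Nat.factorization_mul Nat.card_pos.ne' e3, Finsupp.add_apply] at e5
        rw [Nat.factorization_mul e3 e2, Finsupp.add_apply]
        rw [Tt] at hqa hne
        omega))
      convert e4 using 1
      have e6 : (L.index : ℂ) ≠ 0 := Nat.cast_ne_zero.2 e3
      have e7 := irr_one_ne_zero ψ.2
      have e8 := irr_one_ne_zero ξ₀.2
      rw [centralChar_def, h.cen_eq s.2 hs, h4 s hs, Nat.cast_mul, ← irr_one_eq_charDegree ψ.2,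
        ← irr_one_eq_charDegree ξ₀.2]
      field_simp)
    (h.norm h3 (fun s ξ => (m ξ : ℂ) * (ω ξ s : ℂ)) h2)
  exact h.ne_zero h3 s.2 hs (by rw [h4 s hs, h5, zero_mul])

end Cfsg.Agent.KM.Si
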