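import Cfsg.Agent.KM.Si.Defs
import Cfsg.Agent.LV.One.Gal

/-!
# S4576, the strict inequality: the tori which carry a nonzero value at a semisimple element (helper87)
-/

set_option autoImplicit false
set_option linter.unusedSectionVars false

namespace Cfsg.Agent.KM.Si

open Cfsg Cfsg.Agent.DL Cfsg.Agent.DL.PP Cfsg.Agent.DL.Uni Cfsg.Agent.DL.Asm Cfsg.Agent.Nodes.Reps
  Cfsg.Agent.Characters.Core Cfsg.Agent.KZ.Lie Cfsg.Agent.Blocks.PPart

namespace Vb

/-- a sum of `n` exponentials which vanishes at `1, …, n` vanishes at `0` -/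
theorem exp_sum {ι : Type} (z : ι → ℂ) (s : Finset ι) (hz : ∀ a ∈ s, z a ≠ 0) (c : ι → ℂ)
    (h : ∀ i, 0 < i → i ≤ s.card → ∑ a ∈ s, c a * z a ^ i = 0) : ∑ a ∈ s, c a = 0 := by
  classical
  induction s using Finset.induction_on generalizing c with
  | empty => exact Finset.sum_empty
  | insert b s hb ih =>
    rw [Finset.card_insert_of_notMem hb] at h
    have key : ∀ i, ∑ a ∈ s, c a * (z a - z b) * z a ^ i =
        ∑ a ∈ insert b s, c a * z a ^ (i + 1) - z b * ∑ a ∈ insert b s, c a * z a ^ i := fun i => by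
      rw [Finset.mul_sum, ← Finset.sum_sub_distrib, Finset.sum_insert hb, show c b * z b ^ (i + 1) - z b * (c b * z b ^ i) = 0 by ring,
        zero_add]
      exact Finset.sum_congr rfl fun a _ => by ring
    have h1 := ih (fun a ha => hz a (Finset.mem_insert_of_mem ha)) (fun a => c a * (z a - z b)) fun i h0 hi => by
      rw [key, h _ (by omega) (by omega), h _ h0 (by omega), mul_zero, sub_zero]
    have h2 := key 0
    simp only [pow_zero, mul_one] at h2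
    rw [h1, h 1 (by omega) (by omega), zero_sub, eq_comm, neg_eq_zero] at h2
    exact (mul_eq_zero.1 h2).resolve_left (hz b (Finset.mem_insert_self _ _))

section abs

variable {Γ : Type} [Group Γ] {p : ℕ} [Fact p.Prime] {H : Subgroup Γ} {A : Set (Subgroup Γ)}
  {R : Subgroup Γ → (Γ → ℂ) →ₗ[ℂ] (Γ → ℂ)}

theorem exists_torus (S : Sys p H A R) {St χ : Γ → ℂ} (D : StD p H A R St) (hχ : IsCls H χ) {x : Γ} (hx : x ∈ H)
    (hs : IsSs p x) (h0 : χ x ≠ 0) : ∃ T ∈ A, x ∈ T ∧ rst H R T χ x ≠ 0 := by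
  by_contra hc
  push Not at hc
  refine h0 ?_
  rw [D.apply_ss S hχ hx hs, pr, S.usum_apply]
  refine Finset.sum_eq_zero fun T hT => ?_
  have hT := S.mem_tori.1 hT
  rw [S.R_eq_zero hT _ hx fun h hh h1 => ?_, mul_zero]
  rw [jsp_of_ss hs] at h1 ⊢
  have h2 := S.rst_conj hT (H.inv_mem hh) χ (h * x * h⁻¹)
  rw [show h⁻¹ * (h * x * h⁻¹) * h⁻¹⁻¹ = x by group] at h2
  rw [← h2]
  refine hc _ (S.conjA _ (H.inv_mem hh) T hT) ?_
  exact ⟨_, h1, by simp [mul_assoc]⟩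

theorem mem_of (S : Sys p H A R) {T : Subgroup Γ} (hT : T ∈ A) (χ : Γ → ℂ) {x : H} (hx : (x : Γ) ∈ T)
    (h0 : rst H R T χ x ≠ 0) {r : ℕ} (hr : r.Prime) (hrp : r ≠ p)
    (hc : ∀ s : Finset (↥(T ⊓ H) →* ℂˣ), (∀ a ∈ s, ip H χ (R T (lin a)) ≠ 0) → s.card < r) {Z : Subgroup H}
    (hZ : Z ≤ Subgroup.center H) (hθ : ∀ g z : H, IsPPart r g z → z ∉ Z → χ g = 0) {u : H} (hu : (u : Γ) ∈ T)
    (hur : ∃ n, u ^ r ^ n = 1) : u ∈ Z := by
  classical
  have := S.finH
  have := S.finT T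
  have := finite_hom (T ⊓ H)
  have := Fintype.ofFinite (↥(T ⊓ H) →* ℂˣ)
  have := Fact.mk hr
  obtain ⟨n, hn⟩ := exists_pow_eq (G := H) r
  obtain ⟨j, hj⟩ : ∃ j, orderOf u = r ^ j := by
    obtain ⟨m, hm⟩ := hur
    obtain ⟨j, -, hj⟩ := (Nat.dvd_prime_pow hr).1 (orderOf_dvd_of_pow_eq_one hm)
    exact ⟨j, hj⟩
  let φ : Γ → ℂ := fun g => if g ^ n ∈ Z.map H.subtype then 1 else 0
  have mem : ∀ g : H, (g : Γ) ^ n ∈ Z.map H.subtype ↔ g ^ n ∈ Z := fun g =>
    Subgroup.mem_map_iff_mem (x := g ^ n) H.subtype_injective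
  have hφ : PConst p H φ := by
    refine ⟨fun g hg h hh => if_congr ?_ rfl rfl, fun s hs v hv _ ⟨i, hi⟩ e => if_congr ?_ rfl rfl⟩
    · refine (mem (⟨h, hh⟩ * ⟨g, hg⟩ * ⟨h, hh⟩⁻¹)).trans (Iff.trans ?_ (mem ⟨g, hg⟩).symm)
      rw [conj_pow]
      refine ⟨fun k => ?_, fun k => by rwa [Subgroup.mem_center_iff.1 (hZ k), mul_inv_cancel_right]⟩
      have h1 := Subgroup.mem_center_iff.1 (hZ k) ⟨h, hh⟩
      rw [inv_mul_cancel_right, mul_right_inj] at h1
      rwa [← h1]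
    · have h1 : (⟨v, hv⟩ : H) ^ n = 1 := hn _ _ (isPPart_of_not_dvd fun k => hrp (by
        rw [Subgroup.orderOf_mk, hi] at k
        exact (Nat.prime_dvd_prime_iff_eq hr Fact.out).1 (hr.dvd_of_dvd_pow k)))
      rw [Commute.mul_pow e, show v ^ n = 1 from congrArg Subtype.val h1, mul_one]
  have h1 : ∀ g : H, rst H R T χ g ≠ 0 → g ^ n ∈ Z := fun g hg => by
    by_contra k
    refine hg ?_
    rw [← rst_congr (f := φ * χ) fun h hh => ?_, S.rst_mul hT hφ, show φ g = 0 from if_neg fun l => k ((mem g).1 l), zero_mul]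
    by_cases l : h ^ n ∈ Z.map H.subtype
    · rw [Pi.mul_apply, show φ h = 1 from if_pos l, one_mul]
    · obtain ⟨z, hz⟩ := exists_isPPart r (⟨h, hh⟩ : H)
      rw [Pi.mul_apply, hθ ⟨h, hh⟩ z hz fun m => l ((mem ⟨h, hh⟩).2 (hn _ _ hz ▸ m)), mul_zero]
  by_contra hZu
  have hx' : (x : Γ) ∈ T ⊓ H := ⟨hx, x.2⟩
  have hu' : (u : Γ) ∈ T ⊓ H := ⟨hu, u.2⟩
  set s := Finset.univ.filter fun a : ↥(T ⊓ H) →* ℂˣ => ip H χ (R T (lin a)) ≠ 0 with hs
  have ex : ∀ i : ℕ, rst H R T χ (x * u ^ i) = ∑ a ∈ s, ip H χ (R T (lin a)) * lin a x * lin a u ^ i := fun i => by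
    rw [fourier (S.comm T hT) (rst H R T χ) _ (mul_mem hx' (pow_mem hu' i)), Finset.sum_apply, hs, Finset.sum_filter_of_ne]
    · refine Finset.sum_congr rfl fun a _ => ?_
      rw [Pi.smul_apply, smul_eq_mul, ← S.ip_rst hT, lin_apply a (mul_mem hx' (pow_mem hu' i)), lin_apply a hx', lin_apply a hu',
        mul_assoc, ← Units.val_pow_eq_pow_val, ← map_pow, ← Units.val_mul, ← map_mul]
      rfl
    · exact fun a _ k l => k (by rw [l, zero_mul, zero_mul])
  have h2 := exp_sum (fun a : ↥(T ⊓ H) →* ℂˣ => lin a u) s (fun a _ => (isLin_lin a).ne_zero hu')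
    (fun a => ip H χ (R T (lin a)) * lin a x) fun i h3 h4 => by
      rw [← ex]
      by_contra k
      have h5 := h1 (x * u ^ i) k
      have h6 : Commute x (u ^ i) := Commute.pow_right (Subtype.ext (S.comm T hT _ hx' _ hu')) i
      rw [h6.mul_pow, Z.mul_mem_cancel_left (h1 x h0), pow_right_comm, hn u u (isPPart_of_isPGroup ⟨j, hj⟩)] at h5
      have h7 : i < r := h4.trans_lt (hc s fun a ha => (Finset.mem_filter.1 ha).2)
      refine hZu (Subgroup.zpowers_le.2 h5 (mem_zpowers_pow_iff.2 ?_))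
      rw [hj]
      exact ((Nat.coprime_of_lt_prime h3.ne' h7 hr).symm).pow_right j
  have h3 := ex 0
  simp only [pow_zero, mul_one] at h3
  exact h0 (h3.trans h2)

end abs

end Vb

theorem boxV : BoxV := by
  intro p _ k _ _ Y _ N _ _ ρ F G _ X _ θ x hx h0
  classical
  have := Fintype.ofFinite ↥(GF F G)
  obtain ⟨f⟩ := nonempty_fr X
  obtain ⟨St, D⟩ := St.stD X
  have e : res (GF F G) (extendByZero (GF F G) θ) = θ := funext fun g => extendByZero_of_mem _ _ g.2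
  obtain ⟨T, hT, h1, h2⟩ := Vb.exists_torus (sys' X) D (χ := extendByZero (GF F G) θ) (isCls_of_irr (e.symm ▸ θ.2)) x.2
    (by rwa [IsSs, Subgroup.orderOf_coe]) (by rwa [extendByZero_of_mem _ _ x.2])
  obtain ⟨y, hy, w, hw, rfl⟩ := exists_y hT
  refine ⟨y, hy, ⟨w, hw⟩, h1, fun r hr hrp hW S hS hθ u hu hur => Vb.mem_of (sys' X) hT _ h1 h2 hr hrp (fun s hs => ?_) hS
    (fun g z a b => (extendByZero_of_mem _ _ g.2).trans (hθ g z a b)) hu hur⟩
  have := Fintype.ofFinite X.W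
  have := (sys' X).finT (cj y X.T)
  have := finite_hom (cj y X.T ⊓ GF F G)
  have := Fintype.ofFinite (↥(cj y X.T ⊓ GF F G) →* ℂˣ)
  have h3 := bessel f (θ : GF F G → ℂ)
  have h4 : (0 : ℝ) < Nat.card X.W := Nat.cast_pos.2 Nat.card_pos
  rw [classInner_irr_self θ.2, Complex.one_re, inv_mul_le_iff₀ h4, mul_one, finsum_eq_sum_of_fintype] at h3
  have h5 := (Finset.single_le_sum (f := fun w => ∑ᶠ c : Lbl X, ‖classInner (θ : GF F G → ℂ) (RW f w c)‖ ^ 2)
    (fun _ _ => finsum_nonneg fun _ => by positivity) (Finset.mem_univ w)).trans h3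
  rw [← sum_lab f hy hw (fun ψ => ‖classInner (θ : GF F G → ℂ) ψ‖ ^ 2) (by simp [classInner])] at h5
  have h6 := (Finset.card_nsmul_le_sum s _ (1 : ℝ) fun a ha => by
    have h7 := hs a ha
    have h8 := ip_gen_int (f := extendByZero (GF F G) θ) (e.symm ▸ gen_of_irr θ.2) ((sys' X).gen _ hT _ (isLin_lin a))
    rw [ip_eq_classInner, e] at h7 h8
    exact LV.One.one_le_normSq h8 h7).trans
    ((Finset.sum_le_sum_of_subset_of_nonneg (Finset.subset_univ s) fun _ _ _ => by positivity).trans h5)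
  rw [nsmul_eq_mul, mul_one, Nat.cast_le] at h6
  exact (h6.trans (Nat.le_self_pow two_ne_zero _)).trans_lt hW

end Cfsg.Agent.KM.Si
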