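import Cfsg.Agent.KM.Ht.Defs

/-!
# S4576, the strict inequality in cross characteristic: statements (helper98)

* pure group theory: `BoxStep`, `BoxReg`, `BoxF`, `BoxCore`, `BoxE1`;
* arithmetic: `BoxA`;
* reductive groups: `BoxQ`, `BoxDer`, `BoxV`, `BoxE`; the target is `SI`.
-/

set_option autoImplicit false
set_option linter.unusedSectionVars false

namespace Cfsg.Agent.KM.Si

open Cfsg Cfsg.Agent.DL Cfsg.Agent.KM.Ht Cfsg.Agent.Nodes.Reps Polynomial Matrix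

/-! ### finite groups -/

/-- the defect of `ψ` at `r` is at most `a` -/
def Tt (r a : ℕ) {K : Type} [Group K] (ψ : IrrCharacter K) : Prop :=
  (Nat.card K).factorization r ≤ (charDegree (ψ : K → ℂ)).factorization r + a

/-- the order is prime to all members of `π` -/
def Rg (π : Finset ℕ) {K : Type} [Group K] (g : K) : Prop := ∀ r ∈ π, ¬ r ∣ orderOf g

/-- the `r`-subgroups are abelian with automizers of order at most `w` -/
def Sw (w r : ℕ) (K : Type) [Group K] : Prop :=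
  ∀ R : Subgroup K, IsPGroup r R →
    IsMulCommutative R ∧ (Subgroup.centralizer (R : Set K)).relIndex (Subgroup.normalizer (R : Set K)) ≤ w

/-- one prime: the second main theorem keeps the defects small -/
def BoxStep : Prop :=
  ∀ (K : Type) [Group K] [Finite K] (r w n : ℕ) (S : Subgroup K), r.Prime → w < r → n < r → Sw w r K → IsPGroup r S →
    ∀ U : Fin n → Subgroup K, (∀ i, ¬ S ≤ U i) →
    (∀ s ∈ S, (∀ i, s ∉ U i) → Subgroup.centralizer ({s} : Set K) ≤ Subgroup.centralizer (S : Set K)) →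
    ∀ ψ : IrrCharacter K, Tt r ((Nat.card S).factorization r) ψ →
    ∀ s ∈ S, Subgroup.centralizer ({s} : Set K) ≤ Subgroup.centralizer (S : Set K) →
    ∃ c : IrrCharacter ↥(Subgroup.centralizer (S : Set K)) → ℂ,
      (∀ ξ, c ξ ≠ 0 → Tt r ((Nat.card S).factorization r) ξ ∧
        ∀ q a : ℕ, q.Prime → q ≠ r → 2 ^ n * w < q → Tt q a ψ → Tt q a ξ) ∧
      ∀ g : Subgroup.centralizer (S : Set K), ¬ r ∣ orderOf g →
        (ψ : K → ℂ) (s * g) = ∑ᶠ ξ, c ξ * (ξ : Subgroup.centralizer (S : Set K) → ℂ) g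

/-- the `r`-part of an element whose coset does not meet the zeros -/
def BoxReg : Prop :=
  ∀ (K : Type) [Group K] [Finite K] (r w : ℕ) (S : Subgroup K), r.Prime → w < r → Sw w r K → IsPGroup r S →
    ∀ ψ : IrrCharacter K, Tt r ((Nat.card S).factorization r) ψ → ∀ y : K, (∀ s ∈ S, y * s = s * y) →
    (∀ s ∈ S, (ψ : K → ℂ) (y * s) ≠ 0) → ∀ x, IsPPart r y x → x ∈ S

/-- the final congruence -/
def BoxF : Prop :=
  ∀ (K L : Type) [Group K] [Group L] [Finite K] [Finite L] (j : L →* K), Function.Injective j →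
    ∀ (l : ℕ) (M : Ideal AlgInt), IsPModular l M → ∀ (π : Finset ℕ) (S : ℕ → Subgroup L), l ∈ π →
    (∀ r ∈ π, r.Prime ∧ IsPGroup r (S r) ∧ S r ≤ Subgroup.center L) →
    ∀ (ψ : IrrCharacter K) (s : K), (∀ g, s * j g = j g * s) →
    (∀ g, Rg π g → ∀ x, x * (s * j g) = s * j g * x → x ∈ j.range) →
    (∀ x, ¬ MemLocalIdeal M (centralChar (ψ : K → ℂ) x) →
      (Nat.card (S l)).factorization l < (Nat.card (Subgroup.centralizer ({x} : Set K))).factorization l) →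
    ∀ c : IrrCharacter L → ℂ, (∀ θ, c θ ≠ 0 → ∀ r ∈ π, Tt r ((Nat.card (S r)).factorization r) θ) →
    (∀ g, Rg π g → (ψ : K → ℂ) (s * j g) = ∑ᶠ θ, c θ * (θ : L → ℂ) g) →
    ∀ y, Rg π y → MemLocalIdeal M (centralChar (ψ : K → ℂ) (s * j y))

/-- `Ht.core_aut` with units -/
def BoxCore : Prop :=
  ∀ (H K : Type) [Group H] [Group K] [Fintype H] [Fintype K] (l m : ℕ) (M : Ideal AlgInt), IsPModular l M → m.Prime →
    ¬ l ∣ m → ∀ α : MulAut K, α ^ m = 1 → ∀ j : H →* K, Function.Injective j → (∀ x, x ∈ j.range ↔ α x = x) →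
    ¬ m ∣ Nat.card H → ∀ χ' : IrrCharacter K, (∀ g, (χ' : K → ℂ) (α g) = (χ' : K → ℂ) g) →
    ∀ (χ : IrrCharacter H) (n : ℕ), ¬ m ∣ n → classInner (fun c : H => (χ' : K → ℂ) (j c)) (χ : H → ℂ) = n →
    (Nat.card K).factorization l + (charDegree (χ : H → ℂ)).factorization l =
      (Nat.card H).factorization l + (charDegree (χ' : K → ℂ)).factorization l →
    ∀ B : Set (IrrCharacter H), IsPBlock M B → χ ∈ B → ∀ D : Subgroup H, IsDefectGroup l M B D →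
    ∀ S : Subgroup K, (Nat.card S).Coprime (Nat.card H) → (∀ s ∈ S, α s ∈ S) →
    (∀ g ∈ Subgroup.normalizer (D.map j : Set K), ∀ s ∈ S, g * s * g⁻¹ ∈ S) →
    S ≤ Subgroup.centralizer (D.map j : Set K) →
    (∀ y, y ∈ Subgroup.centralizer (D.map j : Set K) → ¬ l ∣ orderOf y → ∀ s ∈ S, y * s = s * y) →
    (∀ x, ¬ MemLocalIdeal M (centralChar (χ' : K → ℂ) x) →
      (Nat.card D).factorization l ≤ (Nat.card (Subgroup.centralizer ({x} : Set K))).factorization l) ∧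
    ∃ y, ¬ l ∣ orderOf y ∧ (∀ s ∈ S, y * s = s * y) ∧ ∀ s ∈ S, ¬ MemLocalIdeal M (centralChar (χ' : K → ℂ) (y * s))

/-- a character which vanishes on the `l`-elements outside a central subgroup -/
def BoxE1 : Prop :=
  ∀ (H : Type) [Group H] [Finite H] (l : ℕ) (A : Subgroup H), l.Prime → IsPGroup l A → A ≤ Subgroup.center H →
    A ⊓ commutator H = ⊥ → ∀ θ : IrrCharacter H, (∀ x : H, (∃ n, x ^ l ^ n = 1) → x ∉ A → (θ : H → ℂ) x = 0) →
    Tt l ((Nat.card A).factorization l) θ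

/-! ### arithmetic -/

/-- `P` divides a power of `q x ^ d - 1` -/
def Dv (q d : ℕ) (P : ℤ[X]) : Prop := ∃ n, P ∣ (C (q : ℤ) * X ^ d - 1) ^ n

/-- the valuations at `π` control the valuation at `l` -/
def Ar (q d l : ℕ) (t : ℤ) (π : ℕ → Prop) : Prop :=
  ∀ P₁ P₂ : ℤ[X], Dv q d P₁ → Dv q d P₂ →
    (∀ r, π r → (P₁.eval t).natAbs.factorization r ≤ (P₂.eval t).natAbs.factorization r) →
    (P₁.eval t).natAbs.factorization l ≤ (P₂.eval t).natAbs.factorization l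

/-- large primes off `h` see every factor which `l` sees -/
def BoxA : Prop :=
  ∀ (p l d e b : ℕ) (h : ℤ[X]), p.Prime → l.Prime → l ≠ p → 0 < d → 0 < e → ¬ (l : ℤ) ∣ h.eval 1 →
    ∃ N₁ j₀ : ℕ, N₁ ≠ 0 ∧ N₁.Coprime p ∧ ∀ j, j₀ ≤ j → (N₁ : ℤ) ∣ (p : ℤ) ^ (e * j) - 1 →
      Ar (p ^ e) d l ((p : ℤ) ^ (e * j)) fun r => r.Prime ∧ b < r ∧ r ≠ p ∧ ¬ (r : ℤ) ∣ h.eval ((p : ℤ) ^ (e * j))

/-! ### reductive groups -/

section Lie

variable {p : ℕ} [Fact p.Prime] {k : Type} [Field k] [CharP k p] {Y : Type} [Group Y] {N : Type} [Fintype N]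
  [DecidableEq N] {ρ : Y →* GL N k} {F : MulAut Y} {G : Subgroup Y} [IsAlgClosed k]

/-- the subtorus of a set of cocharacters -/
def ZL (X : Datum p ρ F G) (Λ : Set (X.R → ℤ)) : Subgroup Y :=
  Subgroup.closure {z | ∃ v ∈ Λ, ∃ a : kˣ, z = X.τ (coch v a)}

/-- the matrices of `w F` are `t` times roots of `q` -/
def Lq (X : Datum p ρ F G) (q d : ℕ) (t : ℤ) : Prop :=
  ∀ w : X.W, ∃ A : Matrix X.R X.R ℤ, X.Wm w * X.Mx = t • A ∧ A ^ d = (q : ℤ) • (1 : Matrix X.R X.R ℤ)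

end Lie

/-- the order polynomial of a stable subtorus -/
def BoxQ : Prop :=
  ∀ {p : ℕ} [Fact p.Prime] {k : Type} [Field k] [CharP k p] {Y : Type} [Group Y] {N : Type} [Fintype N]
    [DecidableEq N] {ρ : Y →* GL N k} {F : MulAut Y} {G : Subgroup Y} [IsAlgClosed k] (X : Datum p ρ F G)
    (q d : ℕ) (t : ℤ) (A : Matrix X.R X.R ℤ), t ≠ 0 → X.Mx = t • A → A ^ d = (q : ℤ) • (1 : Matrix X.R X.R ℤ) →
    ∀ Λ : Submodule ℤ (X.R → ℤ), (∀ n : ℤ, n ≠ 0 → ∀ v, n • v ∈ Λ → v ∈ Λ) → (∀ v ∈ Λ, X.Mx *ᵥ v ∈ Λ) →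
    ∃ P : ℤ[X], Dv q d P ∧ (P.eval t).natAbs = Nat.card ↥(GF F (ZL X Λ))

/-- the torus of the derived subgroup is generated by the coroots -/
def BoxDer : Prop :=
  ∀ {p : ℕ} [Fact p.Prime] {k : Type} [Field k] [CharP k p] {Y : Type} [Group Y] {N : Type} [Fintype N]
    [DecidableEq N] {ρ : Y →* GL N k} {F : MulAut Y} {G : Subgroup Y} [IsAlgClosed k] (X : Datum p ρ F G),
    ∀ z ∈ X.T, z ∈ ⁅G, G⁆ → z ∈ ZL X (Set.range X.cw)

/-- the tori which carry a nonzero value at a semisimple element -/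
def BoxV : Prop :=
  ∀ {p : ℕ} [Fact p.Prime] {k : Type} [Field k] [CharP k p] {Y : Type} [Group Y] {N : Type} [Fintype N]
    [DecidableEq N] {ρ : Y →* GL N k} {F : MulAut Y} {G : Subgroup Y} [IsAlgClosed k] (X : Datum p ρ F G)
    [Finite ↥(GF F G)] (θ : IrrCharacter ↥(GF F G)) (x : GF F G), ¬ p ∣ orderOf x → (θ : GF F G → ℂ) x ≠ 0 →
    ∃ y ∈ G, y⁻¹ * F y ∈ X.NN ∧ (x : Y) ∈ cj y X.T ∧ ∀ r : ℕ, r.Prime → r ≠ p → Nat.card X.W ^ 2 < r →
      ∀ S : Subgroup ↥(GF F G), S ≤ Subgroup.center _ → (∀ g z, IsPPart r g z → z ∉ S → (θ : GF F G → ℂ) g = 0) →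
      ∀ u : GF F G, (u : Y) ∈ cj y X.T → (∃ n, u ^ r ^ n = 1) → u ∈ S

/-- a character of central defect at the primes in `π` is of central defect at `l` -/
def BoxE : Prop :=
  ∀ {p : ℕ} [Fact p.Prime] {k : Type} [Field k] [CharP k p] {Y : Type} [Group Y] {N : Type} [Fintype N]
    [DecidableEq N] {ρ : Y →* GL N k} {F : MulAut Y} {G : Subgroup Y} [IsAlgClosed k] (X : Datum p ρ F G)
    [Finite ↥(GF F G)] (q d l : ℕ) (t : ℤ) (π : ℕ → Prop), l.Prime → l ≠ p → t ≠ 0 → Lq X q d t → Ar q d l t π →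
    (∀ r, π r → r.Prime ∧ r ≠ p ∧ Nat.card X.W ^ 2 < r) → ∀ θ : IrrCharacter ↥(GF F G),
    (∀ r, π r → Tt r ((Nat.card ↥(GF F (Z0 X ∅))).factorization r) θ) →
    Tt l ((Nat.card ↥(GF F (Z0 X ∅))).factorization l) θ

/-- **The strict inequality.** -/
def SI : Prop :=
  ∀ {p : ℕ} [Fact p.Prime] {k : Type} [Field k] [CharP k p] {Y : Type} [Group Y] {N : Type} [Fintype N]
    [DecidableEq N] {ρ : Y →* GL N k} {F : MulAut Y} {G : Subgroup Y} [IsAlgClosed k] {X : Datum p ρ F G}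
    [Finite ↥(GF F G)], X.QS → ∀ (l : ℕ) (M : Ideal AlgInt), IsPModular l M → l ≠ p →
    ∀ (B : Set (IrrCharacter ↥(GF F G))) (D : Subgroup ↥(GF F G)), IsPBlock M B → IsDefectGroup l M B D →
    ∀ (y : Y) (hy : y ∈ G) (hN : y⁻¹ * F y ∈ X.NN) (A : Subgroup Y), Ctl (X.conj hy hN) (D.map (GF F G).subtype) A →
    (Nat.card ↥(GF F (Z0 (X.conj hy hN) A))).factorization l < (Nat.card D).factorization l → ∀ χ ∈ B,
      (charDegree (χ : GF F G → ℂ)).factorization l + (Nat.card ↥(GF F (Z0 (X.conj hy hN) A))).factorization l <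
        (Nat.card ↥(GF F G)).factorization l

end Cfsg.Agent.KM.Si
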