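import Cfsg.Agent.KM.Si.Defs
import Cfsg.Agent.KM.Ht.Main
import Mathlib.RingTheory.Polynomial.Resultant.Basic
import Mathlib.RingTheory.Polynomial.GaussLemma
import Mathlib.Analysis.Polynomial.Basic

/-!
# S4576, the arithmetic box : `boxA : BoxA` (helper60)
-/

set_option autoImplicit false
set_option linter.unusedSectionVars false

namespace Cfsg.Agent.KM.Si

open Polynomial Filter

namespace Ax

/-- the polynomial -/
noncomputable def qq (q d : ℕ) : ℤ[X] := C (q : ℤ) * X ^ d - 1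

variable {q d : ℕ} {φ : ℤ[X]}

theorem coeff_qq (hd : 0 < d) : (qq q d).coeff 0 = -1 := by
  simp [qq, coeff_X_pow, hd.ne]

theorem qq_ne (hd : 0 < d) : qq q d ≠ 0 := fun e => by
  have := coeff_qq (q := q) hd
  rw [e] at this
  simp at this

theorem prim (hd : 0 < d) (h : φ ∣ qq q d) : φ.IsPrimitive := by
  refine isPrimitive_of_dvd (isPrimitive_iff_isUnit_of_C_dvd.2 fun r hr => ?_) h
  have := (C_dvd_iff_dvd_coeff _ _).1 hr 0
  rw [coeff_qq hd] at this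
  exact isUnit_of_dvd_unit this isUnit_one.neg

theorem deg_pos (hd : 0 < d) (hφ : Irreducible φ) (h : φ ∣ qq q d) : 0 < φ.natDegree := by
  refine Nat.pos_of_ne_zero fun e => hφ.not_isUnit ?_
  rw [eq_C_of_natDegree_eq_zero e]
  exact isUnit_C.2 (prim hd h _ (eq_C_of_natDegree_eq_zero e).symm.dvd)

theorem eval_qq (t : ℤ) : (qq q d).eval t = q * t ^ d - 1 := by simp [qq]

theorem eval_ne {t : ℤ} (hq : 2 ≤ q) (h : φ ∣ qq q d) : φ.eval t ≠ 0 := fun e => by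
  have h1 := eval_dvd (x := t) h
  rw [e, zero_dvd_iff, eval_qq, sub_eq_zero] at h1
  have h2 : (q : ℤ) ∣ 1 := ⟨_, h1.symm⟩
  have := Int.le_of_dvd one_pos h2
  omega

/-- a constant in the ideal of two coprime polynomials -/
theorem exists_res (hd : 0 < d) (hφ : Irreducible φ) (h : φ ∣ qq q d) {g : ℤ[X]} (hg : ¬ φ ∣ g) :
    ∃ R : ℤ, R ≠ 0 ∧ ∀ r t : ℤ, r ∣ φ.eval t → r ∣ g.eval t → r ∣ R := by
  have h1 := prim hd h
  have h2 : IsCoprime (φ.map (Int.castRingHom ℚ)) (g.map (Int.castRingHom ℚ)) :=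
    ((IsPrimitive.Int.irreducible_iff_irreducible_map_cast h1).1 hφ).coprime_iff_not_dvd.2
      fun e => hg ((IsPrimitive.Int.dvd_iff_map_cast_dvd_map_cast φ g h1).2 e)
  have h3 := resultant_ne_zero _ _ h2
  rw [natDegree_map_eq_of_injective (Int.castRingHom ℚ).injective_int,
    natDegree_map_eq_of_injective (Int.castRingHom ℚ).injective_int, resultant_map_map] at h3
  obtain ⟨a, b, -, -, e⟩ := exists_mul_add_mul_eq_C_resultant φ g le_rfl le_rfl (Or.inl (deg_pos hd hφ h).ne')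
  refine ⟨φ.resultant g, fun e0 => h3 (by rw [e0, map_zero]), fun r t h4 h5 => ?_⟩
  have h6 := congrArg (eval t) e
  rw [eval_C, eval_add, eval_mul, eval_mul] at h6
  exact h6 ▸ dvd_add (h4.mul_right _) (h5.mul_right _)

theorem big {p e : ℕ} (hp : 1 < p) (he : 0 < e) (h : 0 < φ.natDegree) (B : ℕ) :
    ∃ j₀, ∀ j, j₀ ≤ j → B < (φ.eval ((p : ℤ) ^ (e * j))).natAbs := by
  have h1 := abs_tendsto_atTop (φ.map (Int.castRingHom ℚ)) (by
    rw [degree_map_eq_of_injective (Int.castRingHom ℚ).injective_int]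
    exact natDegree_pos_iff_degree_pos.1 h)
  have h2 : Tendsto (fun j : ℕ => ((p : ℚ) ^ e) ^ j) atTop atTop :=
    tendsto_pow_atTop_atTop_of_one_lt (one_lt_pow₀ (by exact_mod_cast hp) he.ne')
  obtain ⟨j₀, h3⟩ := eventually_atTop.1 ((h1.comp h2).eventually_gt_atTop (B : ℚ))
  refine ⟨j₀, fun j hj => ?_⟩
  have h4 := h3 j hj
  have h5 : ((p : ℚ) ^ e) ^ j = Int.castRingHom ℚ ((p : ℤ) ^ (e * j)) := by simp [pow_mul]
  rw [Function.comp_apply, h5, eval_map_apply, eq_intCast, ← Int.cast_abs, ← Int.natCast_natAbs] at h4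
  exact_mod_cast h4

/-- the property of the pair `(N, j₀)` for one factor -/
def Gd (p l e b : ℕ) (h φ : ℤ[X]) (N j₀ : ℕ) : Prop :=
  ∀ j, j₀ ≤ j → (N : ℤ) ∣ (p : ℤ) ^ (e * j) - 1 → (l : ℤ) ∣ φ.eval ((p : ℤ) ^ (e * j)) →
    ∃ r : ℕ, r.Prime ∧ b < r ∧ r ≠ p ∧ ¬ (r : ℤ) ∣ h.eval ((p : ℤ) ^ (e * j)) ∧ (r : ℤ) ∣ φ.eval ((p : ℤ) ^ (e * j))

variable {p l e b : ℕ} {h : ℤ[X]}

theorem not_p (hp : p.Prime) (he : 0 < e) (hφ : φ ∣ qq (p ^ e) d) (t : ℤ) : ¬ (p : ℤ) ∣ φ.eval t := fun h1 => by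
  have h2 := h1.trans (eval_dvd (x := t) hφ)
  rw [eval_qq, Nat.cast_pow, dvd_sub_right ((dvd_pow_self _ he.ne').mul_right _)] at h2
  exact hp.one_lt.ne' (by exact_mod_cast Int.eq_one_of_dvd_one (by positivity) h2)

theorem one (hp : p.Prime) (hl : l.Prime) (hlp : l ≠ p) (hd : 0 < d) (he : 0 < e) (hh : ¬ (l : ℤ) ∣ h.eval 1)
    (hφ : Irreducible φ) (hQ : φ ∣ qq (p ^ e) d) : ∃ N j₀, N ≠ 0 ∧ N.Coprime p ∧ Gd p l e b h φ N j₀ := by
  by_cases hg : φ ∣ h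
  · refine ⟨l, 0, hl.ne_zero, (Nat.coprime_primes hl hp).2 hlp, fun j _ h1 h2 => absurd ?_ hh⟩
    have h3 := dvd_sub h2 (h1.trans (sub_dvd_eval_sub _ 1 φ))
    rw [sub_sub_cancel] at h3
    exact h3.trans (eval_dvd hg)
  obtain ⟨R, hR, h1⟩ := exists_res hd hφ hQ hg
  have hq : 2 ≤ p ^ e := Nat.one_lt_pow he.ne' hp.one_lt
  have h2 : φ.eval 1 ≠ 0 := eval_ne hq hQ
  have h2' := Int.natAbs_ne_zero.2 h2
  obtain ⟨j₀, h3⟩ := big hp.one_lt he (deg_pos hd hφ hQ) (φ.eval 1).natAbs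
  have h4 : (φ.eval 1).natAbs * (b + R.natAbs).factorial ≠ 0 := mul_ne_zero h2' (Nat.factorial_ne_zero _)
  refine ⟨_, j₀, (Nat.ordCompl_pos p h4).ne', (Nat.coprime_ordCompl hp h4).symm, fun j hj h5 _ => ?_⟩
  by_contra hc
  push Not at hc
  have h6 : φ.eval ((p : ℤ) ^ (e * j)) ≠ 0 := eval_ne hq hQ
  have h6' := Int.natAbs_ne_zero.2 h6
  refine (h3 j hj).not_ge (Nat.le_of_dvd (Nat.pos_of_ne_zero h2') ((Nat.factorization_prime_le_iff_dvd h6' h2').1 fun r hr => ?_))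
  by_cases h7 : (r : ℤ) ∣ φ.eval ((p : ℤ) ^ (e * j))
  · have h8 : r ≠ p := fun e' => not_p hp he hQ _ (e' ▸ h7)
    have h9 : r ≤ b + R.natAbs := by
      by_contra h9
      refine hc r hr (by omega) h8 (fun h10 => ?_) h7
      have := Nat.le_of_dvd (Int.natAbs_pos.2 hR) (Int.natCast_dvd.1 (h1 _ _ h7 h10))
      omega
    exact (Ht.fact_eval hr hp h8 φ h2 (mul_dvd_mul_left _ (Nat.dvd_factorial hr.pos h9)) h5).2.le
  · rw [Nat.factorization_eq_zero_of_not_dvd fun h8 => h7 (Int.natCast_dvd.2 h8)]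
    exact Nat.zero_le _

theorem all (hp : p.Prime) (hl : l.Prime) (hlp : l ≠ p) (hd : 0 < d) (he : 0 < e) (hh : ¬ (l : ℤ) ∣ h.eval 1)
    (s : Multiset ℤ[X]) (hs : ∀ φ ∈ s, Irreducible φ ∧ φ ∣ qq (p ^ e) d) :
    ∃ N j₀, N ≠ 0 ∧ N.Coprime p ∧ ∀ φ ∈ s, Gd p l e b h φ N j₀ := by
  induction s using Multiset.induction_on with
  | empty => exact ⟨1, 0, one_ne_zero, Nat.coprime_one_left p, fun _ h => by simp at h⟩
  | cons φ s ih =>
    obtain ⟨N, j, h1, h2, h3⟩ := ih fun ψ hψ => hs ψ (Multiset.mem_cons_of_mem hψ)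
    obtain ⟨N', j', h4, h5, h6⟩ := one (b := b) hp hl hlp hd he hh (hs φ (Multiset.mem_cons_self _ _)).1
      (hs φ (Multiset.mem_cons_self _ _)).2
    refine ⟨N * N', j + j', mul_ne_zero h1 h4, Nat.Coprime.mul_left h2 h5, fun ψ hψ i hi hN => ?_⟩
    rw [Nat.cast_mul] at hN
    rcases Multiset.mem_cons.1 hψ with rfl | hψ
    · exact h6 i (by omega) ((dvd_mul_left _ _).trans hN)
    · exact h3 ψ hψ i (by omega) ((dvd_mul_right _ _).trans hN)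

/-- a large prime sees only one irreducible factor -/
theorem sep (hp : p.Prime) (hd : 0 < d) {r j : ℕ} (hr : r.Prime) (hrd : d < r) (hrp : r ≠ p) {ψ : ℤ[X]} (hφ : Irreducible φ)
    (hψ : Irreducible ψ) (h1 : φ ∣ qq (p ^ e) d) (h2 : ψ ∣ qq (p ^ e) d) (h3 : (r : ℤ) ∣ φ.eval ((p : ℤ) ^ j))
    (h4 : (r : ℤ) ∣ ψ.eval ((p : ℤ) ^ j)) : φ ∣ ψ := by
  obtain ⟨χ, h5⟩ := h2
  rcases hφ.prime.dvd_or_dvd (h5 ▸ h1) with h6 | h6
  · exact h6
  exfalso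
  have h7 : (r : ℤ) ∣ (derivative (qq (p ^ e) d)).eval ((p : ℤ) ^ j) := by
    rw [h5, derivative_mul, eval_add, eval_mul, eval_mul]
    exact dvd_add ((h3.trans (eval_dvd h6)).mul_left _) (h4.mul_right _)
  have h8 : (derivative (qq (p ^ e) d)).eval ((p : ℤ) ^ j) = ((d * p ^ (e + j * (d - 1)) : ℕ) : ℤ) := by
    rw [qq, derivative_sub, derivative_one, sub_zero, derivative_C_mul_X_pow, eval_mul, eval_C, eval_pow, eval_X]
    push_cast
    ring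
  rw [h8, Int.natCast_dvd_natCast] at h7
  rcases hr.dvd_mul.1 h7 with h9 | h9
  · exact (Nat.le_of_dvd hd h9).not_gt hrd
  · exact hrp ((Nat.prime_dvd_prime_iff_eq hr hp).1 (hr.dvd_of_dvd_pow h9))

/-- a prime divisor of a value divides the value of an irreducible factor -/
theorem exists_irr {r : ℕ} (hr : r.Prime) (t : ℤ) (P : ℤ[X]) : P ≠ 0 → (r : ℤ) ∣ P.eval t →
    ∃ ψ, Irreducible ψ ∧ ψ ∣ P ∧ (r : ℤ) ∣ ψ.eval t := by
  induction P using UniqueFactorizationMonoid.induction_on_prime with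
  | h₁ => exact fun h => absurd rfl h
  | h₂ x hx =>
    exact fun _ h => absurd (isUnit_of_dvd_unit h (hx.map (evalRingHom t))) (Nat.prime_iff_prime_int.1 hr).not_isUnit
  | h₃ a x ha hx ih =>
    intro _ h
    rw [eval_mul] at h
    rcases (Nat.prime_iff_prime_int.1 hr).dvd_or_dvd h with h | h
    · exact ⟨x, hx.irreducible, dvd_mul_right _ _, h⟩
    · obtain ⟨ψ, h1, h2, h3⟩ := ih ha h
      exact ⟨ψ, h1, h2.mul_left _, h3⟩

theorem dv_ne (hq : 2 ≤ q) {P : ℤ[X]} (h : Dv q d P) (t : ℤ) : P.eval t ≠ 0 := fun e => by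
  obtain ⟨n, h⟩ := h
  have h1 := eval_dvd (x := t) h
  rw [e, zero_dvd_iff, eval_pow] at h1
  exact eval_ne hq (dvd_refl (qq q d)) (pow_eq_zero_iff' .. |>.1 h1).1

theorem dv_irr {P ψ : ℤ[X]} (h : Dv q d P) (h1 : Irreducible ψ) (h2 : ψ ∣ P) : ψ ∣ qq q d :=
  let ⟨_, h⟩ := h
  h1.prime.dvd_of_dvd_pow (h2.trans h)

end Ax

open Ax in
/-- **the arithmetic box** -/
theorem boxA : BoxA := by
  classical
  intro p l d e b h hp hl hlp hd he hh
  have hq : 2 ≤ p ^ e := Nat.one_lt_pow he.ne' hp.one_lt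
  obtain ⟨N, j₀, h1, h2, h3⟩ := all (b := b + d) hp hl hlp hd he hh (UniqueFactorizationMonoid.factors (qq (p ^ e) d))
    fun φ hφ => ⟨UniqueFactorizationMonoid.irreducible_of_factor φ hφ, UniqueFactorizationMonoid.dvd_of_mem_factors hφ⟩
  refine ⟨N, j₀, h1, h2, fun j hj hN P₁ P₂ d₁ d₂ hπ => ?_⟩
  have n₁ := dv_ne hq d₁ ((p : ℤ) ^ (e * j))
  have n₂ := dv_ne hq d₂ ((p : ℤ) ^ (e * j))
  obtain ⟨A₁, A₂, e₁, e₂, hu⟩ := extract_gcd P₁ P₂
  generalize gcd P₁ P₂ = g at e₁ e₂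
  subst e₁ e₂
  simp only [eval_mul, Int.natAbs_mul, mul_ne_zero_iff, ← Int.natAbs_ne_zero] at n₁ n₂ hπ ⊢
  simp only [Nat.factorization_mul n₁.1 n₁.2, Nat.factorization_mul n₂.1 n₂.2, Finsupp.add_apply, add_le_add_iff_left] at hπ ⊢
  by_contra hc
  have h4 : (l : ℤ) ∣ A₁.eval ((p : ℤ) ^ (e * j)) := Int.natCast_dvd.2 (Nat.dvd_of_factorization_pos (by omega))
  obtain ⟨φ, h5, h6, h7⟩ := exists_irr hl _ A₁ (fun e => n₁.2 (by simp [e])) h4
  have h8 := dv_irr d₁ h5 (h6.mul_left _)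
  obtain ⟨φ₀, h9, h10⟩ := UniqueFactorizationMonoid.exists_mem_factors_of_dvd (qq_ne hd) h5 h8
  obtain ⟨r, r1, r2, r3, r4, r5⟩ := h3 φ₀ h9 j hj hN (h7.trans (eval_dvd h10.dvd))
  replace r5 := r5.trans (eval_dvd h10.symm.dvd)
  have h11 : (r : ℤ) ∣ A₂.eval ((p : ℤ) ^ (e * j)) := Int.natCast_dvd.2 (Nat.dvd_of_factorization_pos (by
    have h12 := hπ r ⟨r1, by omega, r3, r4⟩
    have h13 := r1.factorization_pos_of_dvd n₁.2 (Int.natCast_dvd.1 (r5.trans (eval_dvd h6)))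
    omega))
  obtain ⟨ψ, h12, h13, h14⟩ := exists_irr r1 _ A₂ (fun e => n₂.2 (by simp [e])) h11
  have h15 := sep hp hd r1 (by omega) r3 h5 h12 h8 (dv_irr d₂ h12 (h13.mul_left _)) r5 h14
  exact h5.not_isUnit (isUnit_of_dvd_unit (dvd_gcd h6 (h15.trans h13)) hu)

end Cfsg.Agent.KM.Si
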