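import Cfsg.Agent.KM.Si.All

/-!
# S4576, the strict inequality for admissible tori (helper98)

`Adm l X D A`: the torus `Z0 X A` is `F`-stable, centralised by `D` and by the `l'`-elements of the centraliser of `D`, and
normalised by the normaliser of `D`.  `frame` collects the lifts of a character, `si'` is the strict inequality.
-/

set_option autoImplicit false
set_option linter.unusedSectionVars false

namespace Cfsg.Agent.KM.Si

open Cfsg Cfsg.Agent.DL Cfsg.Agent.DL.PP Cfsg.Agent.DL.Uni Cfsg.Agent.KZ.Lie Cfsg.Agent.LV.One Cfsg.Agent.Blocks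
  Cfsg.Agent.Blocks.Basic Cfsg.Agent.Characters.Core Cfsg.Agent.KM.Ht Cfsg.Agent.KM.Ht.OP Polynomial Matrix

variable {p : ℕ} [Fact p.Prime] {k : Type} [Field k] [CharP k p] {Y : Type} [Group Y] {N : Type} [Fintype N]
  [DecidableEq N] {ρ : Y →* GL N k} {F : MulAut Y} {G : Subgroup Y} [IsAlgClosed k]

/-- the torus `Z0 X A` is admissible for `D` -/
structure Adm (l : ℕ) (X : Datum p ρ F G) (D : Subgroup Y) (A : Set Y) : Prop where
  stab : ∀ a ∈ X.Sz A, X.g a ∈ X.Sz A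
  cen : ∀ d ∈ D, ∀ z ∈ Z0 X A, d * z = z * d
  nrm : ∀ g ∈ G, g ∈ Subgroup.normalizer (D : Set Y) → ∀ z ∈ Z0 X A, g * z * g⁻¹ ∈ Z0 X A
  reg : ∀ g ∈ G, g ∈ Subgroup.centralizer (D : Set Y) → ¬ l ∣ orderOf g → ∀ z ∈ Z0 X A, g * z = z * g

theorem Adm.of_ctl {l : ℕ} (hl : l.Prime) (hlp : l ≠ p) {X : Datum p ρ F G} {D A : Subgroup Y} [Finite D]
    (hD : IsPGroup l D) (hF : ∀ d ∈ D, F d = d) (hA : Ctl X D A) : Adm l X D A := by
  obtain ⟨z1, z2, z3⟩ := boxZ X A hA.tor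
  have hAfin : Finite A := Finite.of_injective _ (Subgroup.inclusion_injective hA.le)
  exact ⟨fun a ha => X.g_mem_Sz hA.tor (fun z hz => (hF z (hA.le hz)).symm ▸ hz) ha, fun d hd => z2 d (hA.cen hd),
    fun g hg h => z1 g hg (hA.nrm g hg h), fun g hg h ho => z2 g (z3 l hl hlp hAfin (hD.to_le hA.le) g hg
      (fun a ha => h a (hA.le ha)) ho)⟩

namespace Ad

theorem boxP' (X : Datum p ρ F G) (A : Set Y) (hA : ∀ a ∈ X.Sz A, X.g a ∈ X.Sz A) :
    (∀ z ∈ Z0 X A, F z ∈ Z0 X A) ∧ ∃ P : ℤ[X], IsUnit (P.coeff 0) ∧ (P.eval 1).natAbs = Nat.card ↥(GF F (Z0 X A)) ∧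
      ∀ d e j : ℕ, X.Mx ^ d = ((p : ℤ) ^ e) • (1 : Matrix X.R X.R ℤ) →
        (P.eval ((p : ℤ) ^ (e * j))).natAbs = Nat.card ↥(GF (F ^ (1 + d * j)) (Z0 X A)) := by
  let Λ : Submodule ℤ (X.R → ℤ) :=
    { carrier := {v | ∀ b ∈ X.Sz A, X.wt b ⬝ᵥ v = 0}
      add_mem' := fun hu hv b hb => by rw [dotProduct_add, hu b hb, hv b hb, add_zero]
      zero_mem' := fun b _ => dotProduct_zero _
      smul_mem' := fun n v hv b hb => by rw [dotProduct_smul, hv b hb, smul_zero] }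
  obtain ⟨s, J, K, hK, hJ⟩ := exists_JK Λ fun n hn v hv b hb => by
    have h1 := hv b hb
    rw [dotProduct_smul, smul_eq_mul] at h1
    exact (mul_eq_zero.1 h1).resolve_left hn
  have hM : ∀ v ∈ Λ, X.Mx *ᵥ v ∈ Λ := fun v hv b hb => by
    obtain ⟨a, ha, rfl⟩ := (X.g_bijOn (A := X.Sz A) X.Sz_root hA).surjOn hb
    rw [dotProduct_mulVec, X.wt_g ha.1, smul_dotProduct, hv a ha, smul_zero]
  obtain ⟨B, hB⟩ : ∃ B : Matrix (Fin s) (Fin s) ℤ, X.Mx * J = J * B := ⟨K * (X.Mx * J), by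
    refine Matrix.toLin'.injective (LinearMap.ext fun u => ?_)
    obtain ⟨u', hu⟩ := (hJ _).1 (hM _ ((hJ _).2 ⟨u, rfl⟩))
    simp only [toLin'_apply, ← mulVec_mulVec]
    rw [← hu, mulVec_mulVec u' K J, hK, one_mulVec]⟩
  have hBm : ∀ m, X.Mx ^ m * J = J * B ^ m := fun m => by
    induction m with
    | zero => rw [pow_zero, pow_zero, Matrix.one_mul, Matrix.mul_one]
    | succ m ih => rw [pow_succ, Matrix.mul_assoc, hB, ← Matrix.mul_assoc, ih, Matrix.mul_assoc, ← pow_succ]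
  have hBd : ∀ d e : ℕ, X.Mx ^ d = ((p : ℤ) ^ e) • (1 : Matrix X.R X.R ℤ) → B ^ d = ((p : ℤ) ^ e) • 1 := fun d e h => by
    rw [← Matrix.one_mul (B ^ d), ← hK, Matrix.mul_assoc, ← hBm, h, Matrix.smul_mul, Matrix.one_mul, Matrix.mul_smul]
  let ι : (Fin s → kˣ) →* Y := X.τ.comp (rm J)
  have hι : Function.Injective ι := fun c c' h => by
    have h1 := congrArg (rm K) (X.τ_inj h)
    rwa [← rm_mul, ← rm_mul, hK, show rm 1 c = c from mon_one c, show rm 1 c' = c' from mon_one c'] at h1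
  have hZ : Z0 X A = ι.range := le_antisymm ((Subgroup.closure_le _).2 (by
    rintro _ ⟨v, a, hv, rfl⟩
    obtain ⟨u, rfl⟩ := (hJ v).1 hv
    exact ⟨coch u a, congrArg X.τ (rm_coch J u a)⟩)) (by
    rintro _ ⟨c, rfl⟩
    show c ∈ (Z0 X A).comap ι
    rw [← prod_coch_single c]
    refine Subgroup.prod_mem _ fun j _ => ?_
    show X.τ (rm J (coch _ _)) ∈ Z0 X A
    rw [rm_coch]
    exact mem_Z0 ((hJ _).2 ⟨_, rfl⟩) (c j))
  have hFι : ∀ m c, (F ^ m) (ι c) = ι (mon (B ^ m) c) := fun m c =>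
    (X.F_pow_τ m _).trans (congrArg X.τ ((rm_mul (X.Mx ^ m) J c).symm.trans (hBm m ▸ rm_mul J (B ^ m) c)))
  have hc : ∀ m, 0 < m → Nat.card ↥(GF (F ^ m) (Z0 X A)) = (B ^ m - 1).det.natAbs := fun m hm => by
    obtain ⟨d, e, H⟩ := X.exists_split'
    have h1 : GF (F ^ m) (Z0 X A) = (mon (B ^ m - 1) : (Fin s → kˣ) →* _).ker.map ι := by
      have h2 : ∀ c, (F ^ m) (ι c) = ι c ↔ mon (B ^ m - 1) c = 1 := fun c => by
        rw [hFι, hι.eq_iff, mon_sub, mon_one, mul_inv_eq_one]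
      rw [hZ]
      exact le_antisymm (by rintro _ ⟨⟨c, rfl⟩, h⟩; exact ⟨c, (h2 c).1 h, rfl⟩)
        (by rintro _ ⟨c, h, rfl⟩; exact ⟨⟨c, rfl⟩, (h2 c).2 h⟩)
    rw [h1, Subgroup.card_map_of_injective hι, card_ker_mon (det_cast (d := d) (Nat.mul_pos H.e_pos hm) (by
      rw [← pow_mul, mul_comm m d, pow_mul, hBd d e (X.Mx_pow H), _root_.smul_pow, one_pow, pow_mul]))]
  refine ⟨fun z hz => ?_, ((Polynomial.X : ℤ[X]) • B.map C - 1).det, ?_, ?_, fun d e j h => ?_⟩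
  · rw [hZ] at hz ⊢
    obtain ⟨c, rfl⟩ := hz
    exact ⟨_, (hFι 1 c).symm⟩
  · rw [coeff_zero_eq_eval_zero, ev_det, zero_smul, zero_sub]
    exact (isUnit_iff_isUnit_det _).1 isUnit_one.neg
  · have h1 := hc 1 one_pos
    rw [pow_one, pow_one] at h1
    rw [ev_det, one_smul, h1]
  · rw [ev_det, hc _ (by omega), pow_add, pow_one, pow_mul B, hBd d e h, _root_.smul_pow, one_pow, mul_smul_comm, mul_one,
      pow_mul]

/-- a lift of `χ` to `G ^ (F ^ m)` -/
structure Lift (l m : ℕ) [Fintype ↥(GF F G)] [Fintype ↥(GF (F ^ m) G)] (χ : IrrCharacter ↥(GF F G))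
    (ψ : IrrCharacter ↥(GF (F ^ m) G)) : Prop where
  pr : m.Prime
  lm : ¬ l ∣ m
  mH : ¬ m ∣ Nat.card ↥(GF F G)
  inv : ∀ g g' : GF (F ^ m) G, (g' : Y) = F g → (ψ : GF (F ^ m) G → ℂ) g' = (ψ : GF (F ^ m) G → ℂ) g
  mul : ∃ n : ℕ, ¬ m ∣ n ∧ classInner (fun g : GF F G => (ψ : GF (F ^ m) G → ℂ) (Subgroup.inclusion (GF_le_pow m) g))
    (χ : GF F G → ℂ) = n
  val : (Nat.card ↥(GF (F ^ m) G)).factorization l + (charDegree (χ : GF F G → ℂ)).factorization l =
    (Nat.card ↥(GF F G)).factorization l + (charDegree (ψ : GF (F ^ m) G → ℂ)).factorization l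

/-- the core at one level -/
theorem core' (X : Datum p ρ F G) [Fintype ↥(GF F G)] {l : ℕ} {M : Ideal AlgInt} (hM : IsPModular l M)
    {B : Set (IrrCharacter ↥(GF F G))} {D : Subgroup ↥(GF F G)} (hB : IsPBlock M B)
    (hD : IsDefectGroup l M B D) {A : Set Y} (hA : Adm l X (D.map (GF F G).subtype) A) {χ : IrrCharacter ↥(GF F G)}
    (hχ : χ ∈ B) {m : ℕ} [Fintype ↥(GF (F ^ m) G)] {ψ : IrrCharacter ↥(GF (F ^ m) G)} (h : Lift l m χ ψ) :
    (∀ x, ¬ MemLocalIdeal M (centralChar (ψ : GF (F ^ m) G → ℂ) x) →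
      (Nat.card D).factorization l ≤ (Nat.card (Subgroup.centralizer ({x} : Set ↥(GF (F ^ m) G)))).factorization l) ∧
    ∃ y, ¬ l ∣ orderOf y ∧ (∀ s ∈ Mg.cZ X A (GF (F ^ m) G) (Nat.card ↥(GF F G)), y * s = s * y) ∧
      ∀ s ∈ Mg.cZ X A (GF (F ^ m) G) (Nat.card ↥(GF F G)),
        ¬ MemLocalIdeal M (centralChar (ψ : GF (F ^ m) G → ℂ) (y * s)) := by
  obtain ⟨n, hn, h3⟩ := h.mul
  let j := Subgroup.inclusion (GF_le_pow (F := F) (G := G) m)
  exact boxCore _ _ l m M hM h.pr h.lm (resF X m) (MulEquiv.ext fun g => Subtype.ext (by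
      rw [resF_pow]; exact g.2.2)) j (Subgroup.inclusion_injective _)
    (fun x => ⟨by rintro ⟨c, rfl⟩; exact Subtype.ext c.2.2,
      fun e => ⟨⟨x, x.2.1, congrArg Subtype.val e⟩, rfl⟩⟩) h.mH ψ (fun g => h.inv g _ rfl) χ n hn h3 h.val B hB hχ D hD _
    (Nat.coprime_of_dvd fun r hr e e' => by
      have := Fact.mk hr
      obtain ⟨s, hs⟩ := exists_prime_orderOf_dvd_card' r e
      have h6 := s.2.2
      rw [Subgroup.orderOf_coe, hs] at h6
      exact (hr.coprime_iff_not_dvd.1 h6) e')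
    (fun s hs => ⟨(boxP' X A hA.stab).1 _ hs.1, by rw [MulEquiv.orderOf_eq]; exact hs.2⟩)
    (fun g hg s hs => by
      have hfin : Finite ↥(D.map (GF F G).subtype) := Finite.of_surjective _ (D.equivMapOfInjective _
        (GF F G).subtype_injective).surjective
      refine ⟨hA.nrm g g.2.1 (Subgroup.mem_normalizer_fintype ?_) s hs.1, by
        rw [← MulAut.conj_apply, MulEquiv.orderOf_eq]; exact hs.2⟩
      rintro _ ⟨d, hd, rfl⟩
      obtain ⟨d', hd', e⟩ := (Subgroup.mem_normalizer_iff.1 hg (j d)).1 ⟨d, hd, rfl⟩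
      exact ⟨d', hd', congrArg Subtype.val e⟩)
    (by
      rintro s hs _ ⟨d, hd, rfl⟩
      exact Subtype.ext (hA.cen d ⟨d, hd, rfl⟩ s hs.1))
    (fun y hy ho s hs => Subtype.ext (hA.reg y y.2.1 (by
      rintro _ ⟨d, hd, rfl⟩
      exact congrArg Subtype.val (hy (j d) ⟨d, hd, rfl⟩)) (by rwa [Subgroup.orderOf_coe]) s hs.1))

theorem ne_of_unit {K : Type} [Group K] {l : ℕ} {M : Ideal AlgInt} (hM : IsPModular l M) {ψ : K → ℂ} {x : K}
    (h : ¬ MemLocalIdeal M (centralChar ψ x)) : ψ x ≠ 0 := fun e => h (by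
  rw [centralChar, e, mul_zero, zero_div]
  exact ⟨0, 1, M.zero_mem, fun h => hM.2.1.ne_top (M.eq_top_of_isUnit_mem h isUnit_one), by simp⟩)

theorem rZ_le_cZ (X : Datum p ρ F G) (A : Set Y) (K : Subgroup Y) {r h : ℕ} (hr : r.Prime) (hh : ¬ r ∣ h) :
    rZ X A K r ≤ Mg.cZ X A K h := fun _ ⟨hz, a, e⟩ =>
  ⟨hz, ((hr.coprime_iff_not_dvd.2 hh).pow_left a).coprime_dvd_left (orderOf_dvd_of_pow_eq_one e)⟩

/-- one level, one large prime -/
theorem lev_ineq' (X : Datum p ρ F G) [Fintype ↥(GF F G)] {l : ℕ} {M : Ideal AlgInt} (hM : IsPModular l M) (_hlp : l ≠ p)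
    {B : Set (IrrCharacter ↥(GF F G))} {D : Subgroup ↥(GF F G)} (hB : IsPBlock M B) (hD : IsDefectGroup l M B D)
    {A : Set Y} (hA : Adm l X (D.map (GF F G).subtype) A) {χ : IrrCharacter ↥(GF F G)} (hχ : χ ∈ B)
    {m : ℕ} (hm : m.Prime) (hlm : ¬ l ∣ m) (hmH : ¬ m ∣ Nat.card ↥(GF F G)) [Fintype ↥(GF (F ^ m) G)]
    {χ' : GF (F ^ m) G → ℂ} (h1 : IsIrrCharacter _ χ') (h2 : ∀ g g' : GF (F ^ m) G, (g' : Y) = F g → χ' g' = χ' g)
    {n : ℕ} (hn : ¬ m ∣ n)
    (h3 : classInner (fun g : GF F G => χ' (Subgroup.inclusion (GF_le_pow m) g)) (χ : GF F G → ℂ) = n)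
    (hν : (Nat.card ↥(GF (F ^ m) G)).factorization l + (charDegree (χ : GF F G → ℂ)).factorization l =
      (Nat.card ↥(GF F G)).factorization l + (charDegree χ').factorization l)
    {r : ℕ} (hr : r.Prime) (hrp : r ≠ p) (hrW : Nat.card X.W < r) (hrH : ¬ r ∣ Nat.card ↥(GF F G)) :
    (charDegree χ').factorization r + (Nat.card ↥(GF (F ^ m) (Z0 X A))).factorization r ≤
      (Nat.card ↥(GF (F ^ m) G)).factorization r := by
  obtain ⟨-, y, -, hy1, hy2⟩ := core' X hM hB hD hA hχ (ψ := ⟨χ', h1⟩) ⟨hm, hlm, hmH, h2, ⟨n, hn, h3⟩, hν⟩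
  have hle := rZ_le_cZ X A (GF (F ^ m) G) hr hrH
  have h4 := boxR _ r hr (boxS (X.pow hm.pos) r hr hrp hrW) ⟨χ', h1⟩ _ y (rZ_p X A _ r) (fun s hs => hy1 s (hle hs))
    fun s hs => ne_of_unit hM (hy2 s (hle hs))
  exact (Nat.add_le_add_left (rZ_card X A (F ^ m) hr) _).trans h4

/-- **The divisibility of polynomials.** -/
theorem ht_dvd' {X : Datum p ρ F G} (f : Fr X) [Fintype ↥(GF F G)] (hq : X.QS) {l : ℕ} {M : Ideal AlgInt} (hM : IsPModular l M) (hlp : l ≠ p)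
    {B : Set (IrrCharacter ↥(GF F G))} {D : Subgroup ↥(GF F G)} (hB : IsPBlock M B) (hD : IsDefectGroup l M B D)
    {y : Y} (hy : y ∈ G) (hN : y⁻¹ * F y ∈ X.NN) {A : Set Y} (hA : Adm l (X.conj hy hN) (D.map (GF F G).subtype) A)
    {χ : IrrCharacter ↥(GF F G)} (hχ : χ ∈ B) (hL : LfG f (χ : GF F G → ℂ)) {c : ℚ} {n : ℕ} {u Q P : ℤ[X]}
    (hu : u.IsPrimitive) (hu0 : u.coeff 0 ≠ 0)
    (hg : LfD f (χ : GF F G → ℂ) (C c * (Polynomial.X ^ n * u).map (Int.castRingHom ℚ)))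
    (h1 : c * (u.eval 1 : ℤ) = charDegree (χ : GF F G → ℂ)) (hQ1 : Q.eval 1 = pc' p (GF F G))
    (hQ : ∀ (m j : ℕ) (_ : 0 < m), m = 1 + f.d * j → Q.eval ((p : ℤ) ^ (f.e * j)) = pc' p (GF (F ^ m) G))
    (hP0 : IsUnit (P.coeff 0)) (hP1 : P.eval 1 ≠ 0)
    (hP : ∀ j : ℕ, (P.eval ((p : ℤ) ^ (f.e * j))).natAbs = Nat.card ↥(GF (F ^ (1 + f.d * j)) (Z0 (X.conj hy hN) A))) :
    u * P ∣ Q := by
  have hp : p.Prime := Fact.out
  have hl := hM.1
  have hd0 := (charDegree_pos χ.2).ne'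
  have hu1 : u.eval 1 ≠ 0 := fun e => hd0 (by rw [e, Int.cast_zero, mul_zero] at h1; exact_mod_cast h1.symm)
  have hc0 : c ≠ 0 := fun e => hd0 (by rw [e, zero_mul] at h1; exact_mod_cast h1.symm)
  have hQ0 : Q.eval 1 ≠ 0 := by
    rw [hQ1]
    exact Nat.cast_ne_zero.2 fun e => not_dvd_pc' (p := p) (GF F G) (e ▸ dvd_zero p)
  have huP : (u * P).eval 1 ≠ 0 := by rw [eval_mul]; exact mul_ne_zero hu1 hP1
  have hnum : c.num.natAbs ≠ 0 := Int.natAbs_ne_zero.2 (Rat.num_ne_zero.2 hc0)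
  have e1 : c.den * charDegree (χ : GF F G → ℂ) = c.num.natAbs * (u.eval 1).natAbs := by
    have : (c.den : ℤ) * charDegree (χ : GF F G → ℂ) = c.num * u.eval 1 := Int.cast_injective (α := ℚ) (by
      rw [Int.cast_mul, Int.cast_mul, Int.cast_natCast, Int.cast_natCast, ← h1, ← mul_assoc, Rat.den_mul_eq_num])
    simpa [Int.natAbs_mul] using congrArg Int.natAbs this
  set a := ((u * P).eval 1).natAbs with ha
  have ha0 : a ≠ 0 := Int.natAbs_ne_zero.2 huP
  set W := Nat.card (X.conj hy hN).W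
  set h := Nat.card ↥(GF F G) with hh
  have hh0 : h ≠ 0 := Nat.card_pos.ne'
  set N₀ := a * (W.factorial * h) * ((Q.eval 1).natAbs * l) with hN₀
  have hN0 : N₀ ≠ 0 := mul_ne_zero (mul_ne_zero ha0 (mul_ne_zero (Nat.factorial_ne_zero W) hh0))
    (mul_ne_zero (Int.natAbs_ne_zero.2 hQ0) hl.ne_zero)
  set N₁ := N₀ / p ^ N₀.factorization p with hN₁
  have hN1 : N₁.Coprime p := (Nat.coprime_ordCompl hp hN0).symm
  have hN1' : 0 < N₁ := Nat.ordCompl_pos p hN0
  refine dvd_of_map_dvd (n := (a * c.den : ℕ)) (hu.mul (isPrimitive_of_coeff hP0))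
    (Nat.cast_ne_zero.2 (mul_ne_zero ha0 c.den_ne_zero))
    (dvd_of_pow_values hp (by rw [mul_coeff_zero]; exact mul_ne_zero hu0 hP0.ne_zero) fun B => ?_)
  obtain ⟨m, hm, i, f', χ', ε, h2, h3, h4, h5, h6, h7, h8, n', h9, h10⟩ := hL (1 + f.d * B + h + l)
    (f.d * N₁.totient) (mul_ne_zero f.L.d_pos.ne' (Nat.totient_pos.2 hN1').ne')
  obtain ⟨j', hj'⟩ := (Nat.modEq_iff_dvd' hm).1 h3.symm
  set j := N₁.totient * j' with hj
  have h11 : m = 1 + f.d * j := by rw [hj, ← mul_assoc]; omega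
  have h12 : B < j := lt_of_mul_lt_mul_left (a := f.d) (by omega) (Nat.zero_le _)
  set t : ℤ := (p : ℤ) ^ (f.e * j) with ht
  have h13 : (N₁ : ℤ) ∣ t - 1 := by
    have := (Nat.ModEq.pow_totient hN1.symm).pow (j' * f.e)
    rw [one_pow, ← pow_mul, ← mul_assoc, ← hj, mul_comm j] at this
    have := Nat.ModEq.dvd this.symm
    simpa [ht] using this
  have h14 := deg_of_lift f hq (gen_of_irr χ.2) hg hm h11 f' h5 h6
  obtain ⟨η, rfl, hη⟩ : ∃ η : ℤ, ε = η ∧ η.natAbs = 1 := by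
    rcases h5 with rfl | rfl
    exacts [⟨1, by simp, rfl⟩, ⟨-1, by simp, rfl⟩]
  have e2 : c.den * charDegree χ' = c.num.natAbs * (p ^ (f.e * j * n) * (u.eval t).natAbs) := by
    rw [eval_mul, eval_C, eval_map_cast, irr_one_eq_charDegree h4] at h14
    have h17 : ((η * charDegree χ' : ℤ) : ℚ) = c * ((Polynomial.X ^ n * u).eval t : ℤ) := by exact_mod_cast h14
    have h16 : (c.den : ℤ) * (η * charDegree χ') = c.num * (Polynomial.X ^ n * u).eval t := by
      refine Int.cast_injective (α := ℚ) ?_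
      rw [Int.cast_mul, h17, Int.cast_mul, ← mul_assoc, Int.cast_natCast, Rat.den_mul_eq_num]
    have h18 := congrArg Int.natAbs h16
    rw [eval_mul, eval_pow, eval_X, ht, ← pow_mul] at h18
    simpa [Int.natAbs_mul, hη, Int.natAbs_pow] using h18
  have hd1 := (charDegree_pos h4).ne'
  have hut : (u.eval t).natAbs ≠ 0 := fun e => mul_ne_zero c.den_ne_zero hd1 (by rw [e2, e, mul_zero, mul_zero])
  -- valuations of the degrees
  have v1 : ∀ r, r.Prime → r ≠ p → c.den.factorization r + (charDegree χ').factorization r =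
      c.num.natAbs.factorization r + (u.eval t).natAbs.factorization r := fun r hr hrp => by
    have := congrArg (fun x : ℕ => x.factorization r) e2
    simp only [Nat.factorization_mul c.den_ne_zero hd1, Nat.factorization_mul hnum
      (mul_ne_zero (pow_ne_zero _ hp.ne_zero) hut), Nat.factorization_mul (pow_ne_zero _ hp.ne_zero) hut,
      Finsupp.add_apply, Nat.factorization_pow, Finsupp.smul_apply, hp.factorization, Finsupp.single_apply,
      if_neg hrp.symm, smul_zero, zero_add] at this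
    exact this
  have v2 : c.den.factorization l + (charDegree (χ : GF F G → ℂ)).factorization l =
      c.num.natAbs.factorization l + (u.eval 1).natAbs.factorization l := by
    have := congrArg (fun x : ℕ => x.factorization l) e1
    simp only [Nat.factorization_mul c.den_ne_zero hd0, Nat.factorization_mul hnum (Int.natAbs_ne_zero.2 hu1),
      Finsupp.add_apply] at this
    exact this
  have v3 : ∀ r, r.Prime → r ≠ p → (Nat.card ↥(GF (F ^ m) G)).factorization r = (Q.eval t).natAbs.factorization r :=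
    fun r hr hrp => by rw [fact_card hr hrp, hQ m j hm h11, Int.natAbs_natCast]
  have v4 := (fact_eval hl hp hlp Q hQ0 (N₀ := N₀) (Dvd.intro_left _ rfl) h13).2
  have v5 := (fact_eval hl hp hlp u hu1 (N₀ := N₀) (mul_dvd_mul (dvd_mul_of_dvd_left (by
    rw [ha, eval_mul, Int.natAbs_mul]; exact dvd_mul_right _ _) _) (dvd_mul_left _ _)) h13).2
  have v6 : h.factorization l = (Q.eval 1).natAbs.factorization l := by rw [hh, fact_card hl hlp, hQ1, Int.natAbs_natCast]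
  have hν : (Nat.card ↥(GF (F ^ m) G)).factorization l + (charDegree (χ : GF F G → ℂ)).factorization l =
      h.factorization l + (charDegree χ').factorization l := by
    have := v1 l hl hlp
    have := v3 l hl hlp
    omega
  have hlm : ¬ l ∣ m := fun e => by
    have := (Nat.prime_dvd_prime_iff_eq hl h7).1 e
    omega
  have hmH : ¬ m ∣ h := fun e => by
    have := Nat.le_of_dvd (Nat.pos_of_ne_zero hh0) e
    omega
  have hPt : (P.eval t).natAbs = Nat.card ↥(GF (F ^ m) (Z0 (X.conj hy hN) A)) := by rw [hP j, ← h11]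
  have hPt0 : (P.eval t).natAbs ≠ 0 := by
    have : Finite ↥(GF (F ^ m) (Z0 (X.conj hy hN) A)) := Finite.of_injective _ (Subgroup.inclusion_injective
      (show GF (F ^ m) (Z0 (X.conj hy hN) A) ≤ GF (F ^ m) G from fun z hz =>
        ⟨(X.conj hy hN).T_le_G (Z0_le_T _ _ hz.1), hz.2⟩))
    rw [hPt]
    exact Nat.card_pos.ne'
  have hQt : (Q.eval t).natAbs ≠ 0 := by
    rw [hQ m j hm h11, Int.natAbs_natCast]
    exact fun e => not_dvd_pc' (p := p) (GF (F ^ m) G) (e ▸ dvd_zero p)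
  have huPt : ((u * P).eval t).natAbs = (u.eval t).natAbs * (P.eval t).natAbs := by rw [eval_mul, Int.natAbs_mul]
  refine ⟨f.e * j, ((u * P).eval t).natAbs.factorization p, h12.trans_le (Nat.le_mul_of_pos_left _ f.L.e_pos), ?_⟩
  rw [← Int.natAbs_dvd_natAbs, Int.natAbs_mul, Int.natAbs_pow, Int.natAbs_natCast, eval_mul (p := C _), eval_C,
    Int.natAbs_mul, Int.natAbs_natCast, ← ht]
  have hx0 : ((u * P).eval t).natAbs ≠ 0 := by rw [huPt]; exact mul_ne_zero hut hPt0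
  have hy0 : a * c.den * (Q.eval t).natAbs ≠ 0 := mul_ne_zero (mul_ne_zero ha0 c.den_ne_zero) hQt
  refine (Nat.factorization_prime_le_iff_dvd hx0 (mul_ne_zero (pow_ne_zero _ hp.ne_zero) hy0)).1 fun r hr => ?_
  rw [Nat.factorization_mul (pow_ne_zero _ hp.ne_zero) hy0, Finsupp.add_apply, Nat.factorization_pow, Finsupp.smul_apply,
    Nat.factorization_mul (mul_ne_zero ha0 c.den_ne_zero) hQt, Finsupp.add_apply,
    Nat.factorization_mul ha0 c.den_ne_zero, Finsupp.add_apply]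
  by_cases hrp : r = p
  · rw [hrp, hp.factorization_self, smul_eq_mul, mul_one]
    omega
  by_cases hs : r ∣ W.factorial * h
  · have := (fact_eval hr hp hrp (u * P) huP (N₀ := N₀) (dvd_mul_of_dvd_left (mul_dvd_mul_left _ hs) _) h13).2
    rw [← ha] at this
    omega
  · have w1 : W < r := by
      by_contra e
      exact hs (dvd_mul_of_dvd_left (Nat.dvd_factorial hr.pos (not_lt.1 e)) _)
    have w2 := lev_ineq' (X.conj hy hN) hM hlp hB hD hA hχ h7 hlm hmH h4 h8 h9 h10 hν hr hrp w1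
      fun e => hs (dvd_mul_of_dvd_right e _)
    have w3 := v1 r hr hrp
    have w4 := v3 r hr hrp
    rw [← hPt] at w2
    rw [huPt, Nat.factorization_mul hut hPt0, Finsupp.add_apply]
    omega

/-- **The frame**: the polynomials and the lifts. -/
theorem frame {X : Datum p ρ F G} [Fintype ↥(GF F G)] (hq : X.QS) {l : ℕ} {M : Ideal AlgInt} (hM : IsPModular l M)
    (hlp : l ≠ p) {B : Set (IrrCharacter ↥(GF F G))} {D : Subgroup ↥(GF F G)} (hB : IsPBlock M B)
    (hD : IsDefectGroup l M B D) {y : Y} (hy : y ∈ G) (hN : y⁻¹ * F y ∈ X.NN) {A : Set Y}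
    (hA : Adm l (X.conj hy hN) (D.map (GF F G).subtype) A) {χ : IrrCharacter ↥(GF F G)} (hχ : χ ∈ B) :
    ∃ (d e c : ℕ) (P H : ℤ[X]), Lvl (X.conj hy hN) d e ∧ c ≠ 0 ∧ H.eval 1 ≠ 0 ∧
      (P.eval 1).natAbs = Nat.card ↥(GF F (Z0 (X.conj hy hN) A)) ∧
      (∀ j, (P.eval ((p : ℤ) ^ (e * j))).natAbs = Nat.card ↥(GF (F ^ (1 + d * j)) (Z0 (X.conj hy hN) A))) ∧
      (Nat.card ↥(GF F G)).factorization l = c.factorization l + (charDegree (χ : GF F G → ℂ)).factorization l +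
        (P.eval 1).natAbs.factorization l + (H.eval 1).natAbs.factorization l ∧
      ∀ N₂ j₀ : ℕ, N₂ ≠ 0 → N₂.Coprime p → ∃ (m j : ℕ) (_ : Fintype ↥(GF (F ^ m) G)) (ψ : IrrCharacter ↥(GF (F ^ m) G)),
        j₀ < j ∧ m = 1 + d * j ∧ (N₂ : ℤ) ∣ (p : ℤ) ^ (e * j) - 1 ∧ Lift l m χ ψ ∧
        (P.eval ((p : ℤ) ^ (e * j))).natAbs.factorization l = (P.eval 1).natAbs.factorization l ∧
        ∀ r, r.Prime → r ≠ p → (Nat.card ↥(GF (F ^ m) G)).factorization r ≤ c.factorization r +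
          (charDegree (ψ : GF (F ^ m) G → ℂ)).factorization r + (P.eval ((p : ℤ) ^ (e * j))).natAbs.factorization r +
            (H.eval ((p : ℤ) ^ (e * j))).natAbs.factorization r := by
  have hp : p.Prime := Fact.out
  have hl := hM.1
  have := Fintype.ofFinite X.W
  obtain ⟨f⟩ := nonempty_fr X
  have hL := boxLf f hq _ χ.2
  have hn := Deg.deg_of_dwR hq f Deg.boxCnt D3.boxExp D3.boxPow Deg.boxBij (dwR X) χ.2 hl hlp
  obtain ⟨g, hg, g2⟩ := exists_poly f hq hL.lfE (gen_of_irr χ.2)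
  obtain ⟨Q, hQ1, hQ⟩ := exists_ord hq f
  obtain ⟨c, n, u, hc0, hu, hu0, rfl⟩ := exists_form (g := g) fun e =>
    irr_one_ne_zero χ.2 (by rw [← g2, e, eval_zero, Rat.cast_zero])
  have h1 : c * (u.eval 1 : ℤ) = charDegree (χ : GF F G → ℂ) := by
    rw [irr_one_eq_charDegree χ.2, eval_mul, eval_C, ← Int.cast_one, eval_map_cast, eval_mul, eval_pow, eval_X, one_pow,
      one_mul] at g2
    exact_mod_cast g2
  obtain ⟨-, P, hP0, hP1, hP⟩ := boxP' (X.conj hy hN) A hA.stab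
  have hfin : ∀ (F' : MulAut Y) [Finite ↥(GF F' G)], Nat.card ↥(GF F' (Z0 (X.conj hy hN) A)) ≠ 0 := fun F' _ => by
    have : Finite ↥(GF F' (Z0 (X.conj hy hN) A)) := Finite.of_injective _ (Subgroup.inclusion_injective
      (show GF F' (Z0 (X.conj hy hN) A) ≤ GF F' G from fun z hz => ⟨(X.conj hy hN).T_le_G (Z0_le_T _ _ hz.1), hz.2⟩))
    exact Nat.card_pos.ne'
  have hP2 : (P.eval 1).natAbs ≠ 0 := by rw [hP1]; exact hfin F
  obtain ⟨H, hH⟩ := ht_dvd' f hq hM hlp hB hD hy hN hA hχ hL hu hu0 hg h1 hQ1 hQ hP0 (Int.natAbs_ne_zero.1 hP2)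
    fun j => hP f.d f.e j (f.L.pow _)
  have hsp : ∀ t : ℤ, (Q.eval t).natAbs = (u.eval t).natAbs * (P.eval t).natAbs * (H.eval t).natAbs := fun t => by
    rw [hH, eval_mul, eval_mul, Int.natAbs_mul, Int.natAbs_mul]
  have hfa : ∀ t : ℤ, (Q.eval t).natAbs ≠ 0 → ∀ r, (Q.eval t).natAbs.factorization r = (u.eval t).natAbs.factorization r +
      (P.eval t).natAbs.factorization r + (H.eval t).natAbs.factorization r := fun t e r => by
    rw [hsp] at e ⊢
    rw [Nat.factorization_mul (left_ne_zero_of_mul e) (right_ne_zero_of_mul e), Nat.factorization_mul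
      (left_ne_zero_of_mul (left_ne_zero_of_mul e)) (right_ne_zero_of_mul (left_ne_zero_of_mul e))]
    rfl
  have hd0 := (charDegree_pos χ.2).ne'
  have hQ0 : (Q.eval 1).natAbs ≠ 0 := by
    rw [hQ1, Int.natAbs_natCast]
    exact fun e => not_dvd_pc' (p := p) (GF F G) (e ▸ dvd_zero p)
  have hQ0' := hQ0
  rw [hsp] at hQ0'
  have hu1 := left_ne_zero_of_mul (left_ne_zero_of_mul hQ0')
  have hnum : c.num.natAbs ≠ 0 := Int.natAbs_ne_zero.2 (Rat.num_ne_zero.2 hc0)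
  have e1 : c.den * charDegree (χ : GF F G → ℂ) = c.num.natAbs * (u.eval 1).natAbs := by
    have : (c.den : ℤ) * charDegree (χ : GF F G → ℂ) = c.num * u.eval 1 := Int.cast_injective (α := ℚ) (by
      rw [Int.cast_mul, Int.cast_mul, Int.cast_natCast, Int.cast_natCast, ← h1, ← mul_assoc, Rat.den_mul_eq_num])
    simpa [Int.natAbs_mul] using congrArg Int.natAbs this
  have v2 := congrArg (fun x : ℕ => x.factorization l) e1
  simp only [Nat.factorization_mul c.den_ne_zero hd0, Nat.factorization_mul hnum hu1, Finsupp.add_apply] at v2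
  have v0 : c.num.natAbs.factorization l = 0 := Nat.factorization_eq_zero_of_not_dvd fun e' => by
    by_cases e : (l : ℤ) ∣ c.den
    · exact hl.not_dvd_one (by
        rw [← c.reduced]
        exact Nat.dvd_gcd e' (Int.natCast_dvd_natCast.1 e))
    · exact hn _ hg c.num c.den (Polynomial.X ^ n * u)
        (by rw [← mul_assoc, ← C_mul, Int.cast_natCast, Rat.den_mul_eq_num]) e (Int.natCast_dvd.2 e')
  set h := Nat.card ↥(GF F G) with hh
  have hh0 : h ≠ 0 := Nat.card_pos.ne'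
  have v6 : h.factorization l = (Q.eval 1).natAbs.factorization l := by rw [hh, fact_card hl hlp, hQ1, Int.natAbs_natCast]
  refine ⟨f.d, f.e, c.den, P, H, Mg.lvl_conj f.L hy hN, c.den_ne_zero, Int.natAbs_ne_zero.1 (right_ne_zero_of_mul hQ0'), hP1,
    fun j => hP f.d f.e j (f.L.pow _), by have := hfa 1 hQ0 l; omega, fun N₂ j₀ hN2 hN2' => ?_⟩
  set N₀ := N₂ * ((Q.eval 1).natAbs * l) with hN₀
  have hN0 : N₀ ≠ 0 := mul_ne_zero hN2 (mul_ne_zero hQ0 hl.ne_zero)
  set N₁ := N₀ / p ^ N₀.factorization p with hN₁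
  have hN1 : N₁.Coprime p := (Nat.coprime_ordCompl hp hN0).symm
  have hN1' : 0 < N₁ := Nat.ordCompl_pos p hN0
  obtain ⟨m, hm, i, f', χ', ε, h2, h3, h4, h5, h6, h7, h8, n', h9, h10⟩ := hL (1 + f.d * j₀ + h + l)
    (f.d * N₁.totient) (mul_ne_zero f.L.d_pos.ne' (Nat.totient_pos.2 hN1').ne')
  obtain ⟨j', hj'⟩ := (Nat.modEq_iff_dvd' hm).1 h3.symm
  set j := N₁.totient * j' with hj
  have h11 : m = 1 + f.d * j := by rw [hj, ← mul_assoc]; omega
  have h12 : j₀ < j := lt_of_mul_lt_mul_left (a := f.d) (by omega) (Nat.zero_le _)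
  have h13 : (N₁ : ℤ) ∣ (p : ℤ) ^ (f.e * j) - 1 := by
    have := (Nat.ModEq.pow_totient hN1.symm).pow (j' * f.e)
    rw [one_pow, ← pow_mul, ← mul_assoc, ← hj, mul_comm j] at this
    have := Nat.ModEq.dvd this.symm
    simpa using this
  have ht0 : (p : ℤ) ^ (f.e * j) ≠ 0 := pow_ne_zero _ (Nat.cast_ne_zero.2 hp.ne_zero)
  set t : ℤ := (p : ℤ) ^ (f.e * j) with ht
  have h14 := deg_of_lift f hq (gen_of_irr χ.2) hg hm h11 f' h5 h6
  obtain ⟨η, rfl, hη⟩ : ∃ η : ℤ, ε = η ∧ η.natAbs = 1 := by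
    rcases h5 with rfl | rfl
    exacts [⟨1, by simp, rfl⟩, ⟨-1, by simp, rfl⟩]
  have e2 : c.den * charDegree χ' = c.num.natAbs * (p ^ (f.e * j * n) * (u.eval t).natAbs) := by
    rw [eval_mul, eval_C, eval_map_cast, irr_one_eq_charDegree h4] at h14
    have h17 : ((η * charDegree χ' : ℤ) : ℚ) = c * ((Polynomial.X ^ n * u).eval t : ℤ) := by exact_mod_cast h14
    have h16 : (c.den : ℤ) * (η * charDegree χ') = c.num * (Polynomial.X ^ n * u).eval t := by
      refine Int.cast_injective (α := ℚ) ?_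
      rw [Int.cast_mul, h17, Int.cast_mul, ← mul_assoc, Int.cast_natCast, Rat.den_mul_eq_num]
    have h18 := congrArg Int.natAbs h16
    rw [eval_mul, eval_pow, eval_X, ht, ← pow_mul] at h18
    simpa [Int.natAbs_mul, hη, Int.natAbs_pow] using h18
  have hd1 := (charDegree_pos h4).ne'
  have hut : (u.eval t).natAbs ≠ 0 := fun e => mul_ne_zero c.den_ne_zero hd1 (by rw [e2, e, mul_zero, mul_zero])
  have v1 : ∀ r, r ≠ p → c.den.factorization r + (charDegree χ').factorization r =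
      c.num.natAbs.factorization r + (u.eval t).natAbs.factorization r := fun r hrp => by
    have := congrArg (fun x : ℕ => x.factorization r) e2
    simp only [Nat.factorization_mul c.den_ne_zero hd1, Nat.factorization_mul hnum
      (mul_ne_zero (pow_ne_zero _ hp.ne_zero) hut), Nat.factorization_mul (pow_ne_zero _ hp.ne_zero) hut,
      Finsupp.add_apply, Nat.factorization_pow, Finsupp.smul_apply, hp.factorization, Finsupp.single_apply,
      if_neg hrp.symm, smul_zero, zero_add] at this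
    exact this
  have v3 : ∀ r, r.Prime → r ≠ p → (Nat.card ↥(GF (F ^ m) G)).factorization r = (Q.eval t).natAbs.factorization r :=
    fun r hr hrp => by rw [fact_card hr hrp, hQ m j hm h11, Int.natAbs_natCast]
  have v4 := (fact_eval hl hp hlp Q (Int.natAbs_ne_zero.1 hQ0) (N₀ := N₀) (Dvd.intro_left _ rfl) h13).2
  have v5 := (fact_eval hl hp hlp u (Int.natAbs_ne_zero.1 hu1) (N₀ := N₀) (dvd_mul_of_dvd_right (mul_dvd_mul_right (by
    rw [hsp, mul_assoc]; exact dvd_mul_right _ _) _) _) h13).2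
  have v7 := (fact_eval hl hp hlp P (Int.natAbs_ne_zero.1 hP2) (N₀ := N₀) (dvd_mul_of_dvd_right (mul_dvd_mul_right (by
    rw [hsp]; exact dvd_mul_of_dvd_left (dvd_mul_left _ _) _) _) _) h13).2
  have hPt : (P.eval t).natAbs = Nat.card ↥(GF (F ^ m) (Z0 (X.conj hy hN) A)) := by rw [hP f.d f.e j (f.L.pow _), ← h11]
  have hQt : (Q.eval t).natAbs ≠ 0 := by
    rw [hQ m j hm h11, Int.natAbs_natCast]
    exact fun e => not_dvd_pc' (p := p) (GF (F ^ m) G) (e ▸ dvd_zero p)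
  refine ⟨m, j, i, ⟨χ', h4⟩, h12, h11, (Int.natCast_dvd_natCast.2 ((hN2'.pow_right (N₀.factorization p)).dvd_of_dvd_mul_left (by
    rw [hN₁, Nat.ordProj_mul_ordCompl_eq_self]; exact Dvd.intro _ rfl))).trans h13,
    ⟨h7, fun e => ?_, fun e => ?_, h8, ⟨n', h9, h10⟩, ?_⟩, v7, fun r hr hrp => ?_⟩
  · have := (Nat.prime_dvd_prime_iff_eq hl h7).1 e
    omega
  · have := Nat.le_of_dvd (Nat.pos_of_ne_zero hh0) e
    omega
  · have := v1 l hlp
    have := v3 l hl hlp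
    rw [← hh]
    show _ = _ + (charDegree χ').factorization l
    omega
  · have w1 := v1 r hrp
    have w2 := v3 r hr hrp
    have w3 := hfa t hQt r
    show (Nat.card ↥(GF (F ^ m) G)).factorization r ≤ c.den.factorization r + (charDegree χ').factorization r +
      (P.eval t).natAbs.factorization r + (H.eval t).natAbs.factorization r
    omega

end Ad

open Ad

/-- **The strict inequality** for admissible tori. -/
theorem si' {X : Datum p ρ F G} [Finite ↥(GF F G)] (hq : X.QS) {l : ℕ} {M : Ideal AlgInt} (hM : IsPModular l M)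
    (hlp : l ≠ p) {B : Set (IrrCharacter ↥(GF F G))} {D : Subgroup ↥(GF F G)} (hB : IsPBlock M B)
    (hD : IsDefectGroup l M B D) {y : Y} (hy : y ∈ G) (hN : y⁻¹ * F y ∈ X.NN) {A : Set Y}
    (hA : Adm l (X.conj hy hN) (D.map (GF F G).subtype) A)
    (hlt : (Nat.card ↥(GF F (Z0 (X.conj hy hN) A))).factorization l < (Nat.card D).factorization l)
    {χ : IrrCharacter ↥(GF F G)} (hχ : χ ∈ B) :
    (charDegree (χ : GF F G → ℂ)).factorization l + (Nat.card ↥(GF F (Z0 (X.conj hy hN) A))).factorization l <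
      (Nat.card ↥(GF F G)).factorization l := by
  by_contra hge
  have hp : p.Prime := Fact.out
  have hl := hM.1
  have := Fintype.ofFinite ↥(GF F G)
  obtain ⟨d, e, c, P, H, L, hc, hH, hP1, hP, hv, hf⟩ := frame hq hM hlp hB hD hy hN hA hχ
  have hH1 : ¬ (l : ℤ) ∣ H.eval 1 := fun e => by
    have w2 := hl.factorization_pos_of_dvd (Int.natAbs_ne_zero.2 hH) (Int.natCast_dvd.1 e)
    rw [hP1] at hv
    omega
  obtain ⟨N₂, j₀, hN2, hN2', hAr⟩ := boxA p l d e (bd (X.conj hy hN) + l + Nat.card ↥(GF F G) + c) H hp hl hlp L.d_pos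
    L.e_pos hH1
  obtain ⟨m, j, i, ψ, h1, h2, h3, h4, h5, h6⟩ := hf N₂ j₀ hN2 hN2'
  obtain ⟨hU, z, hz0, hz1, hz2⟩ := core' (X.conj hy hN) hM hB hD hA hχ h4
  have hPt := hP j
  rw [← h2] at hPt
  obtain ⟨s, hs, h7⟩ := boxL ((X.conj hy hN).pow h4.pr.pos) _ d l _ _ M hM hlp
    (pow_ne_zero _ (Nat.cast_ne_zero.2 hp.ne_zero)) (Mg.lq L h4.pr.pos h2) (hAr j h1.le h3)
    (fun r hr => ⟨hr.1, hr.2.2.1, by have := hr.2.1; omega, (by have := hr.2.1; omega : bd (X.conj hy hN) < r)⟩) A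
    (Mg.cZ (X.conj hy hN) A (GF (F ^ m) G) (Nat.card ↥(GF F G)))
    (fun z hz => Z0_le_T (X.conj hy hN) A hz.1)
    (fun r hr => rZ_le_cZ (X.conj hy hN) A _ hr.1 fun e => by
      have := Nat.le_of_dvd Nat.card_pos e
      have := hr.2.1
      omega) ψ (fun r hr => by
      have w1 := h6 r hr.1 hr.2.2.1
      have w4 : (H.eval ((p : ℤ) ^ (e * j))).natAbs.factorization r = 0 :=
        Nat.factorization_eq_zero_of_not_dvd fun e => hr.2.2.2 (Int.natCast_dvd.2 e)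
      have w5 : c.factorization r = 0 := Nat.factorization_eq_zero_of_lt (by have := hr.2.1; omega)
      show _ ≤ _ + (Nat.card ↥(GF (F ^ m) (Z0 (X.conj hy hN) A))).factorization r
      rw [← hPt]
      omega) (fun x hx => lt_of_lt_of_le (by
      show (Nat.card ↥(GF (F ^ m) (Z0 (X.conj hy hN) A))).factorization l < _
      rw [← hPt, h5, hP1]
      exact hlt) (hU x hx)) z hz0 hz1
  exact hz2 s hs h7

end Cfsg.Agent.KM.Si
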