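import Cfsg.Agent.KM.Si.Defs
import Cfsg.Agent.KM.Ht.Lev

/-!
# S4576, the strict inequality: the glue boxes (helper98)

`boxG_of : BoxStep → BoxReg → BoxF → BoxG`, `boxL_of : BoxG → BoxE → BoxL`, `si_of : BoxA → BoxL → SI`.
-/

set_option autoImplicit false
set_option linter.unusedSectionVars false

namespace Cfsg.Agent.KM.Si

open Cfsg Cfsg.Agent.DL Cfsg.Agent.KM.Ht

/-- all auxiliary primes at once, for finite groups -/
def BoxG : Prop :=
  ∀ (K L : Type) [Group K] [Group L] [Finite K] [Finite L] (j : L →* K), Function.Injective j →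
    ∀ (l w n : ℕ) (M : Ideal AlgInt), IsPModular l M → ∀ (π : Finset ℕ) (S : ℕ → Subgroup K) (T : Subgroup K), l ∉ π →
    (∀ a ∈ T, ∀ b ∈ T, a * b = b * a) → (∀ x, x ∈ j.range ↔ ∀ r ∈ π, ∀ s ∈ S r, x * s = s * x) →
    (∀ r ∈ π, r.Prime ∧ 2 ^ n * w < r ∧ n < r ∧ Sw w r K ∧ IsPGroup r (S r) ∧ S r ≤ T ∧
      ∃ n' ≤ n, ∃ U : Fin n' → Subgroup K, (∀ i, ¬ S r ≤ U i) ∧ ∀ s ∈ S r, (∀ i, s ∉ U i) →
        Subgroup.centralizer ({s} : Set K) ≤ Subgroup.centralizer (S r : Set K)) →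
    ∀ A : Subgroup L, IsPGroup l A → A ≤ Subgroup.center L →
    (∀ θ : IrrCharacter L, (∀ r ∈ π, Tt r ((Nat.card (S r)).factorization r) θ) → Tt l ((Nat.card A).factorization l) θ) →
    ∀ ψ : IrrCharacter K, (∀ r ∈ π, Tt r ((Nat.card (S r)).factorization r) ψ) →
    (∀ x, ¬ MemLocalIdeal M (centralChar (ψ : K → ℂ) x) →
      (Nat.card A).factorization l < (Nat.card (Subgroup.centralizer ({x} : Set K))).factorization l) →
    ∀ y, ¬ l ∣ orderOf y → (∀ s ∈ T, y * s = s * y) → ∃ s ∈ T, MemLocalIdeal M (centralChar (ψ : K → ℂ) (y * s))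

/-- the bound for the auxiliary primes -/
noncomputable def bd {p : ℕ} [Fact p.Prime] {k : Type} [Field k] [CharP k p] {Y : Type} [Group Y] {N : Type} [Fintype N]
    [DecidableEq N] {ρ : Y →* GL N k} {F : MulAut Y} {G : Subgroup Y} (X : Datum p ρ F G) : ℕ :=
  2 ^ Nat.card {a // X.Rt a} * Nat.card X.W ^ 2

/-- one level -/
def BoxL : Prop :=
  ∀ {p : ℕ} [Fact p.Prime] {k : Type} [Field k] [CharP k p] {Y : Type} [Group Y] {N : Type} [Fintype N]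
    [DecidableEq N] {ρ : Y →* GL N k} {F : MulAut Y} {G : Subgroup Y} [IsAlgClosed k] (X : Datum p ρ F G)
    [Finite ↥(GF F G)] (q d l : ℕ) (t : ℤ) (π : ℕ → Prop) (M : Ideal AlgInt), IsPModular l M → l ≠ p → t ≠ 0 →
    Lq X q d t → Ar q d l t π → (∀ r, π r → r.Prime ∧ r ≠ p ∧ r ≠ l ∧ bd X < r) →
    ∀ (A : Set Y) (T : Subgroup ↥(GF F G)), (∀ z ∈ T, (z : Y) ∈ X.T) → (∀ r, π r → rZ X A (GF F G) r ≤ T) →
    ∀ ψ : IrrCharacter ↥(GF F G), (∀ r, π r → Tt r ((Nat.card ↥(GF F (Z0 X A))).factorization r) ψ) →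
    (∀ x, ¬ MemLocalIdeal M (centralChar (ψ : GF F G → ℂ) x) → (Nat.card ↥(GF F (Z0 X A))).factorization l <
      (Nat.card (Subgroup.centralizer ({x} : Set ↥(GF F G)))).factorization l) →
    ∀ y, ¬ l ∣ orderOf y → (∀ s ∈ T, y * s = s * y) →
      ∃ s ∈ T, MemLocalIdeal M (centralChar (ψ : GF F G → ℂ) (y * s))

end Cfsg.Agent.KM.Si
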