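import Cfsg.Agent.KM.Si.Defs
import Cfsg.Agent.KM.Ht.R
import Cfsg.Agent.KM.Mu.B
import Cfsg.Agent.S0968
import Cfsg.Agent.S0969
import Cfsg.Agent.S4714
import Cfsg.Agent.H639.Cen
import Cfsg.Agent.H686.CharKit
import Cfsg.Agent.Characters.CCBasic
import Cfsg.Agent.Blocks.DefectCard
import Mathlib.GroupTheory.CosetCover

/-!
# S4576, the strict inequality: `boxReg` and `boxF` (helper83)
-/

set_option autoImplicit false

namespace Cfsg.Agent.KM.Si

open Cfsg Cfsg.Agent.Blocks Cfsg.Agent.Characters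
open scoped ComplexConjugate Pointwise

namespace F83

section Reg

variable {G : Type} [Group G] [Finite G] {p w : ℕ} [hp : Fact p.Prime]

/-- a coset which is covered by the conjugates of a small subgroup -/
theorem mem_of_cover (hG : Sw w p G) (hw : w < p) {E S : Subgroup G} (hE : IsPGroup p E) (hS : IsPGroup p S)
    (hES : Nat.card E ≤ Nat.card S) {x : G} {k : ℕ} (hx : x ^ p ^ k = 1) (hc : ∀ s ∈ S, x * s = s * x)
    (h : ∀ s ∈ S, ∃ g, g⁻¹ * (x * s) * g ∈ E) : x ∈ S := by
  classical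
  have h1 : IsPGroup p (Subgroup.zpowers x) := by
    rintro ⟨_, t, rfl⟩
    refine ⟨k, Subtype.ext ?_⟩
    show (x ^ t) ^ p ^ k = 1
    rw [← zpow_natCast, ← zpow_mul, mul_comm, zpow_mul, zpow_natCast, hx, one_zpow]
  obtain ⟨R, hR⟩ := (h1.to_sup_of_normal_right' hS (Subgroup.zpowers_le.2 (Subgroup.mem_normalizer_fintype
    fun s hs => by rw [hc s hs, mul_inv_cancel_right]; exact hs))).exists_le_sylow
  obtain ⟨Q, hQ⟩ := hE.exists_le_sylow
  obtain ⟨c, hc'⟩ := MulAction.exists_smul_eq G Q R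
  have h2 : ∀ e ∈ E, c * e * c⁻¹ ∈ R := fun e he =>
    hc' ▸ (Subgroup.smul_mem_pointwise_smul e (MulAut.conj c) (Q : Subgroup G) (hQ he) :)
  obtain ⟨hab, hw'⟩ := hG R R.2
  have h3 : ∀ s : S, x * s ∈ R := fun s =>
    hR (mul_mem (Subgroup.mem_sup_left (Subgroup.mem_zpowers x)) (Subgroup.mem_sup_right s.2))
  let W := Subgroup.normalizer ((R : Subgroup G) : Set G) ⧸ (Subgroup.centralizer
      ((R : Subgroup G) : Set G)).subgroupOf (Subgroup.normalizer ((R : Subgroup G) : Set G))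
  let U : W → Subgroup G := fun q => E.comap (MulAut.conj ((q.out : G) * c)⁻¹).toMonoidHom
  have h4 : ∀ s : S, ∃ q : W, x * s ∈ U q := fun s => by
    obtain ⟨g, hg⟩ := h s s.2
    obtain ⟨n, h5, h6⟩ := R.conj_eq_normalizer_conj_of_mem (x * s) (g * c⁻¹) (h3 s) (by
      convert h2 _ hg using 1
      group)
    obtain ⟨z, hz⟩ := QuotientGroup.mk_out_eq_mul ((Subgroup.centralizer
      ((R : Subgroup G) : Set G)).subgroupOf (Subgroup.normalizer ((R : Subgroup G) : Set G))) ⟨n, h5⟩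
    refine ⟨QuotientGroup.mk ⟨n, h5⟩, ?_⟩
    have h7 := Subgroup.mem_subgroupOf.1 z.2 _ ((Subgroup.mem_normalizer_iff''.1 h5 _).1 (h3 s))
    rw [Subgroup.mem_comap, hz]
    show (n * (z : Subgroup.normalizer ((R : Subgroup G) : Set G)) * c : G)⁻¹ * (x * s) *
          (n * (z : Subgroup.normalizer ((R : Subgroup G) : Set G)) * c : G)⁻¹⁻¹ ∈ E
    convert hg using 1
    calc (n * (z : Subgroup.normalizer ((R : Subgroup G) : Set G)) * c : G)⁻¹ * (x * s) *
          (n * (z : Subgroup.normalizer ((R : Subgroup G) : Set G)) * c : G)⁻¹⁻¹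
        = c⁻¹ * (((z : Subgroup.normalizer ((R : Subgroup G) : Set G)) : G)⁻¹ * (n⁻¹ * (x * s) * n *
          (z : Subgroup.normalizer ((R : Subgroup G) : Set G)))) * c := by group
      _ = g⁻¹ * (x * s) * g := by
        rw [h7, ← h6]
        group
  let ι := {q : W // ∃ s : S, x * s ∈ U q}
  choose t ht using fun i : ι => i.2
  have := Fintype.ofFinite ι
  obtain ⟨i, -, -, hi⟩ := Subgroup.exists_index_le_card_of_leftCoset_cover (s := (Finset.univ : Finset ι))
    (H := fun i => (U i.1).subgroupOf S) (g := t) (Set.eq_univ_of_forall fun s => by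
      obtain ⟨q, hq⟩ := h4 s
      refine Set.mem_iUnion₂.2 ⟨⟨q, s, hq⟩, Finset.mem_univ _, ?_⟩
      rw [mem_leftCoset_iff]
      have h5 := mul_mem (inv_mem (ht ⟨q, s, hq⟩)) hq
      rw [show (x * t ⟨q, s, hq⟩)⁻¹ * (x * s) = (t ⟨q, s, hq⟩ : G)⁻¹ * s by group] at h5
      exact Subgroup.mem_subgroupOf.2 h5)
  have h5 : ((U i.1).subgroupOf S).index < p := by
    rw [Finset.card_univ, ← Nat.card_eq_fintype_card] at hi
    exact (hi.trans ((Nat.card_le_card_of_injective _ Subtype.val_injective).trans hw')).trans_lt hw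
  obtain ⟨n, hn⟩ := hS.index ((U i.1).subgroupOf S)
  have h6 : S ≤ U i.1 := by
    rw [← Subgroup.subgroupOf_eq_top, ← Subgroup.index_eq_one, hn]
    rw [hn] at h5
    rcases n with _ | n
    · rfl
    · exact absurd (Nat.le_self_pow n.succ_ne_zero p) (not_le.2 h5)
  have h7 : S = U i.1 := Subgroup.eq_of_le_of_card_ge h6
    ((Nat.card_le_card_of_injective (fun u : U i.1 => (⟨_, u.2⟩ : E)) fun u v e =>
      Subtype.ext ((MulAut.conj _).injective (congrArg Subtype.val e))).trans hES)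
  have h8 := ht i
  rw [← h7] at h8
  exact (mul_mem_cancel_right (t i).2).1 h8

end Reg

section Can

variable {L : Type} [Group L] [Finite L]

theorem fac_eq {r : ℕ} {S : Subgroup L} (hc : S ≤ Subgroup.center L) {θ : IrrCharacter L}
    (h : Tt r ((Nat.card S).factorization r) θ) : (charDegree (θ : L → ℂ)).factorization r = S.index.factorization r := by
  have := Fintype.ofFinite L
  have h1 := Nat.factorization_le_factorization_of_dvd_right (a := r) (H639.charDegree_dvd_index hc θ)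
    (Basic.charDegree_pos θ.2).ne' Subgroup.index_ne_zero_of_finite
  rw [Tt, ← S.card_mul_index, Nat.factorization_mul Nat.card_pos.ne' Subgroup.index_ne_zero_of_finite,
    Finsupp.add_apply] at h
  omega

theorem van {r : ℕ} (hr : r.Prime) {S : Subgroup L} (hS : IsPGroup r S) (hc : S ≤ Subgroup.center L)
    {θ : IrrCharacter L} (h : Tt r ((Nat.card S).factorization r) θ) (g x : L) (hx : IsPPart r g x) (hxS : x ∉ S) :
    (θ : L → ℂ) g = 0 := by
  have : Fact r.Prime := ⟨hr⟩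
  obtain ⟨M, hM⟩ := ExistsModular.exists_isPModular hr
  exact (S0969.result r M hM S hS hc θ (fac_eq hc h)).2 g x hx hxS

/-- the canonical character -/
theorem can {r : ℕ} (hr : r.Prime) {S : Subgroup L} (hS : IsPGroup r S) (hc : S ≤ Subgroup.center L)
    {θ : IrrCharacter L} (h : Tt r ((Nat.card S).factorization r) θ) :
    ∃ a : IrrCharacter L, (∀ q ∈ S, (a : L → ℂ) q = (a : L → ℂ) 1) ∧
      ∀ g, ¬ r ∣ orderOf g → (θ : L → ℂ) g = (a : L → ℂ) g := by
  have : Fact r.Prime := ⟨hr⟩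
  obtain ⟨M, hM⟩ := ExistsModular.exists_isPModular hr
  have := hM.2.1.isPrime
  have hD := (S0969.result r M hM S hS hc θ (fac_eq hc h)).1
  have hG : S ⊔ Subgroup.centralizer (S : Set L) = ⊤ := top_le_iff.1 (le_sup_of_le_right fun g _ s hs =>
    (Subgroup.mem_center_iff.1 (hc hs) g).symm)
  obtain ⟨a, ⟨ha, ha'⟩, -⟩ := (S0968.result r M hM S hS hG _ (Basic.isPBlock_blockOf θ) hD).1
  obtain ⟨ζ, hζ, -⟩ := ((S4714.result r M hM S hS hG _ (Basic.isPBlock_blockOf θ) hD a ha ha').1 θ).1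
    (Basic.mem_blockOf_self θ)
  refine ⟨a, ha', fun g hg => ?_⟩
  have h1 := hζ 1 g hg (Commute.one_left g)
  rwa [CCBasic.irr_apply_one_of_comm (fun u v => Subtype.ext (Subgroup.mem_center_iff.1 (hc v.2) u)) ζ.2,
    Subgroup.coe_one, one_mul, one_mul] at h1

omit [Finite L] in
theorem not_dvd {r r' : ℕ} (hr : r.Prime) (hr' : r'.Prime) (hne : r' ≠ r) {S : Subgroup L} (hS : IsPGroup r S)
    {q : L} (hq : q ∈ S) : (orderOf q).Coprime r' := by
  obtain ⟨k, hk⟩ := hS ⟨q, hq⟩
  exact Nat.Coprime.coprime_dvd_left (orderOf_dvd_of_pow_eq_one (congrArg Subtype.val hk))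
    (Nat.Coprime.pow_left _ ((Nat.coprime_primes hr hr').2 hne.symm))

omit [Finite L] in
theorem tt_of_eq {r n : ℕ} {θ a : IrrCharacter L} (h : Tt r n θ) (e : (θ : L → ℂ) 1 = (a : L → ℂ) 1) : Tt r n a := by
  rwa [Tt, Basic.charDegree_def, ← e]

/-- all primes -/
theorem star (π : Finset ℕ) (S : ℕ → Subgroup L) (hS : ∀ r ∈ π, r.Prime ∧ IsPGroup r (S r) ∧ S r ≤ Subgroup.center L)
    {θ : IrrCharacter L} (h : ∀ r ∈ π, Tt r ((Nat.card (S r)).factorization r) θ) :
    ∃ a : IrrCharacter L, (∀ r ∈ π, ∀ q ∈ S r, (a : L → ℂ) q = (a : L → ℂ) 1) ∧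
      ∀ g, Rg π g → (θ : L → ℂ) g = (a : L → ℂ) g := by
  induction π using Finset.induction_on with
  | empty => exact ⟨θ, fun r hr => absurd hr (Finset.notMem_empty r), fun _ _ => rfl⟩
  | insert r ρ hr ih =>
    obtain ⟨a, ha, ha'⟩ := ih (fun r' h' => hS r' (Finset.mem_insert_of_mem h'))
      fun r' h' => h r' (Finset.mem_insert_of_mem h')
    obtain ⟨h1, h2, h3⟩ := hS r (Finset.mem_insert_self r ρ)
    have h4 : ∀ {n : ℕ}, n.Prime → ¬ n ∣ orderOf (1 : L) := fun hn => by
      rw [orderOf_one]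
      exact hn.not_dvd_one
    obtain ⟨b, hb, hb'⟩ := can h1 h2 h3 (tt_of_eq (h r (Finset.mem_insert_self r ρ))
      (ha' 1 fun r' h' => h4 (hS r' (Finset.mem_insert_of_mem h')).1))
    refine ⟨b, fun r' h' q hq => ?_, fun g hg => (ha' g fun r' h' => hg r' (Finset.mem_insert_of_mem h')).trans
      (hb' g (hg r (Finset.mem_insert_self r ρ)))⟩
    rcases Finset.mem_insert.1 h' with rfl | h''
    · exact hb q hq
    · obtain ⟨h5, h6, -⟩ := hS r' h'
      rw [← hb' 1 (h4 h1), ← ha r' h'' q hq]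
      exact (hb' q ((Nat.Prime.coprime_iff_not_dvd h1).1
        (not_dvd h5 h1 (fun e => hr (e ▸ h'')) h6 hq).symm)).symm

omit [Finite L] in
theorem dvd_mul {r : ℕ} {q w : L} (hc : q ∈ Subgroup.center L) (hq : (orderOf q).Coprime r)
    (h : r ∣ orderOf (q * w)) : r ∣ orderOf w :=
  (hq.symm.dvd_mul_left).1 (h.trans
    (Commute.orderOf_mul_dvd_mul_orderOf (Subgroup.mem_center_iff.1 hc w).symm))

open Classical in
/-- sums over the regular elements -/
theorem sum_rg [Fintype L] (π : Finset ℕ) (S : ℕ → Subgroup L)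
    (hS : ∀ r ∈ π, r.Prime ∧ IsPGroup r (S r) ∧ S r ≤ Subgroup.center L) (F : L → ℂ)
    (h1 : ∀ r ∈ π, ∀ q ∈ S r, ∀ w, F (q * w) = F w) (h2 : ∀ r ∈ π, ∀ w a, IsPPart r w a → a ∉ S r → F w = 0) :
    ∑ w, F w = (∏ r ∈ π, Nat.card (S r) : ℕ) * ∑ w, if Rg π w then F w else 0 := by
  induction π using Finset.induction_on with
  | empty => simp [Rg]
  | insert r ρ hr ih =>
    obtain ⟨h3, h4, h5⟩ := hS r (Finset.mem_insert_self r ρ)
    have : Fact r.Prime := ⟨h3⟩
    rw [ih (fun r' h' => hS r' (Finset.mem_insert_of_mem h')) (fun r' h' => h1 r' (Finset.mem_insert_of_mem h'))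
      fun r' h' => h2 r' (Finset.mem_insert_of_mem h'), Finset.prod_insert hr, Nat.cast_mul, mul_comm (Nat.card (S r) : ℂ),
      mul_assoc, Mu.sum_reg h4 h5 (fun w => if Rg ρ w then F w else 0)]
    · congr 2
      refine Finset.sum_congr rfl fun w _ => ?_
      rw [← ite_and]
      exact if_congr (by simp [Rg]) rfl rfl
    · intro q hq w
      refine if_congr (forall₂_congr fun r' h' => not_congr ?_) (h1 r (Finset.mem_insert_self r ρ) q hq w) rfl
      have h6 := (hS r' (Finset.mem_insert_of_mem h')).1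
      have h7 : r' ≠ r := fun e => hr (e ▸ h')
      refine ⟨dvd_mul (h5 hq) (not_dvd h3 h6 h7 h4 hq), fun h8 =>
        dvd_mul (inv_mem (h5 hq)) (not_dvd h3 h6 h7 h4 (inv_mem hq)) ?_⟩
      rwa [inv_mul_cancel_left]
    · intro w a ha ha'
      rw [h2 r (Finset.mem_insert_self r ρ) w a ha ha', ite_self]

/-- sums of class functions -/
theorem sum_class [Fintype L] {M : Ideal AlgInt} [M.IsPrime] {u : L → ℂ} (hu : IsClassFunction L u)
    (h : ∀ t, MemLocalIdeal M (((Subgroup.centralizer ({t} : Set L)).index : ℂ) * u t)) :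
    MemLocalIdeal M (∑ g, u g) := by
  obtain ⟨T, hT⟩ := ClassSum.exists_reps (G := L)
  have h1 := hT u (fun _ => 1 / 1) hu
  simp only [ClassSum.finsum_conj_div (χ := fun _ : L => (1 : ℂ)) fun _ _ => rfl] at h1
  simp only [Basic.centralChar_def, div_one, mul_one] at h1
  rw [h1]
  exact Local.memLocalIdeal_sum fun t _ => mul_comm (u t) _ ▸ h t

end Can

end F83

open F83

/-- **The `r`-part of an element whose coset does not meet the zeros.** -/
theorem boxReg : BoxReg := by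
  intro H _ _ r w S hr hw hH hS χ hT y hc h0 x' hx'
  have : Fact r.Prime := ⟨hr⟩
  obtain ⟨M, hM⟩ := ExistsModular.exists_isPModular hr
  have := hM.2.1.isPrime
  have hB : IsPBlock M (blockOf M (χ : H → ℂ)) := ⟨χ, rfl⟩
  obtain ⟨g, hg⟩ := S0906.result r M hM _ hB
  obtain ⟨E, hE⟩ : ∃ E, IsDefectGroup r M (blockOf M (χ : H → ℂ)) E := ⟨_, g, hg, default, rfl⟩
  have hEp := Basic.isPGroup_of_isDefectGroup hE
  obtain ⟨x, z, h1, h2, ⟨a, ha⟩, ⟨b, hb⟩, ⟨k, h3⟩, h4⟩ := RegularCount.exists_pPart (p := r) y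
  obtain rfl : x' = x := PPart.isPPart_unique hx' ⟨z, h1, h2, ⟨k, h3⟩, h4⟩
  have h5 : ∀ s ∈ S, Commute x' s := fun s hs => ha ▸ Commute.zpow_left (hc s hs) a
  have h6 : ∀ s ∈ S, Commute z s := fun s hs => hb ▸ Commute.zpow_left (hc s hs) b
  have h7 : x' ^ r ^ k = 1 := h3 ▸ pow_orderOf_eq_one x'
  refine mem_of_cover hH hw hEp hS ?_ h7 h5 fun s hs => ?_
  · obtain ⟨n, hn⟩ := IsPGroup.iff_card.1 hS
    have := Fintype.ofFinite H
    have h9 := H648.HeightForm.defect_add (p := r) _ (Basic.mem_blockOf_self (M := M) χ)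
    rw [Ht.R23.hz hM hB hE (hH E hEp).1 ((hH E hEp).2.trans_lt hw) (Basic.mem_blockOf_self χ)] at h9
    rw [Tt, hn, Nat.factorization_pow_self hr] at hT
    rw [S0908.result r M hM _ hB E hE, hn]
    exact Nat.pow_le_pow_right hr.pos (by omega)
  · by_contra h
    refine h0 s hs (S0924.result r M hM χ _ (x' * s) ⟨z, ?_, h2.mul_left (h6 s hs).symm, ?_, h4⟩ fun D hD hx => h ?_)
    · rw [← h1, mul_assoc, ← (h6 s hs).eq, mul_assoc]
    · obtain ⟨j, hj⟩ := hS ⟨s, hs⟩
      have h9 : (x' * s) ^ r ^ (k + j) = 1 := by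
        rw [(h5 s hs).mul_pow, pow_add, pow_mul, h7, one_pow, one_mul, mul_comm, pow_mul,
          show s ^ r ^ j = 1 from congrArg Subtype.val hj, one_pow]
      obtain ⟨i, -, hi⟩ := (Nat.dvd_prime_pow hr).1 (orderOf_dvd_of_pow_eq_one h9)
      exact ⟨i, hi⟩
    · obtain ⟨c, rfl⟩ := H662.defectGroup_conj hM hB hE hD
      obtain ⟨e, he, h9⟩ := hx
      refine ⟨c, ?_⟩
      rw [← h9, show c⁻¹ * (MulAut.conj c).toMonoidHom e * c = e from by
        show c⁻¹ * (c * e * c⁻¹) * c = e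
        group]
      exact he

/-- **The final congruence.** -/
theorem boxF : BoxF := by
  intro K L _ _ _ _ j hj l M hM π S hl hS ψ s hs hC hψ c hc hφ y hy
  classical
  have := hM.2.1.isPrime
  have := Fintype.ofFinite L
  have := Core.finite_irr (G := L)
  have := Fintype.ofFinite (IrrCharacter L)
  set T := ∏ r ∈ π, Nat.card (S r) with hT
  have hT0 : T ≠ 0 := Finset.prod_ne_zero_iff.2 fun r _ => Nat.card_pos.ne'
  let St : Finset (IrrCharacter L) := Finset.univ.filter fun a => ∀ r ∈ π,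
    (∀ q ∈ S r, (a : L → ℂ) q = (a : L → ℂ) 1) ∧ Tt r ((Nat.card (S r)).factorization r) a
  have hSt : ∀ {a}, a ∈ St → ∀ r ∈ π, (∀ q ∈ S r, (a : L → ℂ) q = (a : L → ℂ) 1) ∧
    Tt r ((Nat.card (S r)).factorization r) a := fun ha => (Finset.mem_filter.1 ha).2
  have hL : (Nat.card L : ℂ) ≠ 0 := Nat.cast_ne_zero.2 Nat.card_pos.ne'
  have hK : (Nat.card K : ℂ) ≠ 0 := Nat.cast_ne_zero.2 Nat.card_pos.ne'
  -- orthogonality
  have h1 : ∀ a ∈ St, ∀ b ∈ St, (T : ℂ) * ∑ g, (if Rg π g then (b : L → ℂ) g * conj ((a : L → ℂ) g) else 0) =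
      if a = b then (Nat.card L : ℂ) else 0 := fun a ha b hb => by
    rw [← sum_rg π S hS (fun g => (b : L → ℂ) g * conj ((a : L → ℂ) g)) (fun r hr q hq w => by
      rw [H686.CharKit.apply_mul_of_eq (Basic.irr_isCharacter a.2) ((hSt ha r hr).1 q hq),
        H686.CharKit.apply_mul_of_eq (Basic.irr_isCharacter b.2) ((hSt hb r hr).1 q hq)]) fun r hr w x hx hx' => by
      rw [van (hS r hr).1 (hS r hr).2.1 (hS r hr).2.2 (hSt hb r hr).2 w x hx hx', zero_mul],
      ← mul_inv_cancel_left₀ hL (∑ _, _), ← Basic.classInner_def]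
    split_ifs with e
    · rw [e, Core.classInner_irr_self b.2, mul_one]
    · rw [Core.classInner_irr_ne b.2 a.2 fun e' => e (Subtype.ext e'.symm), mul_zero]
  -- the expansion
  have h2 : ∑ a ∈ St, (a : L → ℂ) y * ((T : ℂ) * ∑ g, if Rg π g then (ψ : K → ℂ) (s * j g) * conj ((a : L → ℂ) g) else 0) =
      Nat.card L * (ψ : K → ℂ) (s * j y) := by
    have h3 : ∀ a : IrrCharacter L, (∑ g, if Rg π g then (ψ : K → ℂ) (s * j g) * conj ((a : L → ℂ) g) else 0) =
        ∑ θ, c θ * ∑ g, if Rg π g then (θ : L → ℂ) g * conj ((a : L → ℂ) g) else 0 := fun a => by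
      simp only [Finset.mul_sum]
      rw [Finset.sum_comm]
      refine Finset.sum_congr rfl fun g _ => ?_
      split_ifs with hg
      · rw [hφ g hg, finsum_eq_sum_of_fintype, Finset.sum_mul]
        exact Finset.sum_congr rfl fun θ _ => mul_assoc _ _ _
      · simp
    simp only [h3]
    rw [hφ y hy, finsum_eq_sum_of_fintype, Finset.mul_sum,
      Finset.sum_congr rfl fun a _ => by rw [Finset.mul_sum, Finset.mul_sum], Finset.sum_comm]
    refine Finset.sum_congr rfl fun θ _ => ?_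
    by_cases h0 : c θ = 0
    · simp [h0]
    obtain ⟨b, hb, hb'⟩ := star π S hS (hc θ h0)
    have hb1 : b ∈ St := Finset.mem_filter.2 ⟨Finset.mem_univ _, fun r hr => ⟨hb r hr, tt_of_eq (hc θ h0 r hr)
      (hb' 1 fun r' h' => by rw [orderOf_one]; exact (hS r' h').1.not_dvd_one)⟩⟩
    have h4 : ∀ a ∈ St, (a : L → ℂ) y * ((T : ℂ) * (c θ * ∑ g, if Rg π g then (θ : L → ℂ) g * conj ((a : L → ℂ) g) else 0)) =
        if a = b then c θ * (Nat.card L * (a : L → ℂ) y) else 0 := fun a ha => by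
      rw [Finset.sum_congr rfl fun g _ => show (if Rg π g then (θ : L → ℂ) g * conj ((a : L → ℂ) g) else 0) =
        if Rg π g then (b : L → ℂ) g * conj ((a : L → ℂ) g) else 0 from if_ctx_congr Iff.rfl
          (fun hg => by rw [hb' g hg]) fun _ => rfl, mul_left_comm (T : ℂ), h1 a ha b hb1]
      split_ifs <;> ring
    rw [Finset.sum_congr rfl h4, Finset.sum_ite_eq', if_pos hb1, hb' y hy]
    ring
  -- centralizers
  have h3 : ∀ g, Rg π g → Nat.card (Subgroup.centralizer ({s * j g} : Set K)) =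
      Nat.card (Subgroup.centralizer ({g} : Set L)) := fun g hg => by
    rw [← Subgroup.card_map_of_injective hj]
    congr 2
    ext x
    rw [Subgroup.mem_centralizer_singleton_iff]
    constructor
    · intro hx
      obtain ⟨h, rfl⟩ := hC g hg x hx
      refine Subgroup.mem_map_of_mem j (Subgroup.mem_centralizer_singleton_iff.2 (hj (mul_left_cancel (a := s) ?_)))
      rw [map_mul, map_mul, ← mul_assoc, hs h, mul_assoc, hx, mul_assoc]
    · rintro ⟨h, hh, rfl⟩
      rw [← mul_assoc, ← hs h, mul_assoc, mul_assoc, ← map_mul, ← map_mul, Subgroup.mem_centralizer_singleton_iff.1 hh]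
  have hψ1 := Basic.irr_one_ne_zero ψ.2
  have h4 : ∀ g, Rg π g → centralChar (ψ : K → ℂ) (s * j g) = ((Subgroup.centralizer ({g} : Set L)).index : ℂ) *
      (Nat.card K / ((ψ : K → ℂ) 1 * Nat.card L) * (ψ : K → ℂ) (s * j g)) := fun g hg => by
    have e1 := congrArg (Nat.cast : ℕ → ℂ) (Subgroup.centralizer ({s * j g} : Set K)).card_mul_index
    have e2 := congrArg (Nat.cast : ℕ → ℂ) (Subgroup.centralizer ({g} : Set L)).card_mul_index
    rw [h3 g hg] at e1
    rw [Nat.cast_mul] at e1 e2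
    have e3 : ((Subgroup.centralizer ({g} : Set L)).index : ℂ) ≠ 0 := Nat.cast_ne_zero.2 Subgroup.index_ne_zero_of_finite
    have e4 : (Nat.card (Subgroup.centralizer ({g} : Set L)) : ℂ) ≠ 0 := Nat.cast_ne_zero.2 Nat.card_pos.ne'
    rw [Basic.centralChar_def, ← e1, ← e2]
    field_simp
  have h5 : ∀ (a : IrrCharacter L) (g : L) (n : ℕ), (n : ℂ) * (a : L → ℂ) g / Nat.card (Subgroup.centralizer ({g} : Set L)) =
      centralChar (a : L → ℂ) g * (((charDegree (a : L → ℂ) * n : ℕ) : ℂ) / Nat.card L) := fun a g n => by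
    have e2 := congrArg (Nat.cast : ℕ → ℂ) (Subgroup.centralizer ({g} : Set L)).card_mul_index
    rw [Nat.cast_mul] at e2
    have e3 : ((Subgroup.centralizer ({g} : Set L)).index : ℂ) ≠ 0 := Nat.cast_ne_zero.2 Subgroup.index_ne_zero_of_finite
    have e4 : (Nat.card (Subgroup.centralizer ({g} : Set L)) : ℂ) ≠ 0 := Nat.cast_ne_zero.2 Nat.card_pos.ne'
    have e5 := Basic.irr_one_ne_zero a.2
    rw [Basic.centralChar_def, Nat.cast_mul, ← Basic.irr_one_eq_charDegree a.2, ← e2]
    field_simp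
  have h6 : ∀ (a : IrrCharacter L) (n : ℕ), n ≠ 0 → (charDegree (a : L → ℂ) * n).factorization l =
      (charDegree (a : L → ℂ)).factorization l + n.factorization l := fun a n hn => by
    rw [Nat.factorization_mul (Basic.charDegree_pos a.2).ne' hn, Finsupp.add_apply]
  have h7 : centralChar (ψ : K → ℂ) (s * j y) = ∑ a ∈ St,
      ((T : ℂ) * (a : L → ℂ) y / Nat.card (Subgroup.centralizer ({y} : Set L))) *
      ∑ g, Nat.card K / ((ψ : K → ℂ) 1 * Nat.card L) *
        if Rg π g then (ψ : K → ℂ) (s * j g) * conj ((a : L → ℂ) g) else 0 := by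
    have e2 := congrArg (Nat.cast : ℕ → ℂ) (Subgroup.centralizer ({y} : Set L)).card_mul_index
    rw [Nat.cast_mul] at e2
    have e4 : (Nat.card (Subgroup.centralizer ({y} : Set L)) : ℂ) ≠ 0 := Nat.cast_ne_zero.2 Nat.card_pos.ne'
    rw [h4 y hy, ← mul_right_inj' e4, ← mul_assoc, e2, mul_left_comm, ← h2, Finset.mul_sum, Finset.mul_sum]
    refine Finset.sum_congr rfl fun a _ => ?_
    rw [← Finset.mul_sum]
    field_simp
  rw [h7]
  refine Local.memLocalIdeal_sum fun a ha => Local.memLocalIdeal_mul_left ?_ (sum_class (fun g h => ?_) fun t => ?_)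
  · rw [h5]
    refine Local.memLocalRing_mul (Local.memLocalRing_of_isIntegral (Central.isIntegral_centralChar a.2 y))
      (DefectCard.memLocalRing_natDiv hM Nat.card_pos.ne' ?_)
    have e1 := Nat.factorization_le_factorization_of_dvd_right (a := l)
      (Finset.dvd_prod_of_mem (fun r => Nat.card (S r)) hl) Nat.card_pos.ne' hT0
    have e2 := (hSt ha l hl).2
    rw [Tt] at e2
    rw [← hT] at e1
    rw [h6 a T hT0]
    omega
  · have e1 : orderOf (h * g * h⁻¹) = orderOf g := (MulAut.conj h).orderOf_eq g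
    have e2 : s * j (h * g * h⁻¹) = j h * (s * j g) * (j h)⁻¹ := by
      rw [map_mul, map_mul, map_inv, ← mul_assoc, ← mul_assoc, hs h, mul_assoc (j h)]
    exact congrArg (_ * ·) (if_congr (by rw [Rg, Rg, e1]) (by rw [e2, Basic.irr_conj ψ.2, Basic.irr_conj a.2]) rfl)
  · split_ifs with ht
    swap
    · rw [mul_zero, mul_zero]
      exact Local.memLocalIdeal_zero
    rw [← mul_assoc (_ / _), ← mul_assoc, ← h4 t ht]
    by_cases e : MemLocalIdeal M (centralChar (ψ : K → ℂ) (s * j t))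
    · exact Local.memLocalIdeal_mul_right e (Local.memLocalRing_of_isIntegral
        (DefectCard.isIntegral_conj (DefectCard.isIntegral_irr a.2 t)))
    · refine Local.memLocalIdeal_mul_left (Local.memLocalRing_of_isIntegral (Central.isIntegral_centralChar ψ.2 _)) ?_
      have e1 := hψ _ e
      have e2 := (hSt ha l hl).2
      have e3 : Subgroup.centralizer ({t⁻¹} : Set L) = Subgroup.centralizer ({t} : Set L) := by
        ext x
        simp only [Subgroup.mem_centralizer_singleton_iff]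
        exact Commute.inv_right_iff
      have e4 := h5 a t⁻¹ (Nat.card (Subgroup.centralizer ({t⁻¹} : Set L)))
      rw [mul_div_cancel_left₀ _ (Nat.cast_ne_zero.2 Nat.card_pos.ne')] at e4
      rw [← Core.isCharacter_apply_inv (Basic.irr_isCharacter a.2), e4]
      refine Local.memLocalIdeal_mul_left (Local.memLocalRing_of_isIntegral (Central.isIntegral_centralChar a.2 _))
        (DefectCard.memLocalIdeal_natDiv hM Nat.card_pos.ne' ?_)
      rw [Tt] at e2
      rw [h3 t ht] at e1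
      rw [h6 a _ Nat.card_pos.ne', e3]
      omega

end Cfsg.Agent.KM.Si
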