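import Cfsg.Agent.KM.Si.Defs
import Cfsg.Agent.Characters.Brauer
import Cfsg.Agent.Characters.Linear
import Cfsg.Agent.Blocks.Central
import Cfsg.Agent.Blocks.PPart
import Cfsg.Agent.Blocks.ExistsModular
import Mathlib.GroupTheory.FiniteAbelian.Duality
import Mathlib.GroupTheory.CosetCover

/-!
# S4576, the strict inequality: analytic lemmas for `boxStep` (helper98)
-/

set_option autoImplicit false
set_option linter.unusedSectionVars false

namespace Cfsg.Agent.KM.Si.St

open Cfsg Cfsg.Agent.Blocks Cfsg.Agent.Blocks.Local Cfsg.Agent.Characters Cfsg.Agent.Characters.Brauer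
open scoped ComplexConjugate Pointwise

/-- a generalized character with values in the ideal and a small norm -/
theorem zero_of_small {A : Type} [Group A] [Fintype A] {q : ℕ} {M : Ideal AlgInt} (hM : IsPModular q M)
    (hq : ¬ q ∣ Nat.card A) {Y : A → ℂ} (hY : IsGeneralizedCharacter A Y) (h1 : ∀ s, MemLocalIdeal M (Y s))
    (h2 : ∑ s, Complex.normSq (Y s) < (q : ℝ) ^ 2 * Nat.card A) : Y = 0 := by
  classical
  have := isPrime_of_isPModular hM
  have := Core.finite_irr (G := A)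
  have := Fintype.ofFinite (IrrCharacter A)
  obtain ⟨m, hm⟩ := Core.isGeneralizedCharacter_iff.1 hY
  have h3 : ∀ χ, (q : ℤ) ∣ m χ := fun χ => by
    rw [← memLocalIdeal_intCast_iff hM, ← Core.classInner_sum_zsmul_irr m χ, ← hm, Core.classInner_def]
    refine memLocalIdeal_mul_left (memLocalRing_inv_natCast hM hq) (memLocalIdeal_sum fun s _ => ?_)
    exact memLocalIdeal_mul_right (h1 s) (memLocalRing_of_isIntegral (Central.isIntegral_irr (Core.isIrr_conj χ.2) s))
  have h4 : ∑ χ, ((m χ : ℝ)) ^ 2 = (Nat.card A : ℝ)⁻¹ * ∑ s, Complex.normSq (Y s) := by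
    have e := Core.classInner_sum_smul_sum_smul (fun χ => (m χ : ℂ)) (fun χ : IrrCharacter A => (m χ : ℂ))
    simp only [Int.cast_smul_eq_zsmul] at e
    rw [← hm, Core.classInner_self_eq_ofReal] at e
    apply Complex.ofReal_injective
    rw [e]
    push_cast
    exact Finset.sum_congr rfl fun χ _ => by rw [map_intCast, sq]
  have h0 : (0 : ℝ) < Nat.card A := Nat.cast_pos.2 Nat.card_pos
  have h5 : ∑ χ, ((m χ : ℝ)) ^ 2 < (q : ℝ) ^ 2 := by
    rw [h4, inv_mul_lt_iff₀ h0, mul_comm]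
    exact h2
  have h6 : ∀ χ, m χ = 0 := fun χ => by
    by_contra h
    have h7 : ((q : ℤ)) ^ 2 ≤ m χ ^ 2 := by
      rw [sq_le_sq]
      exact Int.le_of_dvd (abs_pos.2 h) ((abs_dvd_abs _ _).2 (h3 χ))
    have h8 : (m χ : ℝ) ^ 2 ≤ ∑ χ, ((m χ : ℝ)) ^ 2 :=
      Finset.single_le_sum (f := fun χ => (m χ : ℝ) ^ 2) (fun _ _ => sq_nonneg _) (Finset.mem_univ χ)
    have h9 : (q : ℝ) ^ 2 ≤ (m χ : ℝ) ^ 2 := by exact_mod_cast h7
    linarith
  rw [hm]
  exact Finset.sum_eq_zero fun χ _ => by rw [h6, zero_smul]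

/-- a generalized character which vanishes on the subgroups `U i` -/
theorem exists_delta {A : Type} [CommGroup A] [Finite A] {r n : ℕ} (hr : r.Prime) (hA : IsPGroup r A) (hn : n < r)
    (U : Fin n → Subgroup A) (hU : ∀ i, U i ≠ ⊤) : ∃ δ : A → ℂ, IsGeneralizedCharacter A δ ∧ (∀ s, IsIntegral ℤ (δ s)) ∧
      (∀ s i, s ∈ U i → δ s = 0) ∧ (∀ s, Complex.normSq (δ s) ≤ (2 ^ n) ^ 2) ∧ ∃ s, δ s ≠ 0 := by
  classical
  have := Fact.mk hr
  have h1 : ∀ i, ∃ α : A →* ℂˣ, (∀ s ∈ U i, α s = 1) ∧ α.ker ≠ ⊤ := fun i => by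
    obtain ⟨a, ha⟩ : ∃ a, a ∉ U i := by
      by_contra h
      exact hU i (eq_top_iff.2 fun a _ => by_contra fun e => h ⟨a, e⟩)
    have : NeZero (Monoid.exponent (A ⧸ U i)) := ⟨Monoid.exponent_ne_zero_of_finite⟩
    obtain ⟨φ, hφ⟩ := CommGroup.exists_apply_ne_one_of_hasEnoughRootsOfUnity (A ⧸ U i) ℂ (a := (a : A ⧸ U i))
      (fun e => ha ((QuotientGroup.eq_one_iff a).1 e))
    refine ⟨φ.comp (QuotientGroup.mk' _), fun s hs => ?_, fun e => hφ ?_⟩
    · show φ (s : A ⧸ U i) = 1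
      rw [(QuotientGroup.eq_one_iff s).2 hs, map_one]
    · exact (show a ∈ (φ.comp (QuotientGroup.mk' _)).ker from e ▸ Subgroup.mem_top a)
  choose α hα1 hα2 using h1
  have hc : ∀ i, IsIrrCharacter A fun s => (α i s : ℂ) := fun i => Linear.isIrrCharacter_hom _
  refine ⟨fun s => ∏ i, (1 - (α i s : ℂ)), ?_, fun s => ?_, fun s i hs => ?_, fun s => ?_, ?_⟩
  · have := Finset.prod_induction (s := Finset.univ) (fun i : Fin n => (1 - fun s => (α i s : ℂ) : A → ℂ))
      (IsGeneralizedCharacter A) (fun _ _ => isGeneralizedCharacter_mul)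
      (isGeneralizedCharacter_of_isCharacter Core.isCharacter_one) fun i _ =>
        isGeneralizedCharacter_sub (isGeneralizedCharacter_of_isCharacter Core.isCharacter_one)
          (isGeneralizedCharacter_of_isCharacter (Core.isIrr_isCharacter (hc i)))
    convert this using 1
    funext s
    simp
  · exact IsIntegral.prod _ fun i _ => isIntegral_one.sub (Central.isIntegral_irr (hc i) s)
  · exact Finset.prod_eq_zero (Finset.mem_univ i) (by rw [hα1 i s hs]; simp)
  · rw [Complex.normSq_eq_norm_sq, norm_prod]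
    refine pow_le_pow_left₀ (Finset.prod_nonneg fun _ _ => norm_nonneg _) ?_ 2
    refine (Finset.prod_le_prod (g := fun _ => 2) (fun _ _ => norm_nonneg _) fun i _ => ?_).trans (by simp)
    have h2 : ‖(α i s : ℂ)‖ = 1 := Complex.norm_eq_one_of_pow_eq_one (n := orderOf s)
      (by rw [← Units.val_pow_eq_pow_val, ← map_pow, pow_orderOf_eq_one, map_one, Units.val_one])
      (orderOf_pos s).ne'
    refine (norm_sub_le _ _).trans ?_
    rw [h2, norm_one]
    norm_num
  · by_contra h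
    have h2 : ⋃ i ∈ (Finset.univ : Finset (Fin n)), (1 : A) • ((α i).ker : Set A) = Set.univ := by
      refine Set.eq_univ_of_forall fun s => ?_
      obtain ⟨i, -, hi⟩ := Finset.prod_eq_zero_iff.1 (by_contra fun e => h ⟨s, e⟩ : ∏ i, (1 - (α i s : ℂ)) = 0)
      simp only [Set.mem_iUnion, one_smul]
      exact ⟨i, Finset.mem_univ i, Units.val_eq_one.1 (sub_eq_zero.1 hi).symm⟩
    have h3 := Subgroup.one_le_sum_inv_index_of_leftCoset_cover h2
    have h0 : (0 : ℚ) < r := Nat.cast_pos.2 hr.pos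
    have h4 : ∀ i, (((α i).ker.index : ℚ))⁻¹ ≤ (r : ℚ)⁻¹ := fun i => by
      obtain ⟨a, ha⟩ := hA.index (α i).ker
      refine inv_anti₀ h0 (Nat.cast_le.2 (Nat.le_of_dvd (Nat.pos_of_ne_zero Subgroup.index_ne_zero_of_finite) ?_))
      rw [ha]
      exact dvd_pow_self r fun e => hα2 i (Subgroup.index_eq_one.1 (by rw [ha, e, pow_zero]))
    have h5 := h3.trans (Finset.sum_le_card_nsmul _ _ _ fun i _ => h4 i)
    rw [Finset.card_univ, Fintype.card_fin, nsmul_eq_mul, ← div_eq_mul_inv, one_le_div h0, Nat.cast_le] at h5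
    omega

open scoped Classical in
/-- **The `δ` trick.** -/
theorem exists_zero {A : Type} [CommGroup A] [Fintype A] {r n q w : ℕ} (hr : r.Prime) (hA : IsPGroup r A) (hn : n < r)
    (U : Fin n → Subgroup A) (hU : ∀ i, U i ≠ ⊤) {M : Ideal AlgInt} (hM : IsPModular q M) (hqr : q ≠ r)
    (hq : 2 ^ n * w < q) (R : A → Prop) (hR : ∀ s, (∀ i, s ∉ U i) → R s) {X : A → ℂ} (hX : IsCharacter A X)
    (h1 : ∀ s, R s → MemLocalIdeal M (X s))
    (h2 : ∑ s with R s, Complex.normSq (X s) ≤ (w : ℝ) ^ 2 * Nat.card A) : ∃ s, R s ∧ X s = 0 := by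
  have := isPrime_of_isPModular hM
  have := Fact.mk hr
  obtain ⟨δ, d1, d2, d3, d4, s, d5⟩ := exists_delta hr hA hn U hU
  have h3 : ∀ s, ¬ R s → δ s = 0 := fun s hs => by
    by_contra h
    exact hs (hR s fun i hi => h (d3 s i hi))
  have h4 : δ * X = 0 := by
    refine zero_of_small hM (fun e => ?_) (isGeneralizedCharacter_mul d1 (isGeneralizedCharacter_of_isCharacter hX))
      (fun s => ?_) ?_
    · obtain ⟨a, ha⟩ := IsPGroup.iff_card.1 hA
      rw [ha] at e
      exact hqr ((Nat.prime_dvd_prime_iff_eq hM.1 hr).1 (hM.1.dvd_of_dvd_pow e))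
    · by_cases hs : R s
      · exact memLocalIdeal_mul_left (memLocalRing_of_isIntegral (d2 s)) (h1 s hs)
      · rw [Pi.mul_apply, h3 s hs, zero_mul]
        exact memLocalIdeal_zero
    · have h0 : (0 : ℝ) < Nat.card A := Nat.cast_pos.2 Nat.card_pos
      calc ∑ s, Complex.normSq ((δ * X) s) ≤ ∑ s, if R s then (2 ^ n) ^ 2 * Complex.normSq (X s) else 0 := by
            refine Finset.sum_le_sum fun s _ => ?_
            rw [Pi.mul_apply, map_mul]
            split_ifs with hs
            · exact mul_le_mul_of_nonneg_right (d4 s) (Complex.normSq_nonneg _)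
            · rw [h3 s hs, map_zero, zero_mul]
        _ = (2 ^ n) ^ 2 * ∑ s with R s, Complex.normSq (X s) := by rw [← Finset.sum_filter, Finset.mul_sum]
        _ ≤ (2 ^ n) ^ 2 * ((w : ℝ) ^ 2 * Nat.card A) := mul_le_mul_of_nonneg_left h2 (by positivity)
        _ < (q : ℝ) ^ 2 * Nat.card A := by
            rw [← mul_assoc, ← mul_pow]
            refine mul_lt_mul_of_pos_right (pow_lt_pow_left₀ ?_ (by positivity) two_ne_zero) h0
            exact_mod_cast hq
  exact ⟨s, by_contra fun e => d5 (h3 s e), (mul_eq_zero.1 (congrFun h4 s)).resolve_left d5⟩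

theorem fiber_bound {ι X : Type} [Fintype ι] [Fintype X] [DecidableEq X] (φ : ι → X) (f : X → ℝ) (hf : ∀ x, 0 ≤ f x)
    {c : ℕ} (h : ∀ x, Nat.card {i // φ i = x} ≤ c) : ∑ i, f (φ i) ≤ c * ∑ x, f x := by
  rw [← Finset.sum_fiberwise Finset.univ φ, Finset.mul_sum]
  refine Finset.sum_le_sum fun x _ => ?_
  rw [Finset.sum_congr rfl (g := fun _ => f x) fun i hi => by rw [(Finset.mem_filter.1 hi).2], Finset.sum_const,
    nsmul_eq_mul]
  refine mul_le_mul_of_nonneg_right (Nat.cast_le.2 ?_) (hf x)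
  rw [← Fintype.card_subtype, ← Nat.card_eq_fintype_card]
  exact h x

variable {K : Type} [Group K] [Fintype K] {r : ℕ} {S : Subgroup K}

/-- `s` has the same centraliser as `S` -/
def Reg (S : Subgroup K) (s : K) : Prop := Subgroup.centralizer ({s} : Set K) ≤ Subgroup.centralizer (S : Set K)

/-- the central `r`-elements of the centraliser of `S` lie in `S` -/
def Mx (r : ℕ) (S : Subgroup K) : Prop :=
  ∀ z : K, (∀ g ∈ Subgroup.centralizer (S : Set K), g * z = z * g) → (∃ j, z ^ r ^ j = 1) → z ∈ S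

/-- an element which conjugates a regular element into `S` normalises `S` -/
theorem mem_normalizer (hS : IsPGroup r S) (hZ : Mx r S) {s k : K}
    (hR : Reg S s) (hk : k * s * k⁻¹ ∈ S) : k ∈ Subgroup.normalizer (S : Set K) := by
  have h1 : k⁻¹ ∈ Subgroup.normalizer (Subgroup.centralizer (S : Set K) : Set K) :=
    Subgroup.mem_normalizer_fintype fun g hg => hR (Subgroup.mem_centralizer_singleton_iff.2 (by
      calc k⁻¹ * g * k⁻¹⁻¹ * s = k⁻¹ * (g * (k * s * k⁻¹)) * k := by group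
        _ = _ := by rw [← hg _ hk]; group))
  refine Subgroup.mem_normalizer_fintype fun t ht => hZ _ (fun g hg => ?_) ?_
  · have h2 := (Subgroup.mem_normalizer_iff.1 h1 g).1 hg t ht
    calc g * (k * t * k⁻¹) = k * (k⁻¹ * g * k⁻¹⁻¹ * t) * k⁻¹ := by group
      _ = _ := by rw [← h2]; group
  · obtain ⟨j, hj⟩ := hS ⟨t, ht⟩
    exact ⟨j, by rw [conj_pow, show t ^ r ^ j = 1 from congrArg Subtype.val hj, mul_one, mul_inv_cancel]⟩

theorem isPPart_mul [Fact r.Prime] (hS : IsPGroup r S) (s : S) {g : K} (hg : g ∈ Subgroup.centralizer (S : Set K))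
    (ho : ¬ r ∣ orderOf g) : IsPPart r (s * g) (s : K) :=
  PPart.isPPart_mul (hg s s.2) (by rw [Subgroup.orderOf_coe]; exact IsPGroup.iff_orderOf.1 hS s) ho

open scoped Classical in
/-- **The norm on the regular sections.** -/
theorem norm_le [Fact r.Prime] (hS : IsPGroup r S) (hZ : Mx r S) {L : Subgroup K}
    (hL : Subgroup.centralizer (S : Set K) = L) {ψ : K → ℂ} (hψ : IsIrrCharacter K ψ) :
    ∑ s ∈ Finset.univ.filter fun s : S => Reg S s, ∑ g ∈ Finset.univ.filter fun g : L => ¬ r ∣ orderOf g,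
      Complex.normSq (ψ ((s : K) * (g : K))) ≤
      Nat.card (Subgroup.normalizer (S : Set K)) := by
  subst hL
  have h1 := fiber_bound (ι := K × {s : S // Reg S s} × {g : Subgroup.centralizer (S : Set K) // ¬ r ∣ orderOf g})
    (fun i => i.1 * (i.2.1.1 * i.2.2.1) * i.1⁻¹) (fun x => Complex.normSq (ψ x)) (fun _ => Complex.normSq_nonneg _)
    (c := Nat.card (Subgroup.normalizer (S : Set K))) fun x => by
      have hp : ∀ i : {i : K × {s : S // Reg S s} × {g : Subgroup.centralizer (S : Set K) // ¬ r ∣ orderOf g} //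
          i.1 * (i.2.1.1 * i.2.2.1) * i.1⁻¹ = x}, IsPPart r x (i.1.1 * i.1.2.1.1 * i.1.1⁻¹) := fun i => by
        have := PPart.isPPart_conj (isPPart_mul hS i.1.2.1.1 i.1.2.2.1.2
          (by rw [Subgroup.orderOf_coe]; exact i.1.2.2.2)) i.1.1
        rwa [i.2] at this
      rcases isEmpty_or_nonempty _ with h | ⟨⟨i₀⟩⟩
      · rw [@Nat.card_of_isEmpty _ h]
        exact Nat.zero_le _
      refine Nat.card_le_card_of_injective (fun i => ⟨i₀.1.1⁻¹ * i.1.1, mem_normalizer hS hZ i.1.2.1.2 (by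
        have := PPart.isPPart_unique (hp i) (hp i₀)
        rw [show i₀.1.1⁻¹ * i.1.1 * i.1.2.1.1 * (i₀.1.1⁻¹ * i.1.1)⁻¹ = i₀.1.1⁻¹ * (i.1.1 * i.1.2.1.1 * i.1.1⁻¹) * i₀.1.1 by
          group, this, show i₀.1.1⁻¹ * (i₀.1.1 * i₀.1.2.1.1 * i₀.1.1⁻¹) * i₀.1.1 = i₀.1.2.1.1 by group]
        exact i₀.1.2.1.1.2)⟩) fun i j e => ?_
      have e1 : i.1.1 = j.1.1 := mul_left_cancel (congrArg Subtype.val e)
      have e2 := PPart.isPPart_unique (hp i) (hp j)
      have e3 := i.2.trans j.2.symm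
      rw [e1, mul_left_inj, mul_right_inj] at e2 e3
      rw [e2, mul_right_inj] at e3
      exact Subtype.ext (Prod.ext e1 (Prod.ext (Subtype.ext (Subtype.ext e2)) (Subtype.ext (Subtype.ext e3))))
  have h0 : (0 : ℝ) < Nat.card K := Nat.cast_pos.2 Nat.card_pos
  have h2 : ∑ x, Complex.normSq (ψ x) = Nat.card K := by
    have := Core.classInner_self_eq_ofReal ψ
    rw [Core.classInner_irr_self hψ, eq_comm, Complex.ofReal_eq_one, inv_mul_eq_one₀ h0.ne'] at this
    exact this.symm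
  simp only [Fintype.sum_prod_type, Basic.irr_conj hψ] at h1
  rw [h2, Finset.sum_const, Finset.card_univ, nsmul_eq_mul, ← Nat.card_eq_fintype_card, mul_comm] at h1
  refine le_of_eq_of_le ?_ (le_of_mul_le_mul_right h1 h0)
  rw [Finset.sum_subtype (p := fun s : S => Reg S s) _ (fun _ => Finset.mem_filter_univ _)]
  exact Finset.sum_congr rfl fun s _ => Finset.sum_subtype _ (fun _ => Finset.mem_filter_univ _) _

/-- a family on which the normaliser is transitive and the centraliser is trivial -/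
theorem card_le_relIndex {ι : Type} (f : Subgroup.normalizer (S : Set K) → ι)
    (h : ∀ a b, ((a⁻¹ * b : Subgroup.normalizer (S : Set K)) : K) ∈ Subgroup.centralizer (S : Set K) → f a = f b)
    {T : Set ι} (hT : T ⊆ Set.range f) :
    T.ncard ≤ (Subgroup.centralizer (S : Set K)).relIndex (Subgroup.normalizer (S : Set K)) := by
  let f' : Subgroup.normalizer (S : Set K) ⧸ (Subgroup.centralizer (S : Set K)).subgroupOf _ → ι :=
    Quotient.lift f fun a b e => h a b (Subgroup.mem_subgroupOf.1 (QuotientGroup.leftRel_apply.1 e))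
  have h1 : T ⊆ f' '' Set.univ := fun t ht => by
    obtain ⟨a, rfl⟩ := hT ht
    exact ⟨a, trivial, rfl⟩
  refine (Set.ncard_le_ncard h1 (Set.finite_univ.image _)).trans ((Set.ncard_image_le Set.finite_univ).trans ?_)
  rw [Set.ncard_univ]
  rfl

end Cfsg.Agent.KM.Si.St
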