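import Cfsg.Agent.KM.Si.StepA
import Cfsg.Agent.KM.Si.F
import Cfsg.Agent.KM.Ht.BlkA
import Cfsg.Agent.KM.Mu.C
import Cfsg.Agent.S0917
import Cfsg.Agent.S0923
import Cfsg.Agent.Blocks.CentralizerSum
import Cfsg.Agent.H622.Over

/-!
# S4576, the strict inequality: the blocks of `C(S)` which induce the block of `ψ` (helper98)
-/

set_option autoImplicit false
set_option linter.unusedSectionVars false

namespace Cfsg.Agent.KM.Si.St

open Cfsg Cfsg.Agent.Blocks Cfsg.Agent.Blocks.Local Cfsg.Agent.Blocks.Basic Cfsg.Agent.Characters Cfsg.Agent.KM.Ht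
open scoped ComplexConjugate

variable {K : Type} [Group K] [Fintype K] {r w : ℕ} [hr : Fact r.Prime] {M : Ideal AlgInt} {S L : Subgroup K}
  {ψ : IrrCharacter K}

/-- the characters of `L` whose blocks induce the block of `ψ` -/
def Th (M : Ideal AlgInt) (L : Subgroup K) (ψ : IrrCharacter K) : Set (IrrCharacter L) :=
  {ξ | IsInducedBlock M L (blockOf M (ξ : L → ℂ)) (blockOf M (ψ : K → ℂ))}

theorem Th.of_mem (hM : IsPModular r M) {ξ θ : IrrCharacter L} (h : ξ ∈ Th M L ψ) (hθ : θ ∈ blockOf M (ξ : L → ℂ)) :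
    θ ∈ Th M L ψ := by
  have := isPrime_of_isPModular hM
  show IsInducedBlock M L _ _
  rw [← isPBlock_eq_blockOf (isPBlock_blockOf ξ) hθ]
  exact h

open scoped Classical in
/-- the second main theorem -/
theorem expand (hM : IsPModular r M) {s : K} (hs : ∃ k, orderOf s = r ^ k) (hL : Subgroup.centralizer ({s} : Set K) = L)
    [Fintype (IrrCharacter L)] (c : IrrCharacter L → ℂ)
    (hc : ∀ g : L, (ψ : K → ℂ) (s * g) = ∑ ξ, c ξ * (ξ : L → ℂ) g) (g : L) (hg : ¬ r ∣ orderOf g) :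
    (ψ : K → ℂ) (s * g) = ∑ ξ with ξ ∈ Th M L ψ, c ξ * (ξ : L → ℂ) g := by
  subst hL
  have := isPrime_of_isPModular hM
  have h1 : ∀ ξ, classInner (fun x : Subgroup.centralizer ({s} : Set K) => (ψ : K → ℂ) (s * x)) ξ.1 = c ξ := fun ξ => by
    rw [← Core.classInner_sum_smul_irr c ξ]
    congr 1
    funext x
    rw [hc, Finset.sum_apply]
    rfl
  rw [hc, ← Finset.sum_filter_add_sum_filter_not Finset.univ (· ∈ Th M _ ψ), add_eq_left,
    ← Finset.sum_fiberwise_of_maps_to (g := fun ξ => blockOf M ξ.1)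
      fun ξ hξ => Finset.mem_image_of_mem (fun ξ : IrrCharacter _ => blockOf M ξ.1) hξ]
  refine Finset.sum_eq_zero fun b hb => ?_
  obtain ⟨ξ₀, h0, rfl⟩ := Finset.mem_image.1 hb
  have h2 := S0923.result r M hM s hs _ (isPBlock_blockOf ψ) ψ (mem_blockOf_self ψ) _ (isPBlock_blockOf ξ₀)
    (Finset.mem_filter.1 h0).2 g hg
  rw [CentralizerSum.blockPart_eq] at h2
  rw [← h2, ← finsum_mem_coe_finset]
  refine finsum_mem_congr (Set.ext fun ξ => ?_) fun ξ _ => by rw [h1]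
  simp only [Finset.coe_filter, Finset.mem_filter, Finset.mem_univ, true_and, Set.mem_setOf_eq]
  refine ⟨fun e => e.2 ▸ mem_blockOf_self ξ, fun e => ?_⟩
  have e1 := (isPBlock_eq_blockOf (isPBlock_blockOf ξ₀) e).symm
  exact ⟨fun e2 => (Finset.mem_filter.1 h0).2 (Th.of_mem hM e2 (e1 ▸ mem_blockOf_self ξ₀)), e1⟩

/-- the hypotheses -/
structure Hy (r w : ℕ) (M : Ideal AlgInt) (S L : Subgroup K) (ψ : IrrCharacter K) : Prop where
  md : IsPModular r M
  lt : w < r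
  sw : Sw w r K
  pg : IsPGroup r S
  cen : Subgroup.centralizer (S : Set K) = L
  tt : Tt r ((Nat.card S).factorization r) ψ

namespace Hy

variable (h : Hy r w M S L ψ)
include h

theorem le : S ≤ L := h.cen ▸ fun a ha b hb =>
  congrArg Subtype.val ((h.sw S h.pg).1.is_comm.comm (⟨b, hb⟩ : S) ⟨a, ha⟩)

theorem comm {s g : K} (hs : s ∈ S) (hg : g ∈ L) : s * g = g * s := (h.cen ▸ hg : g ∈ Subgroup.centralizer (S : Set K)) s hs

theorem central : S.subgroupOf L ≤ Subgroup.center L := fun _ hs =>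
  Subgroup.mem_center_iff.2 fun g => Subtype.ext (h.comm hs g.2).symm

theorem pg' : IsPGroup r (S.subgroupOf L) := h.pg.comap_subtype

theorem cen_eq {s : K} (hs : s ∈ S) (hR : Reg S s) : Subgroup.centralizer ({s} : Set K) = L :=
  h.cen ▸ le_antisymm hR (Subgroup.centralizer_le (Set.singleton_subset_iff.2 hs))

theorem cj_mem {n x : K} (hn : n ∈ Subgroup.normalizer (S : Set K)) (hx : x ∈ L) : n * x * n⁻¹ ∈ L := by
  rw [← h.cen]
  intro s hs
  have h1 := h.comm ((Subgroup.mem_normalizer_iff''.1 hn s).1 hs) hx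
  calc s * (n * x * n⁻¹) = n * (n⁻¹ * s * n * x) * n⁻¹ := by group
    _ = _ := by rw [h1]; group

/-- the defect groups -/
theorem defect {ξ : IrrCharacter L} (hξ : ξ ∈ Th M L ψ) : IsDefectGroup r M (blockOf M (ψ : K → ℂ)) S ∧
    IsDefectGroup r M (blockOf M (ξ : L → ℂ)) (S.subgroupOf L) := by
  have := isPrime_of_isPModular h.md
  obtain ⟨g, hg⟩ := S0906.result r M h.md _ (isPBlock_blockOf ξ)
  obtain ⟨E, hE⟩ : ∃ E, IsDefectGroup r M (blockOf M (ξ : L → ℂ)) E := ⟨_, g, hg, default, rfl⟩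
  obtain ⟨D, hD, h1⟩ := S0917.result r M h.md L _ (isPBlock_blockOf ξ) _ (isPBlock_blockOf ψ) hξ E hE
  have h2 := Mu.mem_of_central h.md (isPBlock_blockOf ξ) hE h.central h.pg'
  have h3 : S ≤ E.map L.subtype := fun s hs => ⟨⟨s, h.le hs⟩, h2 hs, rfl⟩
  have hDp := isPGroup_of_isDefectGroup hD
  have h4 := H648.HeightForm.defect_add (p := r) _ (mem_blockOf_self (M := M) ψ)
  rw [R23.hz h.md (isPBlock_blockOf ψ) hD (h.sw D hDp).1 ((h.sw D hDp).2.trans_lt h.lt) (mem_blockOf_self ψ)] at h4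
  have h5 : S = D := by
    by_contra e
    have h6 := Mu.fac_lt hDp (h3.trans h1) e
    rw [S0908.result r M h.md _ (isPBlock_blockOf ψ) D hD, Nat.factorization_pow_self hr.out] at h6
    have := h.tt
    rw [Tt] at this
    omega
  refine ⟨h5 ▸ hD, ?_⟩
  rwa [show S.subgroupOf L = E from le_antisymm h2 fun x hx => show (x : K) ∈ S from h5 ▸ h1 ⟨x, hx, rfl⟩]

theorem tt' {ξ : IrrCharacter L} (hξ : ξ ∈ Th M L ψ) : Tt r ((Nat.card (S.subgroupOf L)).factorization r) ξ := by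
  have := isPrime_of_isPModular h.md
  have h1 := Mu.df_le h.md (isPBlock_blockOf ξ) (h.defect hξ).2 (mem_blockOf_self ξ)
  have h2 := Mu.df_add (p := r) ξ
  rw [Tt]
  unfold BK.nu at h2
  omega

theorem mx {ξ : IrrCharacter L} (hξ : ξ ∈ Th M L ψ) : Mx r S := by
  rintro z hz ⟨j, hj⟩
  have h1 : z ∈ L := h.cen ▸ fun s hs => hz s (h.cen ▸ h.le hs)
  refine Mu.mem_of_central h.md (isPBlock_blockOf ξ) (h.defect hξ).2 (U := Subgroup.zpowers ⟨z, h1⟩)
    (Subgroup.zpowers_le.2 (Subgroup.mem_center_iff.2 fun g => Subtype.ext (hz g (h.cen ▸ g.2)))) ?_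
    (Subgroup.mem_zpowers _)
  obtain ⟨i, -, hi⟩ := (Nat.dvd_prime_pow hr.out).1 (orderOf_dvd_of_pow_eq_one hj)
  exact IsPGroup.of_card (n := i) (by rw [Nat.card_zpowers, ← hi, ← Subgroup.orderOf_coe])

theorem sup_top : S.subgroupOf L ⊔ Subgroup.centralizer (S.subgroupOf L : Set L) = ⊤ :=
  top_le_iff.1 (le_sup_of_le_right fun g _ _ hs => (Subgroup.mem_center_iff.1 (h.central hs) g).symm)

end Hy

/-- the canonical characters -/
def Th0 (M : Ideal AlgInt) (S L : Subgroup K) (ψ : IrrCharacter K) : Set (IrrCharacter L) :=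
  {θ | θ ∈ Th M L ψ ∧ ∀ x ∈ S.subgroupOf L, (θ : L → ℂ) x = (θ : L → ℂ) 1}

namespace Hy

variable (h : Hy r w M S L ψ)
include h

theorem can {ξ : IrrCharacter L} (hξ : ξ ∈ Th M L ψ) :
    ∃ θ ∈ Th0 M S L ψ, ∀ g, ¬ r ∣ orderOf g → (ξ : L → ℂ) g = (θ : L → ℂ) g := by
  have := isPrime_of_isPModular h.md
  obtain ⟨a, ⟨ha, ha'⟩, -⟩ := (S0968.result r M h.md _ h.pg' h.sup_top _ (isPBlock_blockOf ξ) (h.defect hξ).2).1
  obtain ⟨ζ, hζ, -⟩ := ((S4714.result r M h.md _ h.pg' h.sup_top _ (isPBlock_blockOf ξ) (h.defect hξ).2 a ha ha').1 ξ).1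
    (mem_blockOf_self ξ)
  refine ⟨a, ⟨Th.of_mem h.md hξ ha, ha'⟩, fun g hg => ?_⟩
  have h1 := hζ 1 g hg (Commute.one_left g)
  rwa [CCBasic.irr_apply_one_of_comm (fun u v => Subtype.ext (Subgroup.mem_center_iff.1 (h.central v.2) u)) ζ.2,
    Subgroup.coe_one, one_mul, one_mul] at h1

theorem cj {θ θ' : IrrCharacter L} (h1 : θ ∈ Th0 M S L ψ) (h2 : θ' ∈ Th0 M S L ψ) :
    ∃ (n : K) (hn : n ∈ Subgroup.normalizer (S : Set K)), ∀ x : L, (θ' : L → ℂ) x = (θ : L → ℂ) ⟨n * x * n⁻¹, h.cj_mem hn x.2⟩ := by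
  have := isPrime_of_isPModular h.md
  have h3 : S ⊔ Subgroup.centralizer (S : Set K) = L := by rw [h.cen, sup_eq_right.2 h.le]
  subst h3
  obtain ⟨n, hn, h4⟩ := (S0973.result r M h.md _ (isPBlock_blockOf ψ) S (h.defect h1.1).1).2 _ _ h1.1 h2.1
  obtain ⟨θ'', h5, h6⟩ := h4 θ (mem_blockOf_self θ)
  have h7 : θ'' = θ' := ((S0968.result r M h.md _ h.pg' h.sup_top _ (isPBlock_blockOf θ') (h.defect h2.1).2).1).unique
    ⟨h5, fun x hx => by
      rw [h6 x (h.cj_mem hn x.2), h6 1 (h.cj_mem hn (Subgroup.one_mem _))]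
      exact (h1.2 _ ((Subgroup.mem_normalizer_iff.1 hn x).1 hx)).trans
        (h1.2 _ ((Subgroup.mem_normalizer_iff.1 hn 1).1 S.one_mem)).symm⟩
    ⟨mem_blockOf_self θ', h2.2⟩
  exact ⟨n, hn, fun x => h7 ▸ h6 x _⟩

theorem deg {ξ ξ' : IrrCharacter L} (h1 : ξ ∈ Th M L ψ) (h2 : ξ' ∈ Th M L ψ) : (ξ' : L → ℂ) 1 = (ξ : L → ℂ) 1 := by
  have h0 : ¬ r ∣ orderOf (1 : L) := by rw [orderOf_one]; exact hr.out.not_dvd_one
  obtain ⟨θ, h3, h4⟩ := h.can h1
  obtain ⟨θ', h5, h6⟩ := h.can h2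
  obtain ⟨n, hn, h7⟩ := h.cj h3 h5
  rw [h4 1 h0, h6 1 h0, h7]
  exact congrArg _ (Subtype.ext (by simp))

theorem card_Th0 : (Th0 M S L ψ).ncard ≤ w := by
  rcases (Th0 M S L ψ).eq_empty_or_nonempty with e | ⟨θ, hθ⟩
  · rw [e, Set.ncard_empty]
    exact Nat.zero_le _
  rw [← Set.ncard_image_of_injective _ Subtype.val_injective]
  refine (card_le_relIndex (S := S) (fun n (x : L) => (θ : L → ℂ) ⟨n * x * (n : K)⁻¹, h.cj_mem n.2 x.2⟩) (fun a b e => ?_)
    ?_).trans (h.sw S h.pg).2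
  · funext x
    rw [h.cen] at e
    rw [← irr_conj θ.2 _ ⟨_, h.cj_mem a.2 e⟩]
    refine congrArg _ (Subtype.ext ?_)
    simp only [Subgroup.coe_mul, Subgroup.coe_inv]
    group
  · rintro _ ⟨θ', h1, rfl⟩
    obtain ⟨n, hn, h2⟩ := h.cj hθ h1
    exact ⟨⟨n, hn⟩, funext fun x => (h2 x).symm⟩

/-- `ψ` does not vanish at the regular elements -/
theorem ne_zero {ξ : IrrCharacter L} (hξ : ξ ∈ Th M L ψ) {s : K} (hs : s ∈ S) (hR : Reg S s) : (ψ : K → ℂ) s ≠ 0 := by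
  have := isPrime_of_isPModular h.md
  intro h0
  obtain ⟨θ, hθ, -⟩ := h.can hξ
  have h1 := hθ.1.2.2 θ (mem_blockOf_self θ) ψ (mem_blockOf_self ψ) s
  let T : Set L := {x | IsConj s (x : K) ∧ (x : K) ∈ S}
  have hθ1 := irr_one_ne_zero θ.2
  have h2 : inducedCentralChar L (θ : L → ℂ) s = T.ncard := by
    rw [inducedCentralChar_def, finsum_mem_inter_support_eq _ _ T ?_, finsum_mem_congr rfl (g := fun _ => (1 : ℂ))
      fun x hx => by rw [hθ.2 x hx.2, div_self hθ1], finsum_mem_eq_finite_toFinset_sum _ T.toFinite, Finset.sum_const,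
      Set.ncard_eq_toFinset_card T, nsmul_eq_mul, mul_one]
    refine Set.ext fun x => ⟨fun e => ⟨⟨e.1, by_contra fun e' => e.2 ?_⟩, e.2⟩, fun e => ⟨e.1.1, e.2⟩⟩
    obtain ⟨c, hc⟩ := isConj_iff.1 e.1
    show (θ : L → ℂ) x / _ = 0
    rw [F83.van hr.out h.pg' h.central (h.tt' hθ.1) x x (PPart.isPPart_of_isPGroup ?_) e', zero_div]
    rw [← Subgroup.orderOf_coe, ← hc, ← MulAut.conj_apply, MulEquiv.orderOf_eq]
    exact (Subgroup.orderOf_coe (⟨s, hs⟩ : S)) ▸ IsPGroup.iff_orderOf.1 h.pg ⟨s, hs⟩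
  rw [h2, centralChar_def, h0, mul_zero, zero_div, sub_zero, memLocalIdeal_natCast_iff h.md] at h1
  have h3 : T.ncard ≤ w := by
    refine (card_le_relIndex (S := S) (fun n => (⟨n * s * (n : K)⁻¹, h.cj_mem n.2 (h.le hs)⟩ : L)) (fun a b e => ?_)
      ?_).trans (h.sw S h.pg).2
    · apply Subtype.ext
      have h4 := e s hs
      simp only [Subgroup.coe_mul, Subgroup.coe_inv] at h4
      calc (a : K) * s * (a : K)⁻¹ = a * (s * ((a : K)⁻¹ * b)) * (b : K)⁻¹ := by group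
        _ = _ := by rw [h4]; group
    · rintro x ⟨h4, h5⟩
      obtain ⟨c, hc⟩ := isConj_iff.1 h4
      exact ⟨⟨c, mem_normalizer h.pg (h.mx hξ) hR (hc ▸ h5)⟩, Subtype.ext hc⟩
  have h4 : 0 < T.ncard := (Set.ncard_pos T.toFinite).2 ⟨⟨s, h.le hs⟩, IsConj.refl s, hs⟩
  have h5 := Nat.le_of_dvd h4 h1
  have := h.lt
  omega

end Hy

end Cfsg.Agent.KM.Si.St
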